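import Cfsg.Agent.SRe.BasA
import Cfsg.Agent.Chev.SuzukiSub

/-!
# Standard subgroups of type ²F₄(q): the Suzuki subgroup in coordinates
-/

set_option autoImplicit false
set_option linter.unusedSectionVars false

namespace Cfsg.Lib.SRe

open Subgroup Function Cfsg.Lib.Trans Cfsg.Lib.Oct Cfsg.Lib.Oct.UU Matrix
open Cfsg.Lib.Gold hiding Oc
open Cfsg.Lib.Chev (Tw SzModel szJ szJ_mulVec)
open scoped commutatorElement

namespace M2

/-- A submonoid of a finite group is a subgroup. -/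
def fs {H : Type*} [Group H] [Finite H] (S : Submonoid H) : Subgroup H :=
  { S with
    inv_mem' := fun {g} hg => Submonoid.powers_le.2 hg
      ((isOfFinOrder_of_finite g).mem_powers_iff_mem_zpowers.2 (inv_mem (mem_zpowers g))) }

theorem fs_eq_1' : type_of% @fs.eq_1 := @fs.eq_1

theorem exists_std {F : Type*} [Field F] [Finite F] (τ : Tw F) (big : ∃ x, τ.θ x ≠ x ^ 2) :
    ∃ A : Subgroup (SpecialLinearGroup (Fin 4) F), Nonempty (SzModel τ A) :=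
  ⟨fs { carrier := {g | τ.IsSz g.1}
        one_mem' := show τ.IsSz 1 from τ.Tm_zero ▸ τ.isSz_Tm 0 0
        mul_mem' := fun {a b} ha hb => ⟨(a * b).2, fun p => by
          obtain ⟨p', c, hc, e⟩ := hb.2 p
          obtain ⟨p'', d, hd, e'⟩ := ha.2 p'
          exact ⟨p'', c * d, mul_ne_zero hc hd, by
            change (a.1 * b.1) *ᵥ _ = _
            rw [← mulVec_mulVec, e, mulVec_smul, e', smul_smul]⟩⟩ },
    ⟨⟨SpecialLinearGroup.coeMonoidHom.comp (Subgroup.subtype _),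
      SpecialLinearGroup.coeMonoidHom_injective.comp Subtype.val_injective, fun g => g.2,
      fun A hA => ⟨⟨⟨A, hA.1⟩, hA⟩, rfl⟩, big⟩⟩⟩

variable {K : Type*} [Field K] [TwF K] {ρ : RK K} {G : Type*} [Group G] (O : Oc ρ G)

/-- The element of `W` with given coordinates. -/
def wv (v : Fin 4 → K) (c : K) : UU K := ⟨0, 0, 0, 0, 0, 0, 0, v 3, v 2, v 1, v 0, c⟩

/-- `g` acts on `W / Z` as the matrix `A`. -/
def Ac (g : G) (A : Matrix (Fin 4) (Fin 4) K) : Prop :=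
  ∀ v c, ∃ c', g * O.ι (wv v c) * g⁻¹ = O.ι (wv (A *ᵥ v) c')

theorem wv_eq_1' : type_of% @wv.eq_1 := @wv.eq_1
theorem Ac_eq_1' : type_of% @Ac.eq_1 := @Ac.eq_1

variable {O} {g g' : G} {A B : Matrix (Fin 4) (Fin 4) K}

theorem Ac.one : Ac O 1 1 := fun v c => ⟨c, by simp⟩

theorem Ac.mul (h : Ac O g A) (h' : Ac O g' B) : Ac O (g * g') (A * B) := fun v c => by
  obtain ⟨c', e⟩ := h' v c
  obtain ⟨c'', e'⟩ := h (B *ᵥ v) c'
  exact ⟨c'', by rw [← mulVec_mulVec, ← e', ← e]; group⟩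

theorem Ac.uniq (h : Ac O g A) (h' : Ac O g B) : A = B := ext_iff_mulVec.2 fun v => by
  obtain ⟨c, e⟩ := h v 0
  obtain ⟨c', e'⟩ := h' v 0
  have := O.inj (e.symm.trans e')
  funext i
  fin_cases i
  exacts [congrArg a6 this, congrArg a5 this, congrArg a3 this, congrArg a2 this]

theorem conj_W (a b p q r s c : K) : ∃ c', y8 a * x8 b * ⟨0, 0, 0, 0, 0, 0, 0, p, q, r, s, c⟩ *
    (y8 a * x8 b)⁻¹ = ⟨0, 0, 0, 0, 0, 0, 0, p, q + a * p, r + σ a * q + b * p,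
      s + a * r + (b + σ a * a) * q + (a * b + σ a * a ^ 2 + σ b) * p, c'⟩ :=
  ⟨c + a * σ q + (b + a * σ a) * σ p, by uw⟩

theorem ac_T (a b : K) : Ac O (O.ι (y8 a * x8 b)) ((τK K).Tm a b) := fun v c => by
  obtain ⟨c', e⟩ := conj_W a b (v 3) (v 2) (v 1) (v 0) c
  refine ⟨c', ?_⟩
  rw [← map_inv, ← map_mul, ← map_mul, wv, e]
  congr 1
  ext <;> simp [wv, Tw.Tm, Tw.N, τK, mulVec, dotProduct, Fin.sum_univ_four]

theorem ac_D (β : Kˣ) : Ac O (O.h β) ((τK K).Dm β) := fun v c => ⟨c, by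
  rw [O.hι]
  congr 1
  ext <;> simp [wv, Tw.Dm, τK, mulVec_diagonal, mul_comm]⟩

theorem ac_w : Ac O O.n (szJ K) := fun v c => ⟨c, by
  rw [O.nι (by simp [wv]), ν8_W (by simp [wv]), szJ_mulVec]
  rfl⟩

theorem nf [Finite G] (hg : g ∈ S8 O) : (∃ u ∈ U8 K, ∃ β, g = O.ι u * O.h β) ∨
    ∃ u ∈ U8 K, ∃ β, ∃ v ∈ U8 K, g = O.ι u * O.h β * O.n * O.ι v := by
  let P : G → Prop := fun g => (∃ u ∈ U8 K, ∃ β, g = O.ι u * O.h β) ∨
    ∃ u ∈ U8 K, ∃ β, ∃ v ∈ U8 K, g = O.ι u * O.h β * O.n * O.ι v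
  have h1 : ∀ w ∈ U8 K, ∀ g, P g → P (O.ι w * g) := by
    rintro w hw g (⟨u, hu, β, rfl⟩ | ⟨u, hu, β, v, hv, rfl⟩)
    exacts [.inl ⟨_, mul_mem hw hu, β, by rw [map_mul]; group⟩,
      .inr ⟨_, mul_mem hw hu, β, v, hv, by rw [map_mul]; group⟩]
  have h2 : ∀ γ g, P g → P (O.h γ * g) := by
    rintro γ g (⟨u, hu, β, rfl⟩ | ⟨u, hu, β, v, hv, rfl⟩)
    exacts [.inl ⟨_, tl_mem_U8 γ hu, γ * β, by rw [map_mul, ← O.hι]; group⟩,
      .inr ⟨_, tl_mem_U8 γ hu, γ * β, v, hv, by rw [map_mul, ← O.hι]; group⟩]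
  have h3 : ∀ g, P g → P (O.n * g) := by
    rintro g (⟨u, hu, β, rfl⟩ | ⟨u, hu, β, v, hv, rfl⟩)
    · exact .inr ⟨1, one_mem _, β⁻¹, _, tl_mem_U8 β⁻¹ hu, by
        rw [O.ι_h, map_one, one_mul, ← O.n_h, mul_assoc]⟩
    have e : O.n * (O.ι u * O.h β * O.n * O.ι v) =
        O.n * O.ι u * O.n⁻¹ * (O.h β⁻¹ * O.ι v) := by
      rw [← O.nh]
      nth_rw 2 [← O.n_inv]
      group
    rw [e]
    rcases eq_or_ne u 1 with rfl | h
    · exact .inl ⟨_, tl_mem_U8 β⁻¹ hv, β⁻¹, by rw [map_one, mul_one, mul_inv_cancel, one_mul, O.h_ι]⟩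
    obtain ⟨k1, k2, k3⟩ := O.rk u hu h
    refine .inr ⟨_, k1, (ρ u).2.1 * β, _, mul_mem (tl_mem_U8 β k2) hv, ?_⟩
    rw [k3, map_mul, map_mul, ← O.hι, map_inv]
    nth_rw 1 [← O.h_n_h β]
    group
  have h4 : S8 O ≤ fs
      { carrier := {a | ∀ g, P g → P (a * g)}
        one_mem' := fun g h => by rwa [one_mul]
        mul_mem' := fun ha hb g h => by rw [mul_assoc]; exact ha _ (hb g h) } :=
    (S8_le_iff O).2 ⟨fun a => h1 _ (by simp), fun a => h1 _ (by simp), h2, h3⟩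
  simpa only [mul_one] using h4 hg 1 (.inl ⟨1, one_mem _, 1, by simp⟩)

theorem exists_equiv [Finite G] {H : Type*} [Group H] [Finite H] (M : SzModel (τK K) H) :
    ∃ e : S8 O ≃* H, (∀ a b, (e.symm (M.T a b) : G) = O.ι (y8 a * x8 b)) ∧
      (e.symm M.w : G) = O.n ∧ ∀ β, (e.symm (M.D β) : G) = O.h β := by
  have hT : ∀ a b, Ac O (O.ι (y8 a * x8 b)) (M.ρ (M.T a b)) := fun a b => M.ρ_T a b ▸ ac_T a b
  have hD : ∀ β, Ac O (O.h β) (M.ρ (M.D β)) := fun β => M.ρ_D β ▸ ac_D β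
  have hw : Ac O O.n (M.ρ M.w) := M.ρ_w ▸ ac_w
  have hm : ∀ {g g' A B}, Ac O g (M.ρ A) → Ac O g' (M.ρ B) → Ac O (g * g') (M.ρ (A * B)) :=
    fun h h' => map_mul M.ρ _ _ ▸ h.mul h'
  have h1 : S8 O ≤ fs
      { carrier := {g | ∃ A, Ac O g (M.ρ A)}
        one_mem' := ⟨1, map_one M.ρ ▸ Ac.one⟩
        mul_mem' := fun ⟨_, ha⟩ ⟨_, hb⟩ => ⟨_, hm ha hb⟩ } :=
    (S8_le_iff O).2 ⟨fun a => ⟨_, (show y8 a * x8 0 = y8 a by uu) ▸ hT a 0⟩,
      fun a => ⟨_, (show y8 0 * x8 a = x8 a by uu) ▸ hT 0 a⟩, fun β => ⟨_, hD β⟩, ⟨_, hw⟩⟩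
  choose f hf using fun g : S8 O => h1 g.2
  let φ : S8 O →* H := MonoidHom.mk' f fun a b => M.ρ_inj ((hf _).uniq (hm (hf a) (hf b)))
  have hφ : ∀ {g : S8 O} {A}, Ac O g (M.ρ A) → φ g = A := fun h => M.ρ_inj ((hf _).uniq h)
  have mT : ∀ a b, O.ι (y8 a * x8 b) ∈ S8 O := fun a b => U8_le_S8 O (by simp)
  have inj : Injective φ := (injective_iff_map_eq_one φ).2 fun ⟨g, hg⟩ e => by
    rcases nf hg with ⟨u, hu, β, rfl⟩ | ⟨u, hu, β, v, hv, rfl⟩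
    · have k := hm (hT u.b8 u.a8) (hD β)
      rw [← eq_of_mem_U8 hu] at k
      obtain ⟨e1, e2, rfl⟩ := M.TD_inj (c := 0) (d := 0) (k := 1) (((hφ k).symm.trans e).trans (by simp))
      refine Subtype.ext (show O.ι u * O.h 1 = 1 from ?_)
      rw [eq_of_mem_U8 hu, e1, e2, show y8 0 * x8 0 = (1 : UU K) by uu]
      simp
    · have k := hm (hm (hm (hT u.b8 u.a8) (hD β)) hw) (hT v.b8 v.a8)
      rw [← eq_of_mem_U8 hu, ← eq_of_mem_U8 hv] at k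
      have := congrArg (· • M.inf) ((hφ k).symm.trans e)
      simp only [mul_smul, M.T_smul_inf, M.w_smul_inf, M.D_smul_pt, M.T_smul_pt, one_smul] at this
      exact (M.pt_ne_inf _ _ this).elim
  have e1 : ∀ a b, φ ⟨_, mT a b⟩ = M.T a b := fun a b => hφ (hT a b)
  have e2 : φ ⟨_, n_mem_S8 O⟩ = M.w := hφ hw
  have e3 : ∀ β, φ ⟨_, h_mem_S8 O β⟩ = M.D β := fun β => hφ (hD β)
  let e := MulEquiv.ofBijective φ ⟨inj, MonoidHom.range_eq_top.1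
    (M.eq_top_of_mem (fun a b => ⟨_, e1 a b⟩) (fun β => ⟨_, e3 β⟩) ⟨_, e2⟩)⟩
  exact ⟨e, fun a b => congrArg Subtype.val (e.symm_apply_eq.2 (e1 a b).symm),
    congrArg Subtype.val (e.symm_apply_eq.2 e2.symm),
    fun β => congrArg Subtype.val (e.symm_apply_eq.2 (e3 β).symm)⟩

end M2

variable {K : Type*} [Field K] [TwF K] {ρ : RK K} {G : Type*} [Group G] [Finite K] [Finite G]

theorem m_sz (O : Oc ρ G) (q : 8 ≤ Nat.card K) : ∃ M : SzModel (τK K) (S4 O),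
    (∀ a b, (M.T a b : G) = O.ι (y4 a * x4 b)) ∧ (M.w : G) = n4 O ∧ ∀ β, (M.D β : G) = h4 O β := by
  have := Fintype.ofFinite K
  obtain ⟨A, ⟨M⟩⟩ := M2.exists_std (τK K) ((τK K).big_of_card (by
    rw [← Nat.card_eq_fintype_card]; omega))
  obtain ⟨e, e1, e2, e3⟩ := M2.exists_equiv (O := O) M
  let c : S8 O ≃* S4 O := (MulAut.conj (rw O 6)).subgroupMap (S8 O)
  have hc : ∀ g, (c g : G) = rot O 6 g := fun _ => rfl
  refine ⟨M.ofEquiv (c.symm.trans e), fun a b => ?_, ?_, fun β => ?_⟩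
  · rw [M.ofEquiv_T]
    exact (hc _).trans ((congrArg _ (e1 a b)).trans (by
      rw [map_mul, map_mul, rot_mul, rot6_y8, rot6_x8]))
  · rw [M.ofEquiv_w]
    exact (hc _).trans (congrArg _ e2)
  · rw [M.ofEquiv_D]
    exact (hc _).trans (congrArg _ (e3 β))

end Cfsg.Lib.SRe
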