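import Cfsg.Agent.SRe.ApiA
import Cfsg.Agent.Chev.ToralT

/-!
# The centraliser in `L` of the torus of the Suzuki group
-/

set_option autoImplicit false
set_option linter.unusedSectionVars false
set_option linter.unusedSimpArgs false
set_option maxRecDepth 100000

namespace Cfsg.Lib.SRe

open Subgroup Function Cfsg.Lib.Trans Cfsg.Lib.Oct Cfsg.Lib.Oct.UU
open Cfsg.Lib.Gold hiding Oc
open Cfsg.Lib.Chev (Tw SzModel)
open scoped commutatorElement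

universe u

variable {K : Type*} [Field K] [TwF K] {ρ : RK K} {G : Type u} [Group G]
variable [Finite K] [Finite G] {O : Oc ρ G} {t : G} {y : Bool → K → G} {g : G}

namespace M5

theorem mem_Zk {k : ZMod 8} : g ∈ cj (rw O k) O.Z ↔ ∃ a, cz O k a = g := by
  constructor
  · rintro ⟨_, ⟨u, hu, rfl⟩, rfl⟩
    exact ⟨u.a4, by rw [eq_of_mem_Z hu]; rfl⟩
  · rintro ⟨a, rfl⟩
    exact rot_mem_cj O |>.2 (x4_mem_Z O a)

theorem η_Zk (p : Kˣ × Kˣ) (k : ZMod 8) : O.η p ∈ Ns (cj (rw O k) O.Z) := by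
  refine Subgroup.mem_normalizer_fintype fun x hx => ?_
  obtain ⟨a, rfl⟩ := mem_Zk.1 hx
  obtain ⟨c, -, hc⟩ := η_cz O p k
  exact mem_Zk.2 ⟨_, (hc a).symm⟩

theorem φ_Z (w : Cx.W8) : ∃ k, cj (Cx.φ O w) O.Z = cj (rw O k) O.Z := by
  cases w with
  | r i => exact ⟨i, rfl⟩
  | sr i =>
    refine ⟨1 - i, ?_⟩
    have e : Cx.φ O (.sr i) = O.m * rw O i := rfl
    rw [e, cj_mul]
    refine eq_of_le_of_card_ge (cj_le_iff.2 fun x hx => ?_) (by simp only [card_cj]; rfl)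
    obtain ⟨a, rfl⟩ := mem_Zk.1 hx
    exact mem_Zk.2 ⟨a, (m_cz O i a).symm⟩

theorem fix_tl {β : Kˣ} (hβ : β ≠ 1) {v : UU K} (h : tl β v = v) : v ∈ U4 K := by
  have k : ∀ {c x : K}, c ≠ 1 → c * x = x → x = 0 := fun hc e => by
    by_contra h0
    exact hc (mul_right_cancel₀ h0 (e.trans (one_mul _).symm))
  have b1 : (β : K) ≠ 1 := fun e => hβ (Units.ext e)
  have n1 := N1_ne hβ
  refine ⟨k (inv_ne_one.2 n1) ?_, k (σ_ne hβ) ?_, k (inv_ne_one.2 b1) ?_, k (N2_ne hβ) ?_, k b1 ?_,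
    k n1 ?_, k (inv_ne_one.2 n1) ?_, k (inv_ne_one.2 b1) ?_, k b1 ?_, k n1 ?_⟩
  exacts [by rw [← tl_a1, h], by rw [← tl_b8, h], by rw [← tl_b2, h], by rw [← tl_a8, h],
    by rw [← tl_b6, h], by rw [← tl_a7, h], by rw [← tl_a2, h], by rw [← tl_a3, h],
    by rw [← tl_a5, h], by rw [← tl_a6, h]]

theorem fix_h {β : Kˣ} (hβ : β ≠ 1) {v : UU K} (h : Commute (O.h β) (O.ι v)) : v ∈ U4 K :=
  fix_tl hβ (O.inj (by rw [← O.hι, h.eq, mul_inv_cancel_right]))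

theorem k04 {β : Kˣ} (hβ : β ≠ 1) {k : ZMod 8} (h : Commute (O.h β) (cz O k 1)) : k = 0 ∨ k = 4 := by
  have r4 : ∀ γ, rot O 4 (O.h γ) = O.h γ⁻¹ := fun γ => by
    rw [show (4 : ZMod 8) = 2 + 2 from rfl, ← rot_rot, rot2_h, rot2_h4]
  have h' := rot_commute O 4 h
  rw [r4, rot_cz] at h'
  have c : ∀ {γ : Kˣ}, γ ≠ 1 → ∀ j : ZMod 8, j = 1 ∨ j = 2 ∨ j = 7 → ¬ Commute (O.h γ) (cz O j 1) := by
    rintro γ hγ j (rfl | rfl | rfl) e
    · rw [cz1] at e; simpa using fix_h hγ e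
    · rw [cz2] at e; simpa using fix_h hγ e
    · rw [cz7] at e; simpa using fix_h hγ e
  have key : ∀ k : ZMod 8, (k = 0 ∨ k = 4) ∨ (k = 1 ∨ k = 2 ∨ k = 7) ∨
      (4 + k = 1 ∨ 4 + k = 2 ∨ 4 + k = 7) := by decide
  rcases key k with e | e | e
  · exact e
  · exact absurd h (c hβ k e)
  · exact absurd h' (c (inv_ne_one.2 hβ) _ e)

theorem last (q : 2 < Nat.card K) (h1 : g ∈ O.GG) (h2 : g ∈ Cs O.h.range) (h3 : g ∈ Ns O.Z) :
    ∃ a ∈ S4 O, ∃ β, g = a * O.h β := by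
  obtain ⟨c, hc⟩ := O.mem_Z.1 ((mem_normalizer_iff.1 h3 _).1 (x4_mem_Z O 1))
  have c0 : c ≠ 0 := by
    rintro rfl
    rw [x4_zero, map_one] at hc
    exact ι_ne O (u := x4 1) (by simp) (by simpa using hc.symm)
  obtain ⟨β, hβ⟩ := exists_N2u c0
  have e := h4_x4 O β 1
  rw [mul_one, hβ, hc] at e
  have m1 : (h4 O β)⁻¹ * g ∈ O.C := by
    refine mem_C_of O (mul_mem (inv_mem (S4_le O (h4_mem O β))) h1) (com_of ?_)
    calc (h4 O β)⁻¹ * g * O.ι (x4 1) * ((h4 O β)⁻¹ * g)⁻¹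
        = (h4 O β)⁻¹ * (g * O.ι (x4 1) * g⁻¹) * h4 O β := by group
      _ = _ := by rw [← e]; group
  obtain ⟨u, hu, γ, e2⟩ := O.cent_h q m1 fun δ =>
    (Cs_com (S8_S4 O (h_mem_S8 O δ)) (h4_mem O β)).symm.inv_left.mul_left (Cs_com h2 ⟨δ, rfl⟩)
  exact ⟨h4 O β * O.ι u, mul_mem (h4_mem O β) (U4_le_S4 O hu), γ, by rw [mul_assoc, ← e2]; group⟩

end M5

open M5 in
theorem m_cH (O : Oc ρ G) (q : 8 ≤ Nat.card K) :
    ∀ g ∈ O.GG, g ∈ Cs O.h.range → ∃ a ∈ S4 O, ∃ β, g = a * O.h β := by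
  have : Fact (Nat.Prime 2) := ⟨Nat.prime_two⟩
  intro g g1 g2
  have q2 : 2 < Nat.card K := by omega
  obtain ⟨β, hβ⟩ := exists_unit_ne q2
  obtain ⟨u, w, p, v, e⟩ := Cx.bruhat O g1
  obtain ⟨k, hk⟩ := φ_Z (O := O) w
  set Y := cj (rw O k) O.Z with hY
  have e1 : cj g O.Z = cj (O.ι u) Y := by
    have := η_Zk (O := O) p 0
    rw [rw_zero, cj_one] at this
    rw [e, cj_mul, cj_mul, cj_mul, cj_eq_of_mem_centralizer (O.C_le_CZ (O.ι_mem v)),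
      cj_eq_of_mem_normalizer this, hk]
  have c1 : O.h β ∈ Cs (cj g O.Z) := by
    refine com_Cs ?_
    rintro _ ⟨z, hz, rfl⟩
    have := (Cs_com g2 ⟨β, rfl⟩).symm
    exact (this.mul_right (Cs_com (O.C_le_CZ (O.h_mem β)) hz)).mul_right this.inv_right
  have c2 : (O.ι u)⁻¹ * O.h β * O.ι u ∈ Cs Y := by
    rw [e1] at c1
    exact mem_cj.1 ((cj_centralizer _ _).ge c1)
  have n1 : O.h β ∈ Ns Y := by rw [O.hη]; exact η_Zk _ k
  have h2 : IsPGroup 2 (O.S ⊓ Ns Y : Subgroup G) := O.S_two.to_le inf_le_left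
  have ho : Odd (orderOf (O.h β)) :=
    (odd_units K).of_dvd_nat ((orderOf_map_dvd _ _).trans (orderOf_dvd_natCard β))
  obtain ⟨j, hj⟩ := IsPGroup.iff_card.1 h2
  have cop : (Nat.card (O.S ⊓ Ns Y : Subgroup G)).Coprime (orderOf (O.h β)) := by
    rw [hj]; exact (Nat.coprime_two_left.2 ho).pow_left j
  have := h2.isNilpotent
  obtain ⟨y, ⟨⟨y, rfl⟩, hy⟩, e2⟩ := Chev.exists_conj_eq_of_coprime (U := O.S ⊓ Ns Y) inferInstance
    (b := (O.ι u)⁻¹ * O.h β * O.ι u) (t := O.h β)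
    (mem_inf.2 ⟨⟨u⁻¹ * tl β u, by rw [map_mul, map_inv, ← O.hι]; group⟩,
      mul_mem (centralizer_le_normalizer _ c2) (inv_mem n1)⟩)
    (by
      refine Subgroup.mem_normalizer_fintype fun x hx => mem_inf.2 ⟨?_, ?_⟩
      · exact (mem_normalizer_iff.1 (O.B_le_NS (O.h_B β)) x).1 hx.1
      · exact mul_mem (mul_mem n1 (mem_inf.1 hx).2) (inv_mem n1))
    (by
      have : orderOf ((O.ι u)⁻¹ * O.h β * O.ι u) = orderOf (O.h β) := by
        simpa using (MulAut.conj (O.ι u)⁻¹).orderOf_eq (O.h β)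
      rwa [this]) cop
  replace hy : O.ι y ∈ Ns Y := hy
  have c3 : O.h β ∈ Cs Y := by
    rw [← e2, ← cj_eq_of_mem_normalizer hy]
    exact (cj_centralizer _ _).le (conj_mem_cj.2 c2)
  have u4 : u * y⁻¹ ∈ U4 K := by
    refine fix_h (O := O) hβ ?_
    rw [map_mul, map_inv]
    change _ * _ = _ * _
    calc O.h β * (O.ι u * (O.ι y)⁻¹)
        = O.ι u * (O.ι y)⁻¹ * (O.ι y * ((O.ι u)⁻¹ * O.h β * O.ι u) * (O.ι y)⁻¹) := by group
      _ = _ := by rw [e2]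
  have e3 : cj g O.Z = cj (O.ι (u * y⁻¹)) Y := by
    rw [e1, map_mul, cj_mul, map_inv, cj_eq_of_mem_normalizer (inv_mem hy)]
  have fin : ∀ a ∈ S4 O, cj g O.Z = cj a O.Z → ∃ a ∈ S4 O, ∃ β, g = a * O.h β := fun a ha e => by
    obtain ⟨b, hb, γ, e'⟩ := last (g := a⁻¹ * g) q2 (mul_mem (inv_mem (S4_le O ha)) g1)
      (mul_mem (inv_mem (com_Cs (by
        rintro _ ⟨δ, rfl⟩
        exact (Cs_com (S8_S4 O (h_mem_S8 O δ)) ha).symm))) g2)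
      (cj_eq_self_iff.1 (by rw [cj_mul, e, cj_inv_cj]))
    exact ⟨a * b, mul_mem ha hb, γ, by rw [mul_assoc, ← e']; group⟩
  rcases k04 hβ (Cs_com c3 (mem_Zk.2 ⟨1, rfl⟩)) with rfl | rfl
  · refine fin _ (U4_le_S4 O u4) ?_
    rw [e3, hY, rw_zero, cj_one]
  · refine fin _ (mul_mem (U4_le_S4 O u4) (n4_mem O)) ?_
    rw [e3, hY, cj_mul, n4_eq, cj_mul, cj_eq_of_mem_centralizer (O.C_le_CZ O.n_mem)]

end Cfsg.Lib.SRe
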