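import Cfsg.Agent.SRe.Api

/-!
# Standard subgroups of type ²F₄(q): `t` is conjugate to `t x₄(1)`
-/

set_option autoImplicit false
set_option linter.unusedSectionVars false

namespace Cfsg.Lib.SRe

open Subgroup Function Cfsg.Lib.Trans Cfsg.Lib.Oct Cfsg.Lib.Oct.UU
open Cfsg.Lib.Gold hiding Oc
open Cfsg.Lib.Chev (Tw SzModel)
open scoped commutatorElement

namespace P1a

section Pure

variable {G : Type*} [Group G] {L T : Subgroup G} {l l' c c' : G}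

theorem sw (hc : c ∈ Cs L) (hl' : l' ∈ L) (l c' : G) : l * c * (l' * c') = l * l' * (c * c') :=
  (Cs_com hc hl').mul_mul_mul_comm l c'

/-- The projection of `T` to `L`. -/
def pL (L T : Subgroup G) : Subgroup G where
  carrier := {l | l ∈ L ∧ ∃ c ∈ Cs L, l * c ∈ T}
  one_mem' := ⟨one_mem _, 1, one_mem _, by simp⟩
  mul_mem' := by
    rintro l l' ⟨hl, c, hc, e⟩ ⟨hl', c', hc', e'⟩
    exact ⟨mul_mem hl hl', c * c', mul_mem hc hc', sw hc hl' l c' ▸ mul_mem e e'⟩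
  inv_mem' := by
    rintro l ⟨hl, c, hc, e⟩
    exact ⟨inv_mem hl, c⁻¹, inv_mem hc, by
      rw [← mul_inv_rev, (Cs_com hc hl).eq]; exact inv_mem e⟩

/-- The projection of `T` to `C(L)`. -/
def pC (L T : Subgroup G) : Subgroup G where
  carrier := {c | c ∈ Cs L ∧ ∃ l ∈ L, l * c ∈ T}
  one_mem' := ⟨one_mem _, 1, one_mem _, by simp⟩
  mul_mem' := by
    rintro c c' ⟨hc, l, hl, e⟩ ⟨hc', l', hl', e'⟩
    exact ⟨mul_mem hc hc', l * l', mul_mem hl hl', sw hc hl' l c' ▸ mul_mem e e'⟩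
  inv_mem' := by
    rintro c ⟨hc, l, hl, e⟩
    exact ⟨inv_mem hc, l⁻¹, inv_mem hl, by
      rw [← mul_inv_rev, (Cs_com hc hl).eq]; exact inv_mem e⟩

theorem cm (hl : l ∈ L) (hl' : l' ∈ L) (hc : c ∈ Cs L) (hc' : c' ∈ Cs L) (e : Commute c c') :
    ⁅l * c, l' * c'⁆ = ⁅l, l'⁆ := by
  rw [commutatorElement_def, mul_assoc, ← mul_inv_rev, sw hc hl', sw hc' hl, e.eq, mul_inv_rev,
    mul_assoc, mul_inv_cancel_left, commutatorElement_def, mul_inv_rev, mul_assoc (l * l')]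

theorem cm1 (hl : l ∈ L) (hl' : l' ∈ L) (hc : c ∈ Cs L) : ⁅l * c, l'⁆ = ⁅l, l'⁆ := by
  simpa using cm hl hl' hc (one_mem _) (Commute.one_right c)

theorem cmm (hl : l ∈ L) (hl' : l' ∈ L) : ⁅l, l'⁆ ∈ L :=
  mul_mem (mul_mem (mul_mem hl hl') (inv_mem hl)) (inv_mem hl')

theorem c5_map {G' : Type*} [Group G'] (φ : G →* G') (a b c d e : G) :
    φ (c5 a b c d e) = c5 (φ a) (φ b) (φ c) (φ d) (φ e) := by
  simp only [c5, map_commutatorElement]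

end Pure

variable {K : Type*} [Field K] [TwF K] {ρ : RK K} {G : Type*} [Group G] [Finite K] [Finite G]
  {O : Oc ρ G} {t g : G} {T : Subgroup G}

theorem two_pL (hT : IsPGroup 2 T) : IsPGroup 2 (pL O.GG T) := fun ⟨l, hl, c, hc, e⟩ => by
  obtain ⟨k, hk⟩ := hT ⟨_, e⟩
  exact ⟨k, Subtype.ext (pow_snd hl hc (congrArg Subtype.val hk)).1⟩

theorem two_pC (hT : IsPGroup 2 T) : IsPGroup 2 (pC O.GG T) := fun ⟨c, hc, l, hl, e⟩ => by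
  obtain ⟨k, hk⟩ := hT ⟨_, e⟩
  exact ⟨k, Subtype.ext (pow_snd hl hc (congrArg Subtype.val hk)).2⟩

theorem dec (h : Hy O t) (hT : IsPGroup 2 T) (h1 : T ≤ C1 t) (hg : g ∈ T) :
    ∃ l ∈ pL O.GG T, ∃ c ∈ pC O.GG T, g = l * c := by
  obtain ⟨k, hk⟩ := hT ⟨_, hg⟩
  obtain ⟨l, hl, hc⟩ := h.out g (h.cn (h1 hg)) k (congrArg Subtype.val hk)
  exact ⟨l, ⟨hl, _, hc, by simpa using hg⟩, _, ⟨hc, l, hl, by simpa using hg⟩, by simp⟩

theorem cyc (h : Hy O t) (hT : IsPGroup 2 T) (h1 : T ≤ Cs O.GG) : ∃ r, T = zpowers r := by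
  obtain ⟨r, hr⟩ := (Subgroup.isCyclic_iff_exists_zpowers_eq_top _).1 (h.cyc T hT h1)
  exact ⟨r, hr.symm⟩

theorem com (h : Hy O t) (hT : IsPGroup 2 T) {c c' : G} (hc : c ∈ pC O.GG T) (hc' : c' ∈ pC O.GG T) :
    Commute c c' := by
  obtain ⟨r, hr⟩ := cyc h (two_pC (O := O) hT) fun _ h => h.1
  rw [hr] at hc hc'
  obtain ⟨i, rfl⟩ := hc
  obtain ⟨j, rfl⟩ := hc'
  exact Commute.zpow_zpow_self r i j

theorem two_sup {c : G} (hc : Commute c t) {k : ℕ} (e : c ^ 2 ^ k = 1) (t2 : t * t = 1) :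
    IsPGroup 2 (zpowers c ⊔ zpowers t : Subgroup G) := by
  have k : ∀ {a : G} {k : ℕ}, a ^ 2 ^ k = 1 → IsPGroup 2 (zpowers a) := fun {a k} e ⟨_, i, rfl⟩ =>
    ⟨k, Subtype.ext (by
      change (a ^ i) ^ 2 ^ k = 1
      rw [← zpow_natCast, ← zpow_mul, mul_comm, zpow_mul, zpow_natCast, e, one_zpow])⟩
  refine (k e).to_sup_of_normal_right' (k (k := 1) (by rw [pow_one, pow_two, t2])) ?_
  exact zpowers_le.2 (centralizer_le_normalizer _ (com_Cs (by rintro _ ⟨i, rfl⟩; exact hc.zpow_right i)))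

theorem uniq {r a b : G} (ha : a ∈ zpowers r) (hb : b ∈ zpowers r) (a2 : a * a = 1) (b2 : b * b = 1)
    (a1 : a ≠ 1) (b1 : b ≠ 1) : a = b := by
  classical
  have : Fintype (zpowers r) := Fintype.ofFinite _
  have o : ∀ {a : G} (ha : a ∈ zpowers r), a * a = 1 → a ≠ 1 → orderOf (⟨a, ha⟩ : zpowers r) = 2 :=
    fun ha a2 a1 => orderOf_eq_prime (Subtype.ext (by simpa [pow_two] using a2))
      fun e => a1 (congrArg Subtype.val e)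
  have h := IsCyclic.card_orderOf_eq_totient (α := zpowers r) (o ha a2 a1 ▸ orderOf_dvd_card)
  rw [Nat.totient_two] at h
  exact congrArg Subtype.val (Finset.card_le_one.1 h.le ⟨a, ha⟩ (by simp [o ha a2 a1]) ⟨b, hb⟩
    (by simp [o hb b2 b1]))

theorem inv_eq (h : Hy O t) {c : G} (hc : c ∈ Cs O.GG) (ht : Commute c t) (c2 : c * c = 1) :
    c = 1 ∨ c = t := by
  obtain ⟨r, hr⟩ := cyc h (two_sup ht (k := 1) (by rw [pow_one, pow_two, c2]) h.t2)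
    (sup_le (zpowers_le.2 hc) (zpowers_le.2 h.tc))
  exact or_iff_not_imp_left.2 fun c1 => uniq (hr ▸ mem_sup_left (mem_zpowers c))
    (hr ▸ mem_sup_right (mem_zpowers t)) c2 h.t2 c1 h.t1

/-- The conjugates of `t` commuting with `t`. -/
theorem cls (h : H0 O t) (h1 : g * t * g⁻¹ ≠ t) (h2 : Commute (g * t * g⁻¹) t) : ∃ x ∈ O.GG, ∃ c,
    (c = 1 ∨ c = t) ∧ (x * g * t * (x * g)⁻¹ = O.ι (x4 1) * c ∨ x * g * t * (x * g)⁻¹ = O.ι (x5 1) * c) := by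
  have s2 : (g * t * g⁻¹) ^ 2 = 1 := by rw [conj_pow, pow_two, h.t2]; group
  obtain ⟨l, hl, hc⟩ := h.out _ (h.cn (mem_centralizer_singleton_iff.2 h2)) 1 s2
  obtain ⟨c, e⟩ : ∃ c, g * t * g⁻¹ = l * c := ⟨l⁻¹ * (g * t * g⁻¹), by group⟩
  rw [e, inv_mul_cancel_left] at hc
  rw [e] at s2 h1 h2
  obtain ⟨l2, c2⟩ := pow_snd hl hc s2
  rw [pow_two] at l2 c2
  have hc' := inv_eq h.toHy hc (by simpa using (h.tL hl).symm.inv_left.mul_left h2) c2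
  rcases h.cls l hl l2 with rfl | ⟨x, hx, e'⟩
  · rw [one_mul] at e h1
    exact (h.t1 (conj_eq_one_iff.1 (e.trans (hc'.resolve_right h1)))).elim
  · refine ⟨x, hx, c, hc', ?_⟩
    have : x * g * t * (x * g)⁻¹ = x * l * x⁻¹ * c := by
      rw [show x * g * t * (x * g)⁻¹ = x * (g * t * g⁻¹) * x⁻¹ by group, e, ← mul_assoc, mul_assoc _ c,
        (Cs_com hc (inv_mem hx)).eq, ← mul_assoc]
    rw [this]
    exact e'.imp (fun e => by rw [e]) fun e => by rw [e]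

theorem cj_le (e : ∀ a ∈ T, Commute a (g * t * g⁻¹)) : cj g⁻¹ T ≤ C1 t :=
  cj_le_iff.2 fun a ha => mem_centralizer_singleton_iff.2 (by
    simpa [mul_assoc] using ((e a ha).map (MulAut.conj g⁻¹)).eq)

theorem nz (h : H0 O t) : g * t * g⁻¹ ≠ O.ι (x4 1) := fun e => by
  have hT := isPGroup_cj O.S_two g⁻¹
  have h1 : cj g⁻¹ O.S ≤ C1 t := cj_le fun a ha => e ▸ Cs_com (O.C_le_CZ (O.S_le ha)) (x4_mem_Z O 1)
  obtain ⟨l, hl, c, hc, e1⟩ := dec h.toHy hT h1 (conj_mem_cj.2 ⟨x6 1, rfl⟩)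
  obtain ⟨l', hl', c', hc', e2⟩ := dec h.toHy hT h1 (conj_mem_cj.2 ⟨x1 1, rfl⟩)
  have := cmm hl.1 hl'.1
  rw [← cm hl.1 hl'.1 hc.1 hc'.1 (com h.toHy hT hc hc'), ← e1, ← e2, ← conjugate_commutatorElement,
    ← map_commutatorElement, ← x4_eq, ← e] at this
  exact h.t_not (by simpa [mul_assoc] using this)

theorem y2x5 (s : K) : y2 s * x5 1 * (y2 s)⁻¹ = x5 1 * x4 s := by uu

end P1a

open P1a

variable {K : Type*} [Field K] [TwF K] {ρ : RK K} {G : Type*} [Group G] [Finite K] [Finite G]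
  {O : Oc ρ G} {t : G}

theorem p1a (h : H0 O t) : ∃ g, g * t * g⁻¹ = t * O.ι (x4 1) := by
  by_contra! hn
  have red : ∀ g, g * t * g⁻¹ ≠ t → Commute (g * t * g⁻¹) t → ∃ x ∈ O.GG, ∃ c, (c = 1 ∨ c = t) ∧
      x * g * t * (x * g)⁻¹ = O.ι (x5 1) * c := fun g h1 h2 => by
    obtain ⟨x, hx, c, hc, e | e⟩ := cls h h1 h2
    · rcases hc with rfl | rfl
      · exact (nz h (e.trans (mul_one _))).elim
      · exact (hn _ (e.trans (h.tι _).eq.symm)).elim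
    · exact ⟨x, hx, c, hc, e⟩
  have cL : ∀ {c l : G}, c = 1 ∨ c = t → l ∈ O.GG → Commute c l := fun hc hl => by
    rcases hc with rfl | rfl
    exacts [Commute.one_left _, h.tL hl]
  have ct : ∀ {c a : G}, c = 1 ∨ c = t → Commute a t → Commute a c := fun hc ha => by
    rcases hc with rfl | rfl
    exacts [Commute.one_right _, ha]
  obtain ⟨g₀, a1, a2⟩ := h.fus
  obtain ⟨x₀, -, c, hc, e⟩ := red g₀ a1 a2
  generalize x₀ * g₀ = g at e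
  have a3 : Commute (g * t * g⁻¹) t := e ▸ (h.tι _).symm.mul_left (ct hc (Commute.refl t)).symm
  obtain ⟨x₁, hx₁, c', hc', e'⟩ := red g⁻¹ (fun e' => by
    have : g * t * g⁻¹ = t := by conv_lhs => rw [← e']
                                 group
    rw [this] at e
    rcases hc with rfl | rfl
    · exact h.t_not (by rw [e, mul_one]; exact ι_mem_L O _)
    · exact ι_ne O (by simp) (right_eq_mul.1 e)) (by
      simpa [mul_assoc] using (a3.map (MulAut.conj g⁻¹)).symm)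
  obtain ⟨g, rfl⟩ : ∃ g₁, g = g₁ * x₁ := ⟨g * x₁⁻¹, by group⟩
  rw [show g * x₁ * t * (g * x₁)⁻¹ = g * (x₁ * t * x₁⁻¹) * g⁻¹ by group, ← (h.tL hx₁).eq,
    mul_inv_cancel_right] at e
  rw [show x₁ * (g * x₁)⁻¹ = g⁻¹ by group] at e'
  have hT := isPGroup_cj h.s5.isPGroup g⁻¹
  have m1 : ∀ a ∈ (T5 K).map O.ι, Commute a (O.ι (x5 1)) ∧ a ∈ O.GG := fun a ha =>
    ⟨mem_centralizer_singleton_iff.1 (h.s5.le ha).2, (h.s5.le ha).1⟩
  have h1 : cj g⁻¹ ((T5 K).map O.ι) ≤ C1 t := cj_le fun a ha =>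
    e ▸ (m1 a ha).1.mul_right (cL hc (m1 a ha).2).symm
  obtain ⟨x, hx, hle⟩ := h.s5.exists_cj_le (two_pL (O := O) hT) (fun l ⟨hl, d, hd, m⟩ => ⟨hl, by
    have b1 : Commute (l * d) (O.ι (x5 1) * c') := by
      obtain ⟨a, ha, e1⟩ := m
      rw [← e', ← e1]
      exact (h.tL (m1 a ha).2).symm.map (MulAut.conj g⁻¹)
    have b2 := ct hc' (mem_centralizer_singleton_iff.1 (h1 m))
    have b3 := b1.mul_right b2.inv_right
    rw [mul_inv_cancel_right] at b3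
    have b4 := b3.mul_left (Cs_com hd (ι_mem_L O _)).inv_left
    rw [mul_inv_cancel_right] at b4
    exact mem_centralizer_singleton_iff.2 b4⟩)
  obtain ⟨u₁, m₁, u₂, m₂, u₃, m₃, u₄, m₄, u₅, m₅, ne⟩ := h.g5'
  have k : ∀ u ∈ T5 K, ∃ v ∈ T5 K, ∃ l ∈ O.GG, ∃ d ∈ pC O.GG (cj g⁻¹ ((T5 K).map O.ι)),
      g⁻¹ * O.ι u * g⁻¹⁻¹ = l * d ∧ x * l * x⁻¹ = O.ι v := fun u hu => by
    obtain ⟨l, hl, d, hd, e1⟩ := dec h.toHy hT h1 (conj_mem_cj.2 (mem_map_of_mem _ hu))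
    obtain ⟨v, hv, e2⟩ := hle (conj_mem_cj.2 hl)
    exact ⟨v, hv, l, hl.1, d, hd, e1, e2.symm⟩
  obtain ⟨v₁, n₁, l₁, a₁, d₁, b₁, e₁, f₁⟩ := k u₁ m₁
  obtain ⟨v₂, n₂, l₂, a₂, d₂, b₂, e₂, f₂⟩ := k u₂ m₂
  obtain ⟨v₃, n₃, l₃, a₃, d₃, b₃, e₃, f₃⟩ := k u₃ m₃
  obtain ⟨v₄, n₄, l₄, a₄, d₄, b₄, e₄, f₄⟩ := k u₄ m₄
  obtain ⟨v₅, n₅, l₅, a₅, d₅, b₅, e₅, f₅⟩ := k u₅ m₅
  have E : x * (g⁻¹ * O.ι (c5 u₁ u₂ u₃ u₄ u₅) * g⁻¹⁻¹) * x⁻¹ = O.ι (c5 v₁ v₂ v₃ v₄ v₅) := by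
    have : g⁻¹ * O.ι (c5 u₁ u₂ u₃ u₄ u₅) * g⁻¹⁻¹ = c5 l₁ l₂ l₃ l₄ l₅ := by
      simp only [c5, map_commutatorElement, conjugate_commutatorElement]
      rw [e₁, e₂, e₃, e₄, e₅, P1a.cm a₄ a₅ b₄.1 b₅.1 (com h.toHy hT b₄ b₅), cm1 a₃ (cmm a₄ a₅) b₃.1,
        cm1 a₂ (cmm a₃ (cmm a₄ a₅)) b₂.1, cm1 a₁ (cmm a₂ (cmm a₃ (cmm a₄ a₅))) b₁.1]
    rw [this]
    simp only [c5, map_commutatorElement, conjugate_commutatorElement, f₁, f₂, f₃, f₄, f₅]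
  rw [eq_of_mem_Z (h.g5 _ m₁ _ m₂ _ m₃ _ m₄ _ m₅)] at E ne
  rw [eq_of_mem_Z (h.g5 _ n₁ _ n₂ _ n₃ _ n₄ _ n₅)] at E
  generalize (c5 u₁ u₂ u₃ u₄ u₅).a4 = s at E ne
  generalize (c5 v₁ v₂ v₃ v₄ v₅).a4 = b at E
  have hb : b ≠ 0 := by
    rintro rfl
    rw [x4_zero, map_one, conj_eq_one_iff, conj_eq_one_iff] at E
    exact ι_ne O ne E
  obtain ⟨p, hp⟩ := η_cz_onto O 0 (inv_ne_zero hb)
  have E1 : O.ι (y2 s) * (g * t * g⁻¹) * (O.ι (y2 s))⁻¹ = g * t * g⁻¹ * O.ι (x4 s) := by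
    rw [e, ← conj_mul, ← map_inv, ← map_mul, ← map_mul, y2x5, map_inv, ← (cL hc (ι_mem_L O _)).eq,
      mul_inv_cancel_right, map_mul, mul_assoc, mul_assoc, (cL hc (ι_mem_L O _)).eq]
  refine hn (O.η p * (x * g⁻¹ * O.ι (y2 s) * g)) ?_
  calc _ = O.η p * (x * (g⁻¹ * (O.ι (y2 s) * (g * t * g⁻¹) * (O.ι (y2 s))⁻¹) * g) * x⁻¹) * (O.η p)⁻¹ := by
        group
    _ = O.η p * ((x * t * x⁻¹) * (x * (g⁻¹ * O.ι (x4 s) * g⁻¹⁻¹) * x⁻¹)) * (O.η p)⁻¹ := by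
        rw [E1]; group
    _ = _ := by
        rw [E, ← (h.tL hx.1).eq, mul_inv_cancel_right, ← conj_mul, ← cz0, hp, cz0, inv_mul_cancel₀ hb,
          ← (h.tL (Oa.η_mem O.toOa p)).eq, mul_inv_cancel_right]

theorem P1a.pL_eq_1' : type_of% @P1a.pL.eq_1 := @P1a.pL.eq_1
theorem P1a.pC_eq_1' : type_of% @P1a.pC.eq_1 := @P1a.pC.eq_1

end Cfsg.Lib.SRe
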