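import Cfsg.Agent.SRe.P1a
import Cfsg.Agent.Solv.SchurZassenhaus

/-!
# Standard subgroups of type ²F₄(q): the Sylow subgroup of `C(L)` and the fusion of `t` in `t Z`
-/

set_option autoImplicit false
set_option linter.unusedSectionVars false

namespace Cfsg.Lib.SRe

open Subgroup Function Cfsg.Lib.Trans Cfsg.Lib.Oct Cfsg.Lib.Oct.UU
open Cfsg.Lib.Gold hiding Oc
open Cfsg.Lib.Chev (Tw SzModel)
open scoped commutatorElement

variable {K : Type*} [Field K] [TwF K] {ρ : RK K} {G : Type*} [Group G] [Finite K] [Finite G]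
  {O : Oc ρ G} {t g : G} {R : Subgroup G}

namespace P1b

open P1a

theorem R_N (hR : R ≤ Cs O.GG) : R ≤ Ns O.S := fun _ hr =>
  centralizer_le_normalizer _ (com_Cs (by rintro _ ⟨u, rfl⟩; exact Cs_com (hR hr) (ι_mem_L O u)))

theorem mem_T (hR : R ≤ Cs O.GG) (hg : g ∈ O.S ⊔ R) : ∃ u, ∃ d ∈ R, g = O.ι u * d := by
  rw [← SetLike.mem_coe, coe_mul_of_right_le_normalizer_left _ _ (R_N hR)] at hg
  obtain ⟨_, ⟨u, rfl⟩, d, hd, rfl⟩ := hg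
  exact ⟨u, d, hd, rfl⟩

theorem sylT (h : Hy O t) (hR : IsSylowIn 2 R (Cs O.GG ⊓ C1 t)) : IsSylowIn 2 (O.S ⊔ R) (C1 t) := by
  refine isSylowIn_of_maximal (sup_le ?_ (hR.le.trans inf_le_right))
    (O.S_two.to_sup_of_normal_left' hR.isPGroup (R_N (hR.le.trans inf_le_left))) fun Q hQ h1 h2 g hg => ?_
  · rintro _ ⟨u, rfl⟩
    exact mem_centralizer_singleton_iff.2 (h.tι u).symm
  · obtain ⟨l, hl, c, hc, rfl⟩ := dec h hQ h2 hg
    rw [O.syl.eq_of_le (two_pL (O := O) hQ) (fun a ha => ⟨O.syl.le ha, 1, one_mem _, by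
      rw [mul_one]; exact h1 (mem_sup_left ha)⟩) fun _ h => h.1] at hl
    rw [hR.eq_of_le (two_pC (O := O) hQ) (fun a ha => ⟨(hR.le ha).1, 1, one_mem _, by
      rw [one_mul]; exact h1 (mem_sup_right ha)⟩) fun a ⟨a1, l, a2, a3⟩ => ⟨a1, by
        simpa using mul_mem (inv_mem (mem_centralizer_singleton_iff.2 (h.tL a2).symm)) (h2 a3)⟩] at hc
    exact mul_mem_sup hl hc

theorem exists_g (h : Hy O t) (hR : IsSylowIn 2 R (Cs O.GG ⊓ C1 t))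
    (e : g * t * g⁻¹ = t * O.ι (x4 1)) : ∃ g ∈ Ns (O.S ⊔ R), g * t * g⁻¹ = t * O.ι (x4 1) := by
  obtain ⟨x, hx, hle⟩ := (sylT h hR).exists_cj_le (isPGroup_cj (sylT h hR).isPGroup g⁻¹)
    (cj_le fun a ha => e ▸ (show Commute a t from mem_centralizer_singleton_iff.1 ((sylT h hR).le ha)).mul_right (by
      obtain ⟨u, d, hd, rfl⟩ := mem_T (hR.le.trans inf_le_left) ha
      exact (Cs_com (O.C_le_CZ (O.ι_mem u)) (x4_mem_Z O 1)).mul_left (Cs_com (hR.le hd).1 (ι_mem_L O _))))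
  rw [cj_cj] at hle
  refine ⟨_, inv_mem (mem_normalizer_of_cj_le hle), ?_⟩
  rw [← e, show (x * g⁻¹)⁻¹ * t * (x * g⁻¹)⁻¹⁻¹ = g * (x⁻¹ * (t * x)) * g⁻¹ by group,
    ← mem_centralizer_singleton_iff.1 hx, inv_mul_cancel_left]

/-- Conjugates of central elements of `S R`. -/
theorem cen (hR : R ≤ Cs O.GG) (hg : g ∈ Ns (O.S ⊔ R)) {x : G} (hx : x ∈ O.S ⊔ R)
    (hc : ∀ a ∈ O.S ⊔ R, Commute x a) : ∃ a, ∃ d ∈ R, g * x * g⁻¹ = O.ι (x4 a) * d := by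
  obtain ⟨u, d, hd, e⟩ := mem_T hR (mem_normalizer_conj hg hx)
  refine ⟨u.a4, d, hd, e.trans ?_⟩
  rw [← eq_of_mem_Z (mem_Z_of_comm fun v _ => ι_com O ?_)]
  have h1 := conj_com g (hc _ (mem_normalizer_conj (inv_mem hg) (mem_sup_left ⟨v, rfl⟩)))
  rw [e, show g * (g⁻¹ * O.ι v * g⁻¹⁻¹) * g⁻¹ = O.ι v by group] at h1
  simpa using h1.mul_left (Cs_com (hR hd) (ι_mem_L O v)).inv_left

theorem one_of {u : UU K} {d : G} (hd : d ∈ Cs O.GG) (h : O.ι u * d ∈ O.GG) : d = 1 :=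
  L_inf O ((mul_mem_cancel_left (ι_mem_L O u)).1 h) hd

theorem NZ {r : G} (hR : zpowers r ≤ Cs O.GG) (hg : g ∈ Ns (O.S ⊔ zpowers r)) : g ∈ Ns O.Z := by
  refine mem_normalizer_of_cj_le (cj_le_iff.2 fun z hz => ?_)
  obtain ⟨a, rfl⟩ := O.mem_Z.1 hz
  obtain ⟨b, d, hd, e⟩ := cen hR hg (x := O.ι (x4 a)) (mem_sup_left ⟨_, rfl⟩) fun x hx => by
    obtain ⟨u, d, hd, rfl⟩ := mem_T hR hx
    exact ((Cs_com (O.C_le_CZ (O.ι_mem u)) hz).mul_left (Cs_com (hR hd) (ι_mem_L O _))).symm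
  obtain ⟨u, c, hc, e1⟩ := mem_T hR (mem_normalizer_conj hg (mem_sup_left ⟨x6 a, rfl⟩))
  obtain ⟨u', c', hc', e2⟩ := mem_T hR (mem_normalizer_conj hg (mem_sup_left ⟨x1 1, rfl⟩))
  have := cmm (ι_mem_L O u) (ι_mem_L O u')
  rw [← P1a.cm (ι_mem_L O u) (ι_mem_L O u') (hR hc) (hR hc') (by
    obtain ⟨i, rfl⟩ := hc
    obtain ⟨j, rfl⟩ := hc'
    exact Commute.zpow_zpow_self r i j), ← e1, ← e2, ← conjugate_commutatorElement,
    ← map_commutatorElement, ← x4_eq, e] at this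
  rw [e, one_of (hR hd) this, mul_one]
  exact x4_mem_Z O b

theorem setup (h : H0 O t) (h1 : ∃ g, g * t * g⁻¹ = t * O.ι (x4 1)) {c : G} (hc : c ∈ Cs O.GG)
    (ht : Commute c t) {k : ℕ} (e : c ^ 2 ^ k = 1) : ∃ r g, c ∈ zpowers r ∧ t ∈ zpowers r ∧
      IsPGroup 2 (zpowers r) ∧ zpowers r ≤ Cs O.GG ∧ g ∈ Ns (O.S ⊔ zpowers r) ∧
      g * t * g⁻¹ = t * O.ι (x4 1) := by
  obtain ⟨R, hR, hle⟩ := exists_isSylowIn_ge (H := Cs O.GG ⊓ C1 t) (two_sup ht e h.t2) (sup_le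
    (zpowers_le.2 ⟨hc, mem_centralizer_singleton_iff.2 ht⟩)
    (zpowers_le.2 ⟨h.tc, mem_centralizer_singleton_iff.2 rfl⟩))
  obtain ⟨r, rfl⟩ := cyc h.toHy hR.isPGroup (hR.le.trans inf_le_left)
  obtain ⟨g, e⟩ := h1
  obtain ⟨g, hg, e⟩ := exists_g h.toHy hR e
  exact ⟨r, g, hle (mem_sup_left (mem_zpowers c)), hle (mem_sup_right (mem_zpowers t)), hR.isPGroup,
    hR.le.trans inf_le_left, hg, e⟩

theorem two (h : H0 O t) (h1 : ∃ g, g * t * g⁻¹ = t * O.ι (x4 1)) (c : G) (hc : c ∈ Cs O.GG)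
    (ht : Commute c t) (k : ℕ) (e : c ^ 2 ^ k = 1) : c = 1 ∨ c = t := by
  obtain ⟨r, g, a1, a2, a3, a4, a5, a6⟩ := setup h h1 hc ht e
  obtain ⟨i, hi⟩ := mem_powers_iff_mem_zpowers.2 a2
  have hi : r ^ i = t := hi
  rcases i.even_or_odd with ⟨j, rfl⟩ | ho
  · obtain ⟨b, d, hd, e1⟩ := cen a4 a5 (x := r ^ j) (mem_sup_right (npow_mem_zpowers r j)) fun x hx => by
      obtain ⟨u, _, ⟨n, rfl⟩, rfl⟩ := mem_T a4 hx
      exact (Cs_com (a4 (npow_mem_zpowers r j)) (ι_mem_L O u)).mul_right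
        (((Commute.refl r).zpow_right n).pow_left j)
    have e2 : t * O.ι (x4 1) = d * d := by
      rw [← a6, ← hi, pow_add, ← conj_mul, e1, sw (a4 hd) (ι_mem_L O _), ← map_mul, x4_sq, map_one, one_mul]
    exact (ι_ne O (by simp) (L_inf O (ι_mem_L O (x4 1))
      ((mul_mem_cancel_left h.tc).1 (e2 ▸ mul_mem (a4 hd) (a4 hd))))).elim
  · obtain ⟨n, hn⟩ := a3 ⟨r, mem_zpowers r⟩
    have hn : r ^ 2 ^ n = 1 := congrArg Subtype.val hn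
    have r2 : r ^ 2 = 1 := by
      have : (r ^ 2) ^ (i.gcd (2 ^ n)) = 1 := pow_gcd_eq_one.2 ⟨by
        rw [← pow_mul, mul_comm, pow_mul, hi, pow_two, h.t2], by
        rw [← pow_mul, mul_comm, pow_mul, hn, one_pow]⟩
      rwa [((Nat.coprime_two_right.2 ho).pow_right n).gcd_eq_one, pow_one] at this
    obtain ⟨m, rfl⟩ := a1
    refine inv_eq h.toHy hc ht ?_
    change r ^ m * r ^ m = 1
    rw [← (Commute.refl r).mul_zpow, ← pow_two, r2, one_zpow]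

theorem exists_N (h : H0 O t) (h1 : ∃ g, g * t * g⁻¹ = t * O.ι (x4 1)) :
    ∃ g ∈ Ns O.h.range, g ∈ Ns O.Z ∧ g ∈ Ns O.C ∧ g * t * g⁻¹ = t * O.ι (x4 1) := by
  obtain ⟨r, g, -, -, -, a4, a5, a6⟩ := setup h h1 (one_mem _) (Commute.one_left t) (k := 0) (by simp)
  have gZ := NZ a4 a5
  have gC := h.mem_NC (two h h1) gZ a6
  have gS : g ∈ Ns O.S := mem_normalizer_of_cj_le (cj_le_iff.2 fun x hx => by
    obtain ⟨u, d, hd, e⟩ := mem_T a4 (mem_normalizer_conj a5 (mem_sup_left hx))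
    rw [e, one_of (a4 hd) (e ▸ C_le_L O (mem_normalizer_conj gC (O.S_le hx))), mul_one]
    exact ⟨u, rfl⟩)
  have hN : O.h.range ≤ Ns O.S := by
    rintro _ ⟨β, rfl⟩
    exact O.B_le_NS (O.h_B β)
  obtain ⟨n, hn⟩ := IsPGroup.iff_card.1 O.S_two
  have := O.S_two.isNilpotent
  obtain ⟨k, ⟨u, rfl⟩, hk⟩ := Solv.schur_zassenhaus_conj_ambient O.S O.h.range (cj g O.h.range) hN
    (hn ▸ (Nat.coprime_two_right.2 ((odd_units K).of_dvd_nat (card_range_dvd _))).pow_right n)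
    (.inr inferInstance) (cj_le_iff.2 fun x hx => by
      obtain ⟨u, β, e⟩ := O.small_of_NS (mem_normalizer_conj gC (by obtain ⟨β, rfl⟩ := hx; exact O.h_mem β))
        (mul_mem (mul_mem gS (hN hx)) (inv_mem gS))
      exact e ▸ mul_mem_sup ⟨u, rfl⟩ ⟨β, rfl⟩) (card_cj _ _)
  have hk : cj (O.ι u) O.h.range = cj g O.h.range := hk
  have uZ := inv_mem (O.C_le_CZ (O.ι_mem u))
  refine ⟨(O.ι u)⁻¹ * g, cj_eq_self_iff.1 (by rw [cj_mul, ← hk, cj_inv_cj]),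
    mul_mem (centralizer_le_normalizer _ uZ) gZ, mul_mem (le_normalizer (inv_mem (O.ι_mem u))) gC, ?_⟩
  rw [show (O.ι u)⁻¹ * g * t * ((O.ι u)⁻¹ * g)⁻¹ = (O.ι u)⁻¹ * (g * t * g⁻¹) * (O.ι u)⁻¹⁻¹ by group, a6,
    ((h.tι u).symm.inv_left.mul_right (Cs_com uZ (x4_mem_Z O 1))).eq, mul_inv_cancel_right]

theorem h4_C (β : Kˣ) : h4 O β ∈ Cs O.h.range := com_Cs (by
  rintro _ ⟨γ, rfl⟩
  exact (Cs_com (S8_S4 O (h_mem_S8 O γ)) (h4_mem O β)).symm)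

theorem h4_Z (β : Kˣ) : h4 O β ∈ Ns O.Z := mem_normalizer_of_cj_le (cj_le_iff.2 fun z hz => by
  obtain ⟨a, rfl⟩ := O.mem_Z.1 hz
  rw [h4_x4]
  exact x4_mem_Z O _)

theorem h4_NC (β : Kˣ) : h4 O β ∈ Ns O.C := h4_eq O β ▸ η_NC O _

theorem h4_t (h : Hy O t) (β : Kˣ) (a : K) :
    h4 O β * (t * O.ι (x4 a)) * (h4 O β)⁻¹ = t * O.ι (x4 ((β : K) ^ 2 * σ (β : K) * a)) := by
  rw [← conj_mul, h4_x4, ← (h.tL (S4_le O (h4_mem O β))).eq, mul_inv_cancel_right]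

end P1b

open P1b

theorem p1b (h : H0 O t) (h1 : ∃ g, g * t * g⁻¹ = t * O.ι (x4 1)) : H1 O t := by
  refine ⟨h, two h h1, fun b => ?_⟩
  obtain rfl | hb := eq_or_ne b 0
  · exact ⟨1, one_mem _, one_mem _, one_mem _, by simp⟩
  obtain ⟨g, gH, gZ, gC, e⟩ := exists_N h h1
  obtain ⟨β, hβ⟩ := exists_unit_ne (K := K) h.q2
  obtain ⟨c, hc⟩ := O.mem_Z.1 (mem_normalizer_conj (inv_mem gZ) (x4_mem_Z O 1))
  obtain ⟨f, hf⟩ := O.mem_Z.1 (mem_normalizer_conj gZ (x4_mem_Z O ((β : K) ^ 2 * σ (β : K) * c)))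
  have c0 : c ≠ 0 := by
    rintro rfl
    rw [x4_zero, map_one, eq_comm, conj_eq_one_iff] at hc
    exact ι_ne O (by simp) hc
  have f1 : 1 + f ≠ 0 := fun e1 => by
    obtain rfl : f = 1 := by linear_combination e1 - (two0 : (2 : K) = 0)
    have : O.ι (x4 c) = O.ι (x4 ((β : K) ^ 2 * σ (β : K) * c)) := by rw [hc, hf]; group
    exact N2_ne hβ (mul_right_cancel₀ c0 ((x4_inj.1 (O.inj this)).symm.trans (one_mul c).symm))
  have e1 : g⁻¹ * t * g = t * O.ι (x4 c) := by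
    rw [eq_comm, ← eq_inv_mul_iff_mul_eq, ← x4_inv, map_inv, hc]
    calc _ = (g⁻¹ * (t * O.ι (x4 1)) * g)⁻¹ * (g⁻¹ * t * g) := by group
      _ = _ := by rw [← e]; group
  obtain ⟨γ, hγ⟩ := exists_N2u (div_ne_zero hb f1)
  refine ⟨h4 O γ * (g * h4 O β * g⁻¹), mul_mem (h4_C γ) (com_Cs fun a ha => ?_),
    mul_mem (h4_Z γ) (mul_mem (mul_mem gZ (h4_Z β)) (inv_mem gZ)),
    mul_mem (h4_NC γ) (mul_mem (mul_mem gC (h4_NC β)) (inv_mem gC)), ?_⟩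
  · simpa [mul_assoc] using conj_com g (Cs_com (h4_C β) (mem_normalizer_conj (inv_mem gH) ha))
  · calc _ = h4 O γ * (g * (h4 O β * (g⁻¹ * t * g) * (h4 O β)⁻¹) * g⁻¹) * (h4 O γ)⁻¹ := by group
      _ = _ := by
        rw [e1, h4_t h.toHy, ← conj_mul (a := t) (b := g), e, ← hf, mul_assoc t, ← map_mul, x4_add, h4_t h.toHy, hγ,
          div_mul_cancel₀ _ f1]

end Cfsg.Lib.SRe
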