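import Cfsg.Agent.SRe.Api

/-!
# Standard subgroups of type ²F₄(q): the new root elements act trivially on `C/Q`
-/

set_option autoImplicit false
set_option linter.unusedSectionVars false
set_option maxRecDepth 100000

namespace Cfsg.Lib.SRe

open Subgroup Function Cfsg.Lib.Trans Cfsg.Lib.Oct Cfsg.Lib.Oct.UU
open Cfsg.Lib.Gold hiding Oc
open Cfsg.Lib.Chev (Tw SzModel)
open scoped commutatorElement

universe u

variable {K : Type*} [Field K] [TwF K] {ρ : RK K} {G : Type u} [Group G]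
variable [Finite K] [Finite G] {O : Oc ρ G} {t : G} {y : Bool → K → G} {g : G}

namespace P2a

theorem aut (q : 2 < Nat.card K) {β : UU K → UU K} (hm : ∀ u v, β (u * v) = β u * β v)
    (hQ : ∀ u ∈ Q K, β u ∈ Q K) (hc : ∀ γ u, β (tl γ u) = tl γ (β u)) (h2 : ∀ u, β (β u) = u)
    (u : UU K) : u⁻¹ * β u ∈ Q K := by
  have e1 : ∀ c, (β (y8 c)).b8 = c * (β (y8 1)).b8 ∧ (β (y8 c)).a8 = c * σ c * (β (y8 1)).a8 := by
    intro c
    by_cases c0 : c = 0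
    · have := hQ 1 (one_mem _)
      rw [c0, y8_zero, zero_mul, zero_mul, zero_mul]
      exact this
    obtain ⟨γ, e⟩ := exists_σu (Units.mk0 c c0)
    obtain rfl : σ (γ : K) = c := congrArg Units.val e
    have := hc γ (y8 1)
    rw [tl_y8, mul_one] at this
    rw [this, tl_b8, tl_a8, σσ]
    exact ⟨rfl, by ring⟩
  generalize (β (y8 1)).b8 = b at e1
  generalize (β (y8 1)).a8 = a at e1
  have e2 : ∀ d, (β (x8 d)).b8 = 0 ∧ (β (x8 d)).a8 = b * σ b * d := fun d => by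
    obtain ⟨c, rfl⟩ := exists_N1 d
    rw [mul_comm c, ← y8_sq, hm, mul_b8, mul_a8, (e1 c).1, (e1 c).2, map_mul]
    grind
  obtain rfl : a = 0 := by
    obtain ⟨z, z0, z1⟩ := exists_ne01 q
    have := σ_ne_self z0 z1
    have e := congrArg (fun u => (β u).a8) (y8_add z 1)
    simp only [hm, mul_a8, e1, e2, map_mul, map_add, map_one] at e
    grind
  have e3 : ∀ u, (β u).b8 = b * u.b8 ∧ (β u).a8 = b * σ b * u.a8 := fun u => by
    have e : u = u * (y8 u.b8 * x8 u.a8)⁻¹ * (y8 u.b8 * x8 u.a8) := (inv_mul_cancel_right ..).symm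
    obtain ⟨k1, k2⟩ := hQ (u * (y8 u.b8 * x8 u.a8)⁻¹) (by rw [mem_Q]; uus; grind)
    have := congrArg β e
    rw [hm, hm (y8 _)] at this
    rw [this]
    simp only [mul_b8, mul_a8, k1, k2, e1, e2, map_zero]
    grind
  obtain rfl : b = 1 := by
    have := (e3 (β (y8 1))).1
    rw [h2, (e1 1).1, y8_b8] at this
    grind
  rw [mem_Q]
  simp only [mul_b8, mul_a8, inv_b8, inv_a8, e3, map_one]
  grind

theorem small {u : UU K} {β : Kˣ} (h : O.ι u * O.h β ∈ Ns (cj O.n O.S)) : u ∈ Q K := by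
  rw [← cj_Ns, mem_cj] at h
  have h1 := O.small_of_NS (mul_mem (mul_mem (inv_mem O.n_mem) (O.B_le ⟨u, β, rfl⟩)) O.n_mem) h
  obtain ⟨q, hq, v, hv, rfl⟩ := exists_QU u
  rw [O.n_inv, ← congrArg (_ * ·) O.n_inv, ← conj_mul, map_mul, ← conj_mul, O.nι hq, O.nh] at h1
  rw [O.conj_not_mem hv ((mul_mem_cancel_left (O.ι_B _)).1 ((mul_mem_cancel_right (O.h_B _)).1 h1)),
    mul_one]
  exact hq

theorem core (hg : g ∈ O.C) (h : ∀ c ∈ O.C, g ∈ Ns (cj c O.S)) : g ∈ O.Q := by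
  obtain ⟨u, β, rfl⟩ := O.small_of_NS hg (cj_one O.S ▸ h 1 (one_mem _))
  have h1 := small (h _ O.n_mem)
  have h2 := h _ (mul_mem (O.ι_mem (y8 1)) O.n_mem)
  rw [cj_mul, ← cj_Ns, mem_cj, mul_assoc, mul_assoc, O.h_ι, ← mul_assoc, ← mul_assoc, ← map_inv,
    ← map_mul, ← map_mul] at h2
  have h3 := (small h2).1
  simp only [mul_b8, inv_b8, tl_b8, y8_b8, h1.1] at h3
  obtain rfl : β = 1 := by_contra fun e => σ_ne e (by grind)
  rw [map_one, mul_one]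
  exact O.ι_mem_map.2 h1

theorem syl {c : G} (hc : c ∈ O.C) :
    cj c O.S = O.S ∨ ∃ v ∈ U8 K, cj c O.S = cj ((O.ι v)⁻¹ * O.n) O.S := by
  rcases O.mem_C.1 (inv_mem hc) with ⟨u, β, e⟩ | ⟨u, β, v, hv, e⟩
  · exact .inl (mem_Ns_iff.1 (inv_mem_iff.1 (O.B_le_NS ⟨u, β, e⟩)))
  · refine .inr ⟨v, hv, ?_⟩
    rw [← inv_inv c, e, mul_inv_rev, mul_inv_rev, ← mul_assoc, cj_mul,
      mem_Ns_iff.1 (inv_mem (O.B_le_NS ⟨u, β, rfl⟩)), O.n_inv]

theorem two (q : 2 < Nat.card K) {P : Subgroup G} (hP : IsSylowIn 2 P O.C) (h : ∀ γ, O.h γ ∈ Ns P) :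
    P = O.S ∨ P = cj O.n O.S := by
  have := Fact.mk Nat.prime_two
  obtain ⟨c, hc, rfl⟩ := hP.exists_cj_eq (Lc.syl _)
  refine (syl hc).imp_right fun ⟨v, hv, e⟩ => ?_
  obtain ⟨γ, h1⟩ := exists_unit_ne q
  have h2 := h γ
  rw [e, cj_mul, ← cj_Ns, mem_cj_inv, mul_assoc, ← map_inv, O.h_ι, ← mul_assoc, ← map_mul] at h2
  obtain ⟨h3, h4⟩ := small h2
  simp only [mul_b8, mul_a8, inv_b8, inv_a8, tl_b8, tl_a8] at h3 h4
  have := σ_ne h1
  have := N2_ne h1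
  have h5 : v.b8 = 0 := by grind
  have h6 : v.a8 = 0 := by rw [h5] at h4; grind
  obtain ⟨k1, k2, k3, k4, k5, k6, k7, k8, k9, k10⟩ := hv
  rw [e, show v = 1 by ext <;> assumption, map_one, inv_one, one_mul]

theorem nC (h : HY O t y) (s : Bool) (a : K) : y s a ∈ Ns O.C :=
  h.toH1.mem_NC (Cs_le_Ns (mem_Cs_Z.2 fun b => h.cQ s a _ (by simp))) (a := a) (by
    rw [← cz0, ← h.X_τ 0 s, XX_zero, ← mul_assoc, ← mul_assoc, ← mul_assoc, h.t2, one_mul,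
      h.toHy.t_inv, h.toPr.inv])

theorem perm (h : HY O t y) (s : Bool) (a : K) {P : Subgroup G} (hP : IsSylowIn 2 P O.C)
    (h1 : ∀ γ, O.h γ ∈ Ns P) : cj (y s a) P = O.S ∨ cj (y s a) P = cj O.n O.S :=
  two h.toHy.q2 (hP.cj_of_mem_normalizer (nC h s a)) fun γ => by
    rw [← cj_Ns, mem_cj, mul_assoc, ← (Cs_com (h.mem s a) ⟨γ, rfl⟩).eq, inv_mul_cancel_left]
    exact h1 γ

theorem nS (h : HY O t y) (s : Bool) (a : K) : y s a ∈ Ns O.S := by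
  by_contra hn
  have a0 : a ≠ 0 := fun e => hn (by rw [e, h.toPr.zero]; exact one_mem _)
  have f : ∀ b, b ≠ 0 → y s b ∉ Ns O.S := fun b hb e => hn (by
    obtain ⟨p, hp⟩ := η_cz_onto O 0 (div_ne_zero a0 hb)
    have h1 := h.tor_X hp s b
    have h2 : O.η p ∈ Ns O.S := mem_normalizer_of_cj_le (cj_le_iff.2 (by
      rintro _ ⟨u, rfl⟩
      exact ⟨_, (O.ηι p u).symm⟩))
    rw [XX_zero, XX_zero, div_mul_cancel₀ _ hb] at h1
    exact h1 ▸ mul_mem (mul_mem h2 e) (inv_mem h2))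
  have f2 : ∀ b, b ≠ 0 → cj (y s b) O.S = cj O.n O.S := fun b hb =>
    (perm h s b (Lc.syl _) fun γ => O.B_le_NS (O.h_B γ)).resolve_left fun e => f b hb (mem_Ns_iff.2 e)
  obtain ⟨z, z0, z1⟩ := exists_ne01 h.toHy.q2
  refine f (z + 1) (fun e => z1 (h.toPr.eq_of_add e)) (mem_Ns_iff.2 ?_)
  rw [h.add, cj_mul, f2 1 one_ne_zero, ← f2 z z0, cj_cj, h.toPr.sq, cj_one]

theorem nS' (h : HY O t y) (s : Bool) (a : K) : y s a ∈ Ns (cj O.n O.S) :=
  mem_Ns_iff.2 ((perm h s a ((Lc.syl _).cj_of_mem O.n_mem) fun γ => by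
    rw [← cj_Ns, ← O.cn (O.nh γ), conj_mem_cj]
    exact O.B_le_NS (O.h_B _)).resolve_left fun e => O.n_not_mem (O.small_of_NS O.n_mem
      (mem_Ns_iff.2 (cj_inj.1 (e.trans (mem_Ns_iff.1 (nS h s a)).symm)))))

theorem cS (h : HY O t y) (s : Bool) (a : K) (u : UU K) :
    (O.ι u)⁻¹ * (y s a * O.ι u * (y s a)⁻¹) ∈ O.Q := by
  choose β hβ using fun u => (mem_normalizer_conj (nS h s a) ⟨u, rfl⟩ :
    y s a * O.ι u * (y s a)⁻¹ ∈ O.S)
  rw [← hβ, ← map_inv, ← map_mul]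
  refine O.ι_mem_map.2 (aut h.toHy.q2 (fun u v => O.inj ?_) (fun u hu => O.ι_mem_map.1 ?_)
    (fun γ u => O.inj ?_) (fun u => O.inj ?_) u)
  · rw [map_mul, hβ, hβ, hβ, map_mul, conj_mul]
  · rw [hβ]
    exact mem_normalizer_conj (O.NC_le_NQ (nC h s a)) (O.ι_mem_map.2 hu)
  · rw [hβ, ← O.hι, ← O.hι, hβ]
    have e := (Cs_com (h.mem s a) ⟨γ, rfl⟩).eq
    calc _ = y s a * O.h γ * O.ι u * (y s a * O.h γ)⁻¹ := by group
      _ = _ := by rw [e]; group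
  · rw [hβ, hβ, ← mul_assoc, ← mul_assoc, h.toPr.sq, one_mul, mul_assoc, ← mul_inv_rev, h.toPr.sq,
      inv_one, mul_one]

theorem all (h : HY O t y) (s : Bool) (a : K) {c : G} (hc : c ∈ O.C) : y s a ∈ Ns (cj c O.S) := by
  obtain e | ⟨v, -, e⟩ := syl hc <;> rw [e]
  · exact nS h s a
  have h1 : O.Q ≤ Ns (cj O.n O.S) := by
    rw [← mem_Ns_iff.1 (O.C_le_NQ O.n_mem)]
    exact (cj_mono _ (O.map_le_S _)).trans le_normalizer
  rw [cj_mul, ← cj_Ns, mem_cj_inv]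
  have := mem_normalizer_conj (O.C_le_NQ (O.ι_mem v)) (cS h s a v)
  simpa [mul_assoc] using mul_mem (h1 (inv_mem this)) (nS' h s a)

end P2a

theorem p2a (h : HY O t y) : ∀ s a, ∀ c ∈ O.C, ⁅y s a, c⁆ ∈ O.Q := fun s a c hc =>
  P2a.core (mul_mem (mem_normalizer_conj (P2a.nC h s a) hc) (inv_mem hc)) fun d hd => by
    have := (conj_mem_cj (g := c)).2 (inv_mem (P2a.all h s a (mul_mem (inv_mem hc) hd)))
    rw [cj_Ns, cj_cj, mul_inv_cancel_left] at this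
    simpa only [commutatorElement_def, mul_assoc] using mul_mem (P2a.all h s a hd) this

end Cfsg.Lib.SRe
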