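import Cfsg.Agent.SRe.Api

/-!
# Standard subgroups of type ²F₄(q): the new root elements centralise `C`
-/

set_option autoImplicit false
set_option linter.unusedSectionVars false
set_option maxRecDepth 100000

namespace Cfsg.Lib.SRe

open Subgroup Function Cfsg.Lib.Trans Cfsg.Lib.Oct Cfsg.Lib.Oct.UU
open Cfsg.Lib.Gold hiding Oc
open Cfsg.Lib.Chev (Tw SzModel)
open scoped commutatorElement

universe u

variable {K : Type*} [Field K] [TwF K] {ρ : RK K} {G : Type u} [Group G]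
variable [Finite K] [Finite G] {O : Oc ρ G} {t : G} {y : Bool → K → G}

namespace P2b

theorem add_zero' {f : K → K} {γ : K} (hγ : γ ≠ 1) (h1 : ∀ c d, f (c + d) = f c + f d)
    (h2 : ∀ c, f (γ * c) = f c) (c : K) : f c = 0 := by
  have k := h1 (γ * (c / (γ - 1))) (-(c / (γ - 1)))
  rw [CharTwo.neg_eq, h2, CharTwo.add_self_eq_zero, ← add_one_mul, ← CharTwo.sub_eq_add,
    mul_div_cancel₀ _ (sub_ne_zero.2 hγ)] at k
  exact k

theorem hom_zero (q : 2 < Nat.card K) {f : UU K → K} (h1 : ∀ u v, f (u * v) = f u + f v)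
    (h2 : ∀ β u, f (tl β u) = f u) (h4 : ∀ u ∈ U4 K, f u = 0) (u : UU K) : f u = 0 := by
  obtain ⟨β, hβ⟩ := exists_unit_ne q
  let A : Subgroup (UU K) :=
    { carrier := {u | f u = 0}
      one_mem' := h4 1 (one_mem _)
      mul_mem' := fun {a b} (ha : f a = 0) (hb : f b = 0) => by simp [h1, ha, hb]
      inv_mem' := fun {a} (ha : f a = 0) => by
        simpa [ha, h4 1 (one_mem _)] using (h1 a a⁻¹).symm }
  have k : ∀ {x : K → UU K} {γ : K}, γ ≠ 1 → (∀ c, tl β (x c) = x (γ * c)) →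
      (∀ c d, ∃ w, f w = 0 ∧ x c * x d = x (c + d) * w) → ∀ c, x c ∈ A := fun {x γ} hγ e a =>
    add_zero' (f := fun c => f (x c)) hγ (fun c d => by
      obtain ⟨w, hw, e⟩ := a c d
      rw [← h1, e, h1, hw, add_zero]) fun c => by rw [← e, h2]
  have b0 : (β : K) ≠ 1 := fun e => hβ (Units.ext e)
  have o : ∀ {x : K → UU K}, (∀ c d, x c * x d = x (c + d)) →
      ∀ c d, ∃ w, f w = 0 ∧ x c * x d = x (c + d) * w := fun e c d => ⟨1, A.one_mem, by rw [e, mul_one]⟩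
  have e8 := k (N2_ne hβ) (tl_x8 β) (o x8_add)
  have e2 := k (inv_ne_one.2 (N1_ne hβ)) (tl_x2 β) (o x2_add)
  have e6 := k (N1_ne hβ) (tl_x6 β) (o x6_add)
  exact eq_top_of (A := A) (k (inv_ne_one.2 (N1_ne hβ)) (tl_x1 β) (o x1_add))
    (k (σ_ne hβ) (tl_y8 β) fun c d => ⟨_, e8 _, y8_add c d⟩)
    (k (inv_ne_one.2 b0) (tl_y2 β) fun c d => ⟨_, e2 _, y2_add c d⟩) e8
    (k b0 (tl_y6 β) fun c d => ⟨_, e6 _, y6_add c d⟩) (fun _ => h4 _ (by simp))
    (k (N1_ne hβ) (tl_x7 β) (o x7_add)) e2 (k (inv_ne_one.2 b0) (tl_x3 β) (o x3_add))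
    (k b0 (tl_x5 β) (o x5_add)) e6 (fun _ => h4 _ (by simp)) u

theorem lin {f : K → K} (h0 : f 0 = 0)
    (h : ∀ (β : Kˣ) c, f (β * σ (β : K) * c) = β * σ (β : K) * f c) (c : K) : f c = f 1 * c := by
  by_cases e : c = 0
  · rw [e, h0, mul_zero]
  · obtain ⟨β, rfl⟩ := exists_N1u e
    rw [mul_comm (f 1), ← h, mul_one]

theorem cm_QW {u w : UU K} (hu : u ∈ Q K) (hw : w ∈ W K) : ⁅u, w⁆ ∈ Z K := by
  obtain ⟨h1, h2, h3, h4, h5, h6, h7⟩ := hw
  rw [mem_Z]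
  uus [hu.1, hu.2, h1, h2, h3, h4, h5, h6, h7]
  and_intros <;> grind

theorem aux {H : Type*} [Group H] {a v x z y y' r s w : H} (hz : ∀ g, z * g = g * z)
    (k1 : ⁅x, v⁆⁻¹ = z) (e : a * x * a⁻¹ = x * y * r * s * w)
    (k : a * v * x * (a * v)⁻¹ = x * y' * r * s * w) : y' = y * z := by
  rw [show a * v * x * (a * v)⁻¹ = a * ⁅x, v⁆⁻¹ * x * a⁻¹ by rw [commutatorElement_def]; group, k1,
    ← hz, mul_assoc z, mul_assoc z, e, ← mul_assoc, ← mul_assoc, ← mul_assoc, hz, mul_left_inj,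
    mul_left_inj, mul_left_inj, mul_assoc, mul_right_inj] at k
  exact k.symm

/-- The automorphism of the Sylow subgroup induced by a new root element. -/
structure Au (α : UU K →* UU K) : Prop where
  q2 : 2 < Nat.card K
  q : ∀ u, u⁻¹ * α u ∈ Q K
  tl : ∀ β u, α (tl β u) = tl β (α u)
  u4 : ∀ u ∈ U4 K, α u = u
  nu : ∀ u ∈ Q K, α (ν8 u) = ν8 (α u)
  inv : ∀ u, α (α u) = u

namespace Au

variable {α : UU K →* UU K} (h : Au α)
include h

theorem x4' (c : K) : α (x4 c) = x4 c := h.u4 _ (by simp)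

theorem kill {x X : K → UU K} {β : Kˣ} {γ : K} (hγ : γ ≠ 1) (e1 : ∀ c, UU.tl β (x c) = x (γ * c))
    (e2 : ∀ c, UU.tl β (X c) = X (γ * c))
    (a : ∀ c d, ∃ w, α w = w ∧ x c * x d = x (c + d) * w ∧ X c * X d = X (c + d) * w)
    (z : ∀ c, ∃ d, α (x c) = X c * x4 d) (c : K) : α (x c) = X c := by
  choose f hf using z
  rw [hf, add_zero' (f := f) hγ (fun c d => ?_) (fun c => ?_) c, x4_zero, mul_one]
  · obtain ⟨w, hw, k1, k2⟩ := a c d
    have k := congrArg α k1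
    rw [map_mul, map_mul, hf, hf, hf, hw, mul_assoc, ← mul_assoc (x4 _), x4_comm, mul_assoc, x4_add,
      ← mul_assoc, k2, mul_assoc, mul_assoc, x4_comm, mul_right_inj, mul_right_inj, x4_inj] at k
    exact k.symm
  · have k := h.tl β (x c)
    rwa [e1, hf, hf, map_mul, e2, tl_x4, mul_right_inj, x4_inj] at k

theorem δ_com {N : Subgroup (UU K)} (hN : ∀ u, ∀ w ∈ N, u * w * u⁻¹ ∈ N) (f : ∀ w ∈ N, α w = w)
    (u : UU K) : ∀ w ∈ N, u⁻¹ * α u * w = w * (u⁻¹ * α u) := fun w hw => by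
  have k := f _ (hN u w hw)
  rw [map_mul, map_mul, f w hw, map_inv] at k
  calc _ = u⁻¹ * (α u * w * (α u)⁻¹) * α u := by group
    _ = _ := by rw [k]; group

theorem δ_zero {g : UU K → K} {N : Subgroup (UU K)} (m : ∀ u, u⁻¹ * α u ∈ N)
    (h1 : ∀ v, ∀ w ∈ N, ∀ w' ∈ N, g (v⁻¹ * w * v * w') = g w + g w')
    (h2 : ∀ β u, g (UU.tl β u) = g u) (h0 : g 1 = 0) (u : UU K) : g (u⁻¹ * α u) = 0 :=
  hom_zero h.q2 (f := fun u => g (u⁻¹ * α u))
    (fun u v => by rw [← h1 v _ (m u) _ (m v), map_mul]; congr 1; group)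
    (fun β u => by rw [h.tl, ← map_inv, ← map_mul, h2])
    (fun u hu => by rw [h.u4 u hu, inv_mul_cancel, h0]) u

theorem x6' (c : K) : α (x6 c) = x6 c := by
  obtain ⟨β, hβ⟩ := exists_unit_ne h.q2
  have v : ∀ c, α (x6 c) ∈ V K := fun c => mem_V_of_comm fun v => by
    have k := comm_mem_Z (u := x6 c) (by simp) (α v)
    rwa [← h.inv v, ← map_commutatorElement, h.u4 _ (by simp_all)]
  have l := lin (f := fun c => (α (x6 c)).a6) (by simp) fun β c => by rw [← tl_x6, h.tl, tl_a6]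
  have k := congrArg a6 (h.inv (x6 1))
  rw [eq_of_mem_V (v 1), map_mul, h.x4', mul_x4, l] at k
  have k1 : (α (x6 1)).a6 = 1 := CharTwo.sq_injective (by simpa [sq] using k)
  refine h.kill (N1_ne hβ) (tl_x6 β) (tl_x6 β)
    (fun c d => ⟨1, map_one _, by rw [x6_add, mul_one], by rw [x6_add, mul_one]⟩) (fun c => ?_) c
  exact ⟨_, by rw [eq_of_mem_V (v c), l, k1, one_mul]⟩

theorem fixW : ∀ w ∈ W K, α w = w := by
  obtain ⟨β, hβ⟩ := exists_unit_ne h.q2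
  have e2 : ∀ c, α (x2 c) = x2 c := fun c => by
    simpa [ν8, h.x6'] using h.nu (x6 c) (by simp)
  have e5 : ∀ c, α (x5 c) = x5 c := h.kill (fun e => hβ (Units.ext e)) (tl_x5 β) (tl_x5 β)
    (fun c d => ⟨1, map_one _, by rw [x5_add, mul_one], by rw [x5_add, mul_one]⟩) fun c => by
    have k : x5 c = x8 1 * x2 c * (x8 1)⁻¹ * x2 c * x6 c * x4 (σ c) := by uw
    have k1 := eq_of_mem_Z (cm_QW (h.q (x8 1)) (w := x2 c) (by simp))
    refine ⟨⁅(x8 1)⁻¹ * α (x8 1), x2 c⁆.a4, ?_⟩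
    rw [← x4_comm, k]
    simp only [map_mul, map_inv, e2, h.x6', h.x4', ← mul_assoc]
    rw [x4_comm, ← k1, commutatorElement_def]
    group
  have e3 : ∀ c, α (x3 c) = x3 c := fun c => by simpa [ν8, e5] using h.nu (x5 c) (by simp)
  rintro w ⟨k1, k2, k3, k4, k5, k6, k7⟩
  exact C2.mem_of (Φ := α.eqLocus (.id _)) (C2.z0 x1_zero k1) (C2.z0 y8_zero k2) (C2.z0 y2_zero k3)
    (C2.z0 x8_zero k4) (C2.z0 y6_zero k5) (C2.z0 y4_zero k6) (C2.z0 x7_zero k7) (e2 _) (e3 _) (e5 _)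
    (h.x6' _) (h.x4' _)

theorem δ_W (O : Oc ρ G) (u : UU K) : ∃ w ∈ W K, α u = u * w := by
  have m : ∀ u, u⁻¹ * α u ∈ W K ⊔ U4 K := fun u => by
    obtain ⟨v, hv, e⟩ := cent_W O (O.ι_mem _) fun w hw => com_ι O (h.δ_com (N := W K)
      (fun u a ⟨h1, h2, h3, h4, h5, h6, h7⟩ => by
        rw [mem_W]; uus [h1, h2, h3, h4, h5, h6, h7]; grind) h.fixW u w hw)
    exact O.inj e ▸ hv
  have k := h.δ_zero (g := b4) m (fun v w hw w' hw' => by
    obtain ⟨h1, h2, h3, h4, h5, h6⟩ := mem_W4.1 hw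
    obtain ⟨k1, k2, k3, k4, k5, k6⟩ := mem_W4.1 hw'
    uus [h1, h2, h3, h4, h5, h6, k1, k2, k3, k4, k5, k6]
    grind) tl_b4 rfl u
  obtain ⟨h1, h2, h3, h4, h5, h6⟩ := mem_W4.1 (m u)
  exact ⟨_, ⟨h1, h2, h3, h4, h5, k, h6⟩, (mul_inv_cancel_left _ _).symm⟩

theorem x7' (O : Oc ρ G) (c : K) : α (x7 c) = x7 c * x6 ((α (x7 1)).a6 * c) := by
  obtain ⟨β, hβ⟩ := exists_unit_ne h.q2
  have v : ∀ c, α (x7 c) = x7 c * x6 (α (x7 c)).a6 * x4 (α (x7 c)).a4 := fun c => by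
    have k := congrArg α (show x7 c * y8 1 = y8 1 * x7 c by uu)
    obtain ⟨e, ⟨h1, h2, h3, h4, h5, h6, h7⟩, he⟩ := h.δ_W O (y8 1)
    obtain ⟨w, ⟨k1, k2, k3, k4, k5, k6, k7⟩, hw⟩ := h.δ_W O (x7 c)
    rw [map_mul, map_mul, he, hw] at k
    rw [hw]
    have k8 := congrArg a3 k
    have k9 := congrArg a5 k
    have k10 := congrArg a6 k
    uus [h1, h2, h3, h4, h5, h6, h7, k1, k2, k3, k4, k5, k6, k7] at k8 k9 k10
    ext <;> uus [k1, k2, k3, k4, k5, k6, k7] <;> grind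
  have l := lin (f := fun c => (α (x7 c)).a6) (by simp) fun β c => by rw [← tl_x7, h.tl, tl_a6]
  exact h.kill (X := fun c => x7 c * x6 ((α (x7 1)).a6 * c)) (N1_ne hβ) (tl_x7 β)
    (fun c => by rw [map_mul, tl_x7, tl_x6, mul_left_comm])
    (fun c d => ⟨1, map_one _, by rw [x7_add, mul_one], by uu⟩) (fun c => ⟨_, by rw [← l, ← v]⟩) c

theorem y6' (O : Oc ρ G) (e7 : ∀ c, α (x7 c) = x7 c) (e1 : ∀ c, α (x1 c) = x1 c) :
    ∀ c, α (y6 c) = y6 c := by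
  obtain ⟨β, hβ⟩ := exists_unit_ne h.q2
  have e4 : ∀ c, α (y4 c) = y4 c := fun c => h.u4 _ (by simp)
  refine h.kill (x := y6) (X := y6) (fun e => hβ (Units.ext e)) (tl_y6 β) (tl_y6 β)
    (fun c d => ⟨_, h.x6' _, y6_add c d, y6_add c d⟩) fun c => ?_
  obtain ⟨w, hw, d, e⟩ := c81' c 1
  obtain ⟨v, hv, k2⟩ := h.δ_W O (x8 c)
  have k := congrArg α e
  rw [map_mul, map_mul, map_mul, map_mul, map_mul, map_mul, map_inv, e1, e4, e7, h.fixW w hw, k2] at k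
  obtain ⟨z, m⟩ : ∃ z, _ = x4 z := ⟨_, eq_of_mem_Z (inv_mem (cm_QW (u := x1 1) (by simp) hv))⟩
  exact ⟨z, by simpa only [mul_one c] using aux (x4_comm z) m e k⟩

theorem fix (O : Oc ρ G) (e7 : ∀ c, α (x7 c) = x7 c) (u : UU K) : α u = u := by
  have e1 : ∀ c, α (x1 c) = x1 c := fun c => by simpa [ν8, e7] using h.nu (x7 c) (by simp)
  have e4 : ∀ c, α (y4 c) = y4 c := fun c => h.u4 _ (by simp)
  have e6 := h.y6' O e7 e1
  have e2 : ∀ c, α (y2 c) = y2 c := fun c => by simpa [ν8, e6] using h.nu (y6 c) (by simp)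
  have eW : ∀ w ∈ W K, w ∈ α.eqLocus (.id _) := h.fixW
  have m : ∀ u, u⁻¹ * α u ∈ Z K := fun u => mem_Z_of_comm (h.δ_com (N := Q K)
    (fun u a ha => by rw [mem_Q]; uus [ha.1, ha.2]; grind) (fun w hw =>
      C2.mem_of (Φ := α.eqLocus (.id _)) (e1 w.a1) (C2.z0 y8_zero hw.1) (e2 w.b2)
        (C2.z0 x8_zero hw.2) (e6 w.b6) (e4 w.b4) (e7 w.a7) (eW _ (by simp)) (eW _ (by simp))
        (eW _ (by simp)) (eW _ (by simp)) (eW _ (by simp))) u)
  have k := h.δ_zero (g := a4) m (fun v w hw w' hw' => by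
    rw [eq_of_mem_Z hw, eq_of_mem_Z hw', mul_assoc v⁻¹, x4_comm, inv_mul_cancel_left, x4_add]
    rfl) tl_a4 rfl u
  rw [← mul_inv_cancel_left u (α u), eq_of_mem_Z (m u), k, x4_zero, mul_one]

end Au

theorem cm_n (h : HY O t y) (h1 : ∀ s a, ∀ c ∈ O.C, ⁅y s a, c⁆ ∈ O.Q) (s : Bool) (a : K) :
    ∃ z, y s a * O.n * (y s a)⁻¹ = O.ι (x4 z) * O.n := by
  obtain ⟨q, -, hq⟩ := h1 s a _ O.n_mem
  have c := fun β => Cs_com (h.mem s a) (a := O.h β) ⟨β, rfl⟩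
  have e : y s a * O.n * (y s a)⁻¹ = O.ι q * O.n := by rw [hq, commutatorElement_def]; group
  obtain ⟨u, hu, β, k⟩ := O.cent_h h.q2 (O.ι_mem q) fun β => by
    have k : y s a * (O.h β * O.n * O.h β) * (y s a)⁻¹ = O.h β * (O.ι q * O.n) * O.h β := by
      rw [← e, ← mul_assoc, ← mul_assoc, (c β).eq, mul_assoc _ (O.h β), (c β).inv_left.symm.eq]
      group
    rw [O.h_n_h, e] at k
    refine mul_right_cancel (b := O.n * O.h β) ?_
    rw [mul_assoc, ← mul_assoc (O.h β), O.h_n_h]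
    exact k.trans (by group)
  obtain rfl : q = u := (O.small_inj (β := 1) (by simpa using k)).1
  have k1 : O.ι q * (O.n * O.ι q * O.n⁻¹) = 1 := by
    rw [O.n_inv, mul_assoc, ← mul_assoc, ← e, conj_mul, O.nn, mul_one, mul_inv_cancel]
  rw [eq_of_mem_U4 hu] at k1 e
  rw [map_mul, ← conj_mul, O.ny4, O.nx4, ← map_mul, ← map_mul, ← map_one O.ι] at k1
  have k2 := congrArg a4 (O.inj k1)
  uus at k2
  rw [show q.b4 = 0 by simpa [CharTwo.add_self_eq_zero] using k2, y4_zero, one_mul] at e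
  exact ⟨_, e⟩

theorem au (h : HY O t y) (h1 : ∀ s a, ∀ c ∈ O.C, ⁅y s a, c⁆ ∈ O.Q) (s : Bool) (a : K) :
    ∃ α, Au α ∧ ∀ u, y s a * O.ι u * (y s a)⁻¹ = O.ι (α u) := by
  have ex : ∀ u, ∃ v, u⁻¹ * v ∈ Q K ∧ y s a * O.ι u * (y s a)⁻¹ = O.ι v := fun u => by
    obtain ⟨q, hq, e⟩ := h1 s a _ (O.ι_mem u⁻¹)
    refine ⟨u * q⁻¹, by simpa using inv_mem hq, ?_⟩
    rw [map_mul, map_inv, e, map_inv, commutatorElement_def]
    group
  choose α hq hα using ex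
  obtain ⟨z, hz⟩ := cm_n h h1 s a
  refine ⟨MonoidHom.mk' α fun u v => O.inj (by rw [map_mul, ← hα, ← hα, ← hα, map_mul, conj_mul]),
    ⟨h.q2, hq, fun β u => O.inj ?_, fun u hu => O.inj ?_, fun u hu => O.inj ?_, fun u => O.inj ?_⟩,
    hα⟩ <;> simp only [MonoidHom.mk'_apply]
  · have c := Cs_com (h.mem s a) (a := O.h β) ⟨β, rfl⟩
    rw [← hα, ← O.hι, ← O.hι, ← hα, ← mul_assoc, ← mul_assoc, c.eq, mul_assoc _ (O.h β)⁻¹,
      c.inv_inv.symm.eq]
    group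
  · rw [← hα, (h.cQ s a u hu).eq, mul_inv_cancel_right]
  · have m : α u ∈ Q K := by simpa using mul_mem hu (hq u)
    rw [← hα, ← O.nι hu, ← conj_mul, ← conj_mul, ← conj_inv, hz, hα, mul_inv_rev, mul_assoc (O.ι _),
      ← mul_assoc, mul_assoc (O.ι _), O.nι m, ← map_mul, x4_comm, map_mul, mul_inv_cancel_right]
  · rw [← hα, ← hα, h.inv, ← mul_assoc, ← mul_assoc, h.sq, one_mul, mul_assoc, h.sq, mul_one]

end P2b

open P2b

theorem p2b (h : HY O t y) (h1 : ∀ s a, ∀ c ∈ O.C, ⁅y s a, c⁆ ∈ O.Q) : H2 O t y := by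
  refine ⟨h, fun s => ?_⟩
  choose α hα e using au h h1 s
  obtain ⟨φ, k⟩ : ∃ φ : K → K, ∀ a c, y s a * O.ι (x7 c) * (y s a)⁻¹ = O.ι (x7 c * x6 (φ a * c)) :=
    ⟨_, fun a c => by rw [e, (hα a).x7' O]⟩
  have inj : ∀ {c d d' : K}, O.ι (x7 c * x6 d) = O.ι (x7 c * x6 d') → d = d' := fun e =>
    x6_inj.1 (mul_left_cancel (O.inj e))
  have add : ∀ a b, φ (a + b) = φ a + φ b := fun a b => by
    have := k (a + b) 1
    rw [h.add, mul_inv_rev, mul_assoc (y s a), ← mul_assoc, mul_assoc (y s a), k, map_mul,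
      ← conj_mul, k, e, (hα a).x6', ← map_mul, mul_assoc, x6_add] at this
    simpa using (inj this).symm
  have sc : ∀ γ : K, φ (γ * σ γ) = γ * φ 1 := fun γ => by
    by_cases c : γ = 0
    · simpa [c] using add 0 0
    obtain ⟨β, hβ⟩ := exists_σu (Units.mk0 γ c)
    obtain rfl : σ (β : K) = γ := congrArg Units.val hβ
    have k1 := h.tor_X (p := (β, 1)) (k := 0) (fun a => by rw [cz0, cz0, η_x4]) s 1
    have k2 := congrArg (MulAut.conj (O.η (β, 1))) (k 1 1)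
    simp only [XX_zero] at k1
    rw [map_mul, map_mul, map_inv] at k2
    simp only [MulAut.conj_apply, k1, O.ηι, map_mul (tor _ _), tor_x7, tor_x6, k] at k2
    have k3 := inj k2
    simp only [Units.val_one, map_one, mul_one, one_pow] at k3
    refine mul_right_cancel₀ β.ne_zero ?_
    rw [σσ, mul_comm (σ _), k3]
    ring
  have z : φ 1 = 0 := by
    by_contra n
    obtain ⟨a, b, hab⟩ := nadd1 h.q2
    obtain ⟨c, hc⟩ := exists_N1 (a * σ a + b * σ b)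
    have := sc c
    rw [hc, add, sc, sc, ← add_mul, mul_left_inj' n] at this
    exact hab (this ▸ hc)
  intro a
  have f : ∀ u, Commute (y s a) (O.ι u) := fun u => com_of (by
    obtain ⟨γ, rfl⟩ := exists_N1 a
    rw [e, (hα _).fix O fun c => O.inj (by rw [← e, k, sc, z]; simp)])
  have c := fun β => Cs_com (h.mem s a) (a := O.h β) ⟨β, rfl⟩
  obtain ⟨d, hd⟩ := cm_n h h1 s a
  refine com_Cs fun g hg => (mem_C1.1 (O.C_le (A := C1 (y s a)) (fun u => mem_C1.2 (f u).symm)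
    (fun β => mem_C1.2 (c β).symm) (mem_C1.2 (com_of ?_).symm) hg)).symm
  have k1 := (O.rk (x8 1) (by simp) (by simp)).2.2
  have k2 := congrArg (MulAut.conj (y s a)) k1
  simp only [map_mul, map_inv] at k2
  simp only [MulAut.conj_apply, hd, (f _).mul_inv_cancel, (c _).mul_inv_cancel] at k2
  have x := fun g hg => Cs_com (O.C_le_CZ (x := g) hg) (x4_mem_Z O d)
  rw [mul_inv_rev, mul_assoc (O.ι _), ← mul_assoc, mul_assoc (O.ι _), k1,
    ← (x _ (k1 ▸ mul_mem (mul_mem O.n_mem (O.ι_mem _)) (inv_mem O.n_mem))).eq, mul_inv_cancel_right,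
    mul_left_inj, mul_right_inj] at k2
  exact hd.trans k2.symm

end Cfsg.Lib.SRe
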