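import Cfsg.Agent.SRe.Api

/-!
# Standard subgroups of type ²F₄(q): neighbouring root groups commute
-/

set_option autoImplicit false
set_option linter.unusedSectionVars false
set_option maxRecDepth 100000

namespace Cfsg.Lib.SRe

open Subgroup Function Cfsg.Lib.Trans Cfsg.Lib.Oct Cfsg.Lib.Oct.UU
open Cfsg.Lib.Gold hiding Oc
open Cfsg.Lib.Chev (Tw SzModel)
open scoped commutatorElement

universe u

variable {K : Type*} [Field K] [TwF K] {ρ : RK K} {G : Type u} [Group G]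
variable [Finite K] [Finite G] {O : Oc ρ G} {t : G} {y : Bool → K → G} {g g' a : G} {u : UU K}

namespace P3a

theorem fix (h : Commute g a) : g * a * g⁻¹ = a := by rw [h.eq, mul_inv_cancel_right]

theorem com_cm (h1 : Commute a g) (h2 : Commute a g') : Commute a ⁅g, g'⁆ :=
  ((h1.mul_right h2).mul_right h1.inv_right).mul_right h2.inv_right

theorem sqV (hg : g ∈ O.V) : g * g = 1 := by
  obtain ⟨a, c, rfl⟩ := O.mem_V.1 hg
  rw [← map_mul, ← map_one O.ι]
  exact congrArg _ (by have := two0 (K := K); uu)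

variable (h : H2 O t y)
include h

theorem t_X (k : ZMod 8) (s : Bool) (b : K) :
    t * XX O y k s b * t⁻¹ = XX O y k s b * cz O k b := by
  rw [h.X_t, ← h.X_prod k s, ← mul_assoc, (h.tr_k k).sq, one_mul]

theorem X1_V (s : Bool) (b : K) (hg : g ∈ O.V) : Commute (XX O y 1 s b) g := by
  obtain ⟨u, hu, rfl⟩ := O.V_le_R hg
  exact h.X1_R s b hu

theorem inV {d : G} (h1 : Commute d t) (h2 : ∀ u ∈ R K, Commute d (O.ι u)) {s : Bool} {b : K}
    (h3 : XX O y 1 s b * d * (XX O y 1 s b)⁻¹ = d⁻¹) (h4 : b = 0 → d = 1) : d ∈ O.V := by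
  obtain ⟨c, hc, o, ho, e⟩ := h.toH1.fac' h1 fun a => h2 _ rfl
  have H : ∀ x ∈ Cs O.GG, d = c * x → c ∈ O.V := fun x hx e => cent_R O hc fun u hu => by
    rw [← mul_inv_eq_iff_eq_mul] at e
    exact e ▸ (h2 u hu).mul_left (Cs_com hx (ι_mem_L O _)).inv_left
  have oc := Cs_com ho.1 (C_le_L O hc)
  have og := (h.od_X ho 1 s b).symm
  rcases e with e | e
  · have hV := H o ho.1 e
    rw [e, fix ((X1_V h s b hV).mul_right og), ← mul_eq_one_iff_eq_inv, oc.mul_mul_mul_comm, sqV hV,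
      one_mul, ← sq] at h3
    rwa [e, ho.sq (k := 1) h3, mul_one]
  have hV := H _ (mul_mem h.tc ho.1) (e.trans (mul_assoc _ _ _))
  have z2 : cz O 1 b * cz O 1 b = 1 := by rw [← cz_add, (h.pr 1).add_self, cz_zero]
  have kt : XX O y 1 s b * t * (XX O y 1 s b)⁻¹ = t * cz O 1 b := by
    rw [← h.X_τ 1 s, (h.pr 1).inv, h.t_inv, ← mul_assoc, ← mul_assoc, ← mul_assoc, h.t2, one_mul]
  rw [e, ← conj_mul, ← conj_mul, fix (X1_V h s b hV), fix og, kt, ← mul_assoc, mul_assoc _ _ o,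
    ← (Cs_com ho.1 (cz_mem O 1 b)).eq, ← mul_assoc, eq_comm, inv_eq_iff_mul_eq_one, ← mul_assoc, ← sq,
    (oc.symm.mul_left ho.2.1.symm).mul_pow, (h.tL (C_le_L O hc)).symm.mul_pow, sq c, sqV hV, sq t, h.t2,
    one_mul, one_mul, mul_eq_one_iff_eq_inv, inv_eq_of_mul_eq_one_right z2] at h3
  obtain rfl := ho.sq (k := 2) (by rw [sq 2, pow_mul, h3, sq, z2])
  rw [h4 (cz_inj O (h3.symm.trans ((one_pow _).trans (cz_zero O 1).symm))), mul_one, eq_comm,
    mul_eq_one_iff_inv_eq] at e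
  exact absurd (e ▸ inv_mem (C_le_L O hc)) h.t_not

theorem cm_V (s s' : Bool) (a b : K) : ⁅XX O y 0 s a, XX O y 1 s' b⁆ ∈ O.V := by
  refine inV h (com_of ?_).symm (fun u hu => (com_cm (h.X0_c s a (O.ι_mem u)).symm
    (h.X1_R s' b hu).symm).symm) (s := s') (b := b) ?_ fun e => ?_
  · have c1 := h.X0_c s a (O.ι_mem (x4 a))
    have c2 := h.X0_c s a (O.ι_mem (x6 b))
    have c3 := h.X1_R s' b (u := x4 a) rfl
    have c4 := h.X1_R s' b (u := x6 b) rfl
    have c5 := com_ι O (x4_comm a (x6 b))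
    rw [conjugate_commutatorElement, t_X h, t_X h, cz0, cz1, commutatorElement_mul_left_eq_conj_mul,
      (c3.symm.mul_right c5).commutator_eq, commutatorElement_mul_right_eq_mul_conj, c2.commutator_eq]
    group
  · rw [commutatorElement_inv, commutatorElement_def, commutatorElement_def, (h.pr 0).inv, (h.pr 1).inv]
    simp only [mul_assoc, (h.pr 1).sq, mul_one]
  · rw [e, (h.pr 1).zero, commutatorElement_one_right]

theorem cm_V6 (s s' : Bool) (a b : K) : ⁅XX O y 0 s a, XX O y 1 s' b⁆ ∈ O.V6 := by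
  obtain ⟨f, e, he⟩ := O.mem_V.1 (cm_V h s s' a b)
  have k : ∀ l : K, l ≠ 0 → ⁅XX O y 0 s a, XX O y 1 s' (l * b)⁆ = O.ι (x6 (l * f) * x4 e) := fun l hl => by
    obtain ⟨β, rfl⟩ := exists_N1u hl
    rw [← h.tor_X (p := jL β) (fun a => by rw [cz1, cz1, ← O.hη, O.hι, tl_x6]), ← O.hη,
      ← fix (h.X0_c s a (O.h_mem β)).symm, ← conjugate_commutatorElement, ← he, O.hι, map_mul (tl β), tl_x6,
      tl_x4]
  obtain ⟨l, l0, l1⟩ := exists_ne01 h.q2
  have := k (l + 1) fun e => l1 ((h.pr 0).eq_of_add e)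
  rw [add_one_mul, (h.pr 1).add, commutatorElement_mul_right_eq_mul_conj, mul_assoc ⁅_, _⁆,
    mul_assoc ⁅_, _⁆, fix (X1_V h _ _ (cm_V h s s' a b)), k l l0, ← he, ← map_mul] at this
  have := congrArg UU.a4 (O.inj this)
  uus at this
  obtain rfl : e = 0 := by have := two0 (K := K); grind
  exact O.mem_V6.2 ⟨f, by rw [← he, x4_zero, mul_one]⟩

theorem c1 (s s' : Bool) (a b : K) : Commute (XX O y 0 s a) (XX O y 1 s' b) := by
  obtain ⟨c, e⟩ := O.mem_V6.1 (cm_V6 h s' s b a)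
  refine commutatorElement_eq_one_iff_commute.1 (O.eq_one_of_Z_V6 ?_ (cm_V6 h s s' a b))
  have := inv_mem (x4_mem_Z O c)
  rwa [← O.mx6, e, conjugate_commutatorElement, h.X_m, h.X_m, commutatorElement_inv] at this

theorem x1_N (c : K) : O.ι (x1 c) ∈ Ns (Vt O y) := by
  refine mem_normalizer_of_cj_le (cj_le_iff_le_cj_inv.2 (Vt_le_iff.2 ⟨fun s a => mem_cj_inv.2 ?_,
    fun s b => mem_cj_inv.2 ?_⟩))
  · rw [fix (h.X0_c s a (O.ι_mem _)).symm]; exact X0_Vt s a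
  have V : O.V ≤ Vt O y := fun g hg => by
    obtain ⟨a, c, rfl⟩ := O.mem_V.1 hg
    rw [map_mul, ← cz0, ← cz1]
    exact mul_mem (mem_sup_right (h.cz_mem 1 a)) (mem_sup_left (h.cz_mem 0 c))
  have c0 := h.X0_c true (c * b) (O.ι_mem (x1 c))
  have c1 := c1 h true s (c * b) b
  have cR : ∀ u ∈ R K, Commute (O.ι (x1 c) * XX O y 1 s b * (O.ι (x1 c))⁻¹) (O.ι u) := fun u hu => by
    have := conj_com (O.ι (x1 c)) (h.X1_R s b (u := (x1 c)⁻¹ * u * x1 c) (by
      rw [mem_R] at hu ⊢; uus [hu]; exact (h.pr 0).add_self c))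
    simpa [mul_assoc] using this
  refine (mul_mem_cancel_right (X1_Vt s b)).1 ((mul_mem_cancel_right (X0_Vt true (c * b))).1 (V
    (inV h (com_of ?_).symm (fun u hu => ((cR u hu).mul_left (h.X1_R s b hu)).mul_left
      (h.X0_c _ _ (O.ι_mem u))) (s := s) (b := b) ?_ fun e => ?_)))
  · have e : O.ι (x1 c) * O.ι (x6 b) * (O.ι (x1 c))⁻¹ = O.ι (x4 (c * b)) * O.ι (x6 b) := by
      rw [← map_inv, ← map_mul, ← map_mul, ← map_mul]
      exact congrArg _ (by have := two0 (K := K); uu)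
    rw [← conj_mul, ← conj_mul, ← conj_mul, ← conj_mul, ← conj_inv, fix (h.tι _), t_X h, t_X h, cz0, cz1,
      ← conj_mul, e, (((h.X1_R s b (u := x4 (c * b)) rfl).mul_right
        (h.X1_R s b (u := x6 b) rfl)).symm).mul_mul_mul_comm, mul_assoc (O.ι (x4 _)), ← map_mul, x6_sq,
      map_one, mul_one, (h.X0_c true (c * b) (O.ι_mem _)).symm.mul_mul_mul_comm, ← map_mul, x4_sq, map_one,
      mul_one]
  · rw [← conj_mul, fix c1.symm, mul_inv_rev, (h.pr 0).inv,
      (((c0.mul_right c1).mul_right c0.inv_right).mul_right c1).inv_right.eq, mul_left_inj,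
      mul_assoc, mul_inv_cancel_right, mul_inv_rev, conj_inv, (h.pr 1).inv]
  · rw [e, mul_zero, (h.pr 1).zero, (h.pr 0).zero]; group

end P3a

open P3a in
theorem p3a (h : H2 O t y) : (∀ s s' a b, Commute (XX O y 0 s a) (XX O y 1 s' b)) ∧
    ∀ u, O.ι u ∈ Ns (Vt O y) := ⟨c1 h, fun u => by
  refine (mul_mem_cancel_left (x1_N h u.a1)).1 (Cs_le_Ns (mem_Cs.2 fun g hg => mem_C1.1
    (Vt_le_iff.2 ⟨fun s a => mem_C1.2 ?_, fun s a => mem_C1.2 ?_⟩ hg))) <;> rw [← map_mul]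
  · exact h.X0_c s a (O.ι_mem _)
  · exact h.X1_R s a (by rw [mem_R]; uus; exact (h.pr 0).add_self _)⟩

end Cfsg.Lib.SRe
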