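import Cfsg.Agent.SRe.Api

/-!
# Standard subgroups of type ²F₄(q): the groups `K₀` and `K₂` commute
-/

set_option autoImplicit false
set_option linter.unusedSectionVars false
set_option maxRecDepth 100000

namespace Cfsg.Lib.SRe

open Subgroup Function Cfsg.Lib.Trans Cfsg.Lib.Oct Cfsg.Lib.Oct.UU
open Cfsg.Lib.Gold hiding Oc
open Cfsg.Lib.Chev (Tw SzModel)
open scoped commutatorElement

universe u

variable {K : Type*} [Field K] [TwF K] {ρ : RK K} {G : Type u} [Group G]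
variable [Finite K] [Finite G] {O : Oc ρ G} {t : G} {y : Bool → K → G} {g g' a : G} {u : UU K}

theorem p3b (h : H2 O t y) : KK (XX O y 0) (wk O 0) ≤ Cs (KK (XX O y 2) (wk O 2)) := by
  have n8 : wk O 0 ∈ Cs (S8 O) := wk_zero O ▸ le_Cs_comm.1 (S8_S4 O) (n4_mem O)
  have x8 : ∀ s a, XX O y 0 s a ∈ Cs (S8 O) := fun s a => com_Cs fun c hc => h.X0_c s a (S8_le O hc)
  have k8 : KK (XX O y 0) (wk O 0) ≤ Cs (S8 O) :=
    KK_le.2 ⟨x8, fun s a => mul_mem (mul_mem n8 (x8 s a)) (inv_mem n8)⟩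
  have T := h.tr_k 0
  have key : ∀ s a, XX O y 2 s a ∈ Cs (KK (XX O y 0) (wk O 0)) := fun s a => by
    have h1 : ∀ g ∈ HH (XX O y 0) (wk O 0), g ∈ C1 (XX O y 2 s a) := fun g hg => by
      have := rot_commute O 2 (h.toHY.fx (g := rot O 6 g) (com_Cs (by
        rintro _ ⟨β, rfl⟩
        rw [← rot_back O (rot2_h O β)]
        exact rot_commute O 6 (T.hc g hg _ (h.h4_mem _))))
        (by rw [show orderOf (rot O 6 g) = orderOf g from (MulAut.conj _).orderOf_eq g]; exact T.ho g hg)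
        (by rw [S4, ← cj_Cs]; exact (rot_mem_cj O).2 (k8 hg.1.1)) s a)
      rw [rot_rot] at this
      exact mem_C1.2 (rot_zero O g ▸ this :)
    have h2 : S4 O ≤ C1 (XX O y 2 s a) := by
      rw [← rot2_S8]
      rintro _ ⟨c, hc, rfl⟩
      exact mem_C1.2 (h.X_c 2 s a (S8_le O hc)).symm
    have h3 : ∀ s' c d, c ≠ 0 → d ≠ 0 → XX O y 0 s' c * XX O y 0 (!s') d ∈ C1 (XX O y 2 s a) :=
      fun s' c d hc hd => by
      obtain ⟨g, hg, e1, e2⟩ := T.all' s' hc hd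
      have := mul_mem (mul_mem (h1 g hg) (h2 (U4_le_S4 O (u := x4 1) (by simp)))) (inv_mem (h1 g hg))
      rwa [← cz0, ← h.X_prod 0 s', ← conj_mul, e1, e2, mul_one, mul_one] at this
    have h4 : ∀ s' b, XX O y 0 s' b ∈ C1 (XX O y 2 s a) := fun s' b => by
      by_cases hb : b = 0
      · rw [hb, T.zero]; exact one_mem _
      obtain ⟨e, e0, e1⟩ := exists_ne01 h.q2
      have := mul_mem (h3 s' (e * b) 1 (mul_ne_zero e0 hb) one_ne_zero) (h3 s' ((e + 1) * b) 1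
        (mul_ne_zero (fun k => e1 (T.eq_of_add k)) hb) one_ne_zero)
      rwa [T.mul2, T.add_self, T.zero, mul_one, add_one_mul, ← add_assoc, T.add_self, zero_add] at this
    have h5 : wk O 0 ∈ C1 (XX O y 2 s a) := wk_zero O ▸ h2 (n4_mem O)
    exact mem_Cs.2 fun g hg => mem_C1.1 (KK_le.2 ⟨h4, fun s' b =>
      mul_mem (mul_mem h5 (h4 s' b)) (inv_mem h5)⟩ hg)
  have n2 : wk O 2 ∈ Cs (KK (XX O y 0) (wk O 0)) := wk_two O ▸ le_Cs_comm.1 k8 (n_mem_S8 O)
  exact le_Cs_comm.1 (KK_le.2 ⟨key, fun s a => mul_mem (mul_mem n2 (key s a)) (inv_mem n2)⟩)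

end Cfsg.Lib.SRe
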