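import Cfsg.Agent.SRe.P4c

/-!
# Standard subgroups of type ²F₄(q): the groups `Ut` and `At`
-/

set_option autoImplicit false
set_option linter.unusedSectionVars false
set_option maxRecDepth 100000

namespace Cfsg.Lib.SRe

open Subgroup Function Cfsg.Lib.Trans Cfsg.Lib.Oct Cfsg.Lib.Oct.UU
open Cfsg.Lib.Gold hiding Oc
open Cfsg.Lib.Chev (Tw SzModel)
open scoped commutatorElement

universe u

variable {K : Type*} [Field K] [TwF K] {ρ : RK K} {G : Type u} [Group G]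
variable [Finite K] [Finite G] {O : Oc ρ G} {t : G} {y : Bool → K → G} {g g' a : G} {u : UU K}

namespace P4b

open P4c

theorem avg {A I : Type*} [Group A] [Group I] [Finite I] (hc : ∀ a b : A, a * b = b * a)
    (ho : Odd (Nat.card I)) (φ : I →* MulAut A) (τ : A →* A) {g z : A} (e : ∀ i, τ (φ i g) = z)
    (z2 : z * z = 1) : ∃ g', τ g' = z ∧ ∀ i, φ i g' = g' := by
  letI : CommGroup A := { ‹Group A› with mul_comm := hc }
  have := Fintype.ofFinite I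
  obtain ⟨n, hn⟩ := ho
  refine ⟨∏ i, φ i g, ?_, fun i => ?_⟩
  · rw [map_prod, Finset.prod_congr rfl fun i _ => e i, Finset.prod_const, Finset.card_univ,
      ← Nat.card_eq_fintype_card, hn, pow_succ, pow_mul, sq, z2, one_pow, one_mul]
  · rw [map_prod, ← Equiv.prod_comp (Equiv.mulLeft i) fun j => φ j g]
    simp

theorem τc {x : G} (h1 : Commute x g) (h2 : Commute t x) : Commute x (t * g * t⁻¹ * g) :=
  ((h2.symm.mul_right h1).mul_right h2.symm.inv_right).mul_right h1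

theorem τj {x : G} (h : Commute t x) (g : G) :
    t * (x * g * x⁻¹) * t⁻¹ * (x * g * x⁻¹) = x * (t * g * t⁻¹ * g) * x⁻¹ :=
  calc _ = t * x * g * (t * x)⁻¹ * (x * g * x⁻¹) := by group
    _ = _ := by rw [h.eq]; group

theorem T_le : T5c O ≤ O.GG := by rintro _ ⟨b, rfl⟩; exact O.η_mem _

theorem x5_T (b : K) : O.ι (x5 b) ∈ Cs (T5c O) := com_Cs fun x hx => by
  obtain ⟨c, rfl⟩ := (mem_T5c O).1 hx
  refine (com_of ?_).symm
  have := σ_ne_zero c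
  rw [O.ηι, tor_x5]
  congr 2
  simp only [Units.val_inv_eq_inv_val, Units.val_pow_eq_pow_val, map_inv₀, map_pow]
  field_simp

theorem ind {a b c : K} (e : cz O 0 a * O.ι (x5 b) * cz O 1 c = 1) : a = 0 ∧ b = 0 ∧ c = 0 := by
  rw [cz0, cz1, ← map_mul, ← map_mul, ← map_one O.ι] at e
  have := O.inj e
  simp only [UU.ext_iff] at this
  uus at this
  simp_all

theorem dec (hu : u ∈ D K) : O.ι u = cz O 0 u.a4 * O.ι (x5 u.a5) * cz O 1 u.a6 := by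
  rw [cz0, cz1, ← map_mul, ← map_mul]
  exact congrArg _ (by ext <;> simp_all)

variable (h : H4 O t y)
include h

theorem U5 (b : K) : O.ι (x5 b) ∈ Ut O y := ⟨h.EW _ (by simp), x5_T b⟩

theorem Uτ (h1 : g ∈ Ut O y) : ∃ b, t * g * t⁻¹ * g = O.ι (x5 b) := by
  obtain ⟨u, -, e⟩ := h.Eτ g h1.1
  exact ⟨_, e.trans (congrArg _ (eq_of_mem_U5 (fix_T5c O h.q2 (e ▸ com_Cs fun x hx =>
    (τc (Cs_com h1.2 hx).symm (h.tL (T_le hx))).symm))))⟩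

theorem Uk (h1 : g ∈ Ut O y) (h2 : Commute g t) : ∃ b, g = O.ι (x5 b) := by
  obtain ⟨u, -, rfl⟩ := h.Ek g h1.1 h2
  exact ⟨_, congrArg _ (eq_of_mem_U5 (fix_T5c O h.q2 h1.2))⟩

theorem Us (b : K) : ∃ g ∈ Ut O y, t * g * t⁻¹ * g = O.ι (x5 b) := by
  obtain ⟨g, hg, e⟩ := h.Es (x5 b) (by simp)
  obtain ⟨g', e1, e2⟩ := avg (fun a b : Et O y => Subtype.ext (h.Ec _ a.2 _ b.2)) (odd_units K)
    ((Et O y).normalizerMonoidHom.comp ((O.η.comp j5).codRestrict _ fun _ => h.Eη _))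
    (MonoidHom.mk' (fun a => ⟨_, τ_mem h a.2⟩) fun a b => Subtype.ext (τ_mul h a.2 b.2))
    (g := ⟨g, hg⟩) (z := ⟨_, (U5 h b).1⟩) (fun i => Subtype.ext ((τj (h.tL (O.η_mem _)) g).trans
      (by rw [e]; exact fix (Cs_com (x5_T b) ⟨i, rfl⟩).symm))) (Subtype.ext (h.E2 _ (U5 h b).1))
  exact ⟨g', ⟨g'.2, com_Cs (by
    rintro _ ⟨i, rfl⟩; exact (com_of (congrArg Subtype.val (e2 i))).symm)⟩, congrArg Subtype.val e1⟩

theorem R6 (h1 : g ∈ Et O y) (h2 : ∀ β, Commute g (O.m * O.h β * O.m⁻¹)) : g ∈ RR (XX O y 1) := by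
  obtain ⟨u, hu, e⟩ := h.Eτ g h1
  have e1 := eq_of_mem_V6 (fix_mhm O h.q2 hu fun β => e ▸ (τc (h2 β).symm
    (h.tL (mul_mem (mul_mem O.m_mem (h_mem_L β)) (inv_mem O.m_mem)))).symm)
  have m := mul_mem h1 (X1_Et (y := y) true u.a6)
  obtain ⟨v, hv, e2⟩ := h.Ek _ m (com_t h m (by
    rw [τ_mul h h1 (X1_Et _ _), e, h.X_τ, cz1, ← e1, h.E2 _ (h.EW u hu)]))
  have e3 := eq_of_mem_V6 (fix_mhm O h.q2 hv fun β => e2 ▸ (h2 β).mul_left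
    (by simpa [h.X_m] using conj_com O.m (h.X0_c true u.a6 (O.h_mem β))))
  exact (mul_mem_cancel_right (y_mem_RR _ true u.a6)).1 (by rw [e2, e3, ← cz1]; exact h.cz_mem 1 _)

theorem Um : O.m ∈ Ns (Ut O y) := Cx.ns_of_sq O.mm fun g hg => by
  have h1 := mem_normalizer_conj (mem_Ns_Cs (m_T5c O)) hg.2
  refine ⟨?_, h1⟩
  obtain ⟨b, e⟩ := Uτ h hg
  have e' := τj (h.tL O.m_mem) g
  rw [e, O.mx5] at e'
  have g2 := h.E2 g hg.1
  have k2 : O.m * g * O.m⁻¹ * (O.m * g * O.m⁻¹) = 1 := by rw [conj_mul, g2, mul_one, mul_inv_cancel]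
  have c : ∀ u ∈ W K, Commute g (O.ι u) := fun u hu => h.Ec _ hg.1 _ (h.EW u hu)
  have c4 : ∀ a, Commute (O.m * g * O.m⁻¹) (O.ι (x4 a)) := fun a => O.mx6 a ▸ conj_com _ (c _ (by simp))
  have c5 : ∀ a, Commute (O.m * g * O.m⁻¹) (O.ι (x5 a)) := fun a => O.mx5 a ▸ conj_com _ (c _ (by simp))
  have c6 : ∀ a, Commute (O.m * g * O.m⁻¹) (O.ι (x6 a)) := fun a => mx4 O a ▸ conj_com _ (c _ (by simp))
  have co : ∀ o, Od O t o → Commute (O.m * g * O.m⁻¹) o := fun o ho =>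
    fix (Cs_com ho.1 O.m_mem).symm ▸ conj_com _ (h.EO g hg.1 o ho).symm
  have fin : (∃ b, g = O.ι (x5 b)) → O.m * g * O.m⁻¹ ∈ Et O y := fun ⟨b, e⟩ => by
    rw [e, O.mx5]; exact (U5 h b).1
  generalize O.m * g * O.m⁻¹ = k at *
  have gi := inv_eq_of_mul_eq_one_right g2
  have ki := inv_eq_of_mul_eq_one_right k2
  have z2 := h.E2 _ (U5 h b).1
  have inv : k * (g * k) * k⁻¹ = (g * k)⁻¹ := by rw [mul_inv_rev, gi, ki, ← mul_assoc, mul_assoc _ k, k2, mul_one]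
  have H : ∀ d ∈ O.C, ∀ x ∈ Cs O.GG, g * k = d * x → ∃ a, d = O.ι (x5 a) := fun d hd x hx e => by
    rw [← mul_inv_eq_iff_eq_mul] at e
    obtain ⟨u, -, e1⟩ := O.cent_x6 hd one_ne_zero (e ▸ ((c _ (by simp)).mul_left (c6 1)).mul_left
      (Cs_com hx (ι_mem_L O _)).inv_left)
    exact ⟨_, e1.symm.trans (congrArg _ (eq_of_mem_U5 (fix_T5c O h.q2 (e1 ▸ e ▸
      mul_mem (mul_mem hg.2 h1) (inv_mem (Cs_anti T_le hx))))))⟩
  obtain ⟨d, hd, o, ho, e1 | e1⟩ := h.toH1.fac' (g := g * k) (com_of (by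
    rw [← conj_mul, eq_mul_inv_of_mul_eq e, eq_mul_inv_of_mul_eq e', gi, ki, ← (c _ (by simp)).eq,
      mul_assoc, ← mul_assoc (O.ι _), z2, one_mul])).symm fun a => (c _ (by simp)).mul_left (c4 a)
  · obtain ⟨a, rfl⟩ := H d hd o ho.1 e1
    rw [e1, fix ((c5 a).mul_right (co o ho)), ← mul_eq_one_iff_eq_inv,
      (Cs_com ho.1 (ι_mem_L O _)).mul_mul_mul_comm, h.E2 _ (U5 h a).1, one_mul, ← sq] at inv
    rw [ho.sq (k := 1) inv, mul_one] at e1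
    exact ((Et O y).mul_mem_cancel_left hg.1).1 (e1 ▸ (U5 h a).1)
  obtain ⟨a, rfl⟩ := H d hd _ (mul_mem h.tc ho.1) (e1.trans (mul_assoc _ _ _))
  have kt : k * t * k⁻¹ = t * O.ι (x5 b) := by
    rw [← e', ki, h.t_inv, ← mul_assoc, ← mul_assoc, ← mul_assoc, h.t2, one_mul]
  rw [e1, ← conj_mul, ← conj_mul, fix (c5 a), fix (co o ho), kt, ← mul_assoc, mul_assoc _ _ o,
    ← (Cs_com ho.1 (ι_mem_L O _)).eq, ← mul_assoc, eq_comm, inv_eq_iff_mul_eq_one, ← mul_assoc, ← sq,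
    ((Cs_com ho.1 (ι_mem_L O _)).symm.mul_left ho.2.1.symm).mul_pow, (h.tι _).symm.mul_pow, sq (O.ι _),
    h.E2 _ (U5 h a).1, sq t, h.t2, one_mul, one_mul, mul_eq_one_iff_eq_inv,
    inv_eq_of_mul_eq_one_right z2] at inv
  obtain rfl := ho.sq (k := 2) (by rw [sq 2, pow_mul, inv, sq, z2])
  exact fin (Uk h hg (com_t h hg.1 (by rw [e, ← inv, one_pow])))

theorem R0_A : RR (XX O y 0) ≤ At O y :=
  RR_le.2 fun s a => ⟨X0_Et s a, mem_E'.2 (by rw [h.X_m]; exact X1_Et s a)⟩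

theorem R1_A : RR (XX O y 1) ≤ At O y :=
  RR_le.2 fun s a => ⟨X1_Et s a, mem_E'.2 (by rw [h.X_m]; exact X0_Et s a)⟩

theorem U_A : Ut O y ≤ At O y := fun _ hg => ⟨hg.1, mem_E'.2 (mem_normalizer_conj (Um h) hg).1⟩

theorem Ad (hg : g ∈ At O y) :
    ∃ r ∈ RR (XX O y 0), ∃ u ∈ Ut O y, ∃ r' ∈ RR (XX O y 1), g = r * u * r' := by
  obtain ⟨w, -, e⟩ := h.Eτ g hg.1
  obtain ⟨u, hu, e⟩ := A_t h (mul_mem (mem_normalizer_conj (t_A h) hg) hg) (e ▸ (h.tι w).symm)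
  obtain ⟨v, hv, e1⟩ := Us h u.a5
  have m0 := y_mem_RR (XX O y 0) true u.a4
  have m1 := y_mem_RR (XX O y 1) true u.a6
  have m := mul_mem (mul_mem (R0_A h m0) (U_A h hv)) (R1_A h m1)
  obtain ⟨x, hx, e2⟩ := A_t h (mul_mem hg m) (com_t h (mul_mem hg m).1 (by
    rw [τ_mul h hg.1 m.1, τ_mul h (mul_mem (X0_Et _ _) hv.1) (X1_Et _ _), τ_mul h (X0_Et _ _) hv.1, e1,
      h.X_τ, h.X_τ, ← dec hu, e, h.E2 _ (D_A h hu).1]))
  refine ⟨_, mul_mem (h.cz_mem 0 x.a4) m0, _, mul_mem (U5 h x.a5) hv, _, mul_mem (h.cz_mem 1 x.a6) m1, ?_⟩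
  rw [eq_mul_inv_of_mul_eq e2, inv_E h m.1, dec hx, (h.Ec _ (R1_A h (h.cz_mem 1 _)).1 _
    (mul_mem (X0_Et _ _) hv.1)).mul_mul_mul_comm, (h.Ec _ (U5 h _).1 _ (X0_Et _ _)).mul_mul_mul_comm]

theorem Ai {r v r' : G} (h1 : r ∈ RR (XX O y 0)) (h2 : v ∈ Ut O y) (h3 : r' ∈ RR (XX O y 1))
    (e : r * v * r' = 1) : r = 1 ∧ v = 1 ∧ r' = 1 := by
  obtain ⟨a, e1⟩ := h.RR_τ h1
  obtain ⟨b, e2⟩ := Uτ h h2
  obtain ⟨c, e3⟩ := h.RR_τ h3
  obtain ⟨rfl, rfl, rfl⟩ := ind (O := O) (a := a) (b := b) (c := c) (by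
    rw [← e1, ← e2, ← e3, ← τ_mul h (R0_A h h1).1 h2.1,
      ← τ_mul h (mul_mem (R0_A h h1).1 h2.1) (R1_A h h3).1, e]; group)
  obtain ⟨a, rfl⟩ := h.RR_t h1 (com_t h (R0_A h h1).1 (e1.trans (cz_zero O 0)))
  obtain ⟨b, rfl⟩ := Uk h h2 (com_t h h2.1 (by rw [e2, x5_zero, map_one]))
  obtain ⟨c, rfl⟩ := h.RR_t h3 (com_t h (R1_A h h3).1 (e3.trans (cz_zero O 1)))
  obtain ⟨rfl, rfl, rfl⟩ := ind e
  exact ⟨cz_zero O 0, by rw [x5_zero, map_one], cz_zero O 1⟩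

end P4b

open P4b in
theorem p4b (h : H4 O t y) : H5 O t y where
  toH4 := h
  R6 _ := R6 h
  Um := Um h
  Uτ _ := Uτ h
  Uk _ := Uk h
  Us := Us h
  U5 := U5 h
  Ad _ := ⟨Ad h, fun ⟨_, h1, _, h2, _, h3, e⟩ =>
    e ▸ mul_mem (mul_mem (R0_A h h1) (U_A h h2)) (R1_A h h3)⟩
  Ai _ h1 _ h2 _ h3 := Ai h h1 h2 h3

end Cfsg.Lib.SRe
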