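import Cfsg.Agent.SRe.Api

/-!
# Standard subgroups of type ²F₄(q): commutators at distance three
-/

set_option autoImplicit false
set_option linter.unusedSectionVars false
set_option maxRecDepth 100000

namespace Cfsg.Lib.SRe

open Subgroup Function Cfsg.Lib.Trans Cfsg.Lib.Oct Cfsg.Lib.Oct.UU
open Cfsg.Lib.Gold hiding Oc
open Cfsg.Lib.Chev (Tw SzModel)
open scoped commutatorElement

universe u

variable {K : Type*} [Field K] [TwF K] {ρ : RK K} {G : Type u} [Group G]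
variable [Finite K] [Finite G] {O : Oc ρ G} {t : G} {y : Bool → K → G} {g g' a : G} {u : UU K}

namespace P4c

theorem mem_E' : g ∈ cj O.m (Et O y) ↔ O.m * g * O.m⁻¹ ∈ Et O y := by rw [mem_cj, O.m_inv]

theorem m_A : O.m ∈ Ns (At O y) := by
  rw [← cj_eq_self_iff, At, cj_inf, cj_cj, O.mm, cj_one, inf_comm]

theorem ns_A (h1 : g ∈ Ns (Et O y)) (h2 : O.m * g * O.m⁻¹ ∈ Ns (Et O y)) : g ∈ Ns (At O y) := by
  rw [← cj_eq_self_iff] at *
  rw [At, cj_inf, h1, cj_cj, show g * O.m = O.m * (O.m * g * O.m⁻¹) by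
    rw [O.m_inv, ← mul_assoc, ← mul_assoc, O.mm, one_mul], ← cj_cj, h2]

theorem R_A (hu : u ∈ R K) : O.ι u ∈ Ns (At O y) :=
  ns_A (C_Et (O.ι_mem u)) (by rw [(mι O hu).1]; exact C_Et (O.ι_mem _))

theorem fix (h : Commute g a) : g * a * g⁻¹ = a := by rw [h.eq, mul_inv_cancel_right]

theorem cm_left (a b c : G) : ⁅a * b, c⁆ = a * ⁅b, c⁆ * a⁻¹ * ⁅a, c⁆ := by
  simp only [commutatorElement_def]; group

theorem cm_right (a b c : G) : ⁅a, b * c⁆ = ⁅a, b⁆ * (b * ⁅a, c⁆ * b⁻¹) := by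
  simp only [commutatorElement_def]; group

theorem com_cm (h1 : Commute a g) (h2 : Commute a g') : Commute a ⁅g, g'⁆ :=
  ((h1.mul_right h2).mul_right h1.inv_right).mul_right h2.inv_right

section

variable (h : H4 O t y)
include h

theorem Ec' (h1 : g ∈ cj O.m (Et O y)) (h2 : g' ∈ cj O.m (Et O y)) : Commute g g' :=
  (Commute.conj_iff O.m).1 (h.Ec _ (mem_E'.1 h1) _ (mem_E'.1 h2))

theorem t_A : t ∈ Ns (At O y) := ns_A h.Et' (by rw [fix (h.tL O.m_mem).symm]; exact h.Et')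

theorem ι_E' (hu : u ∈ R K) (h' : ν1 u ∈ W K) : O.ι u ∈ cj O.m (Et O y) :=
  mem_E'.2 (by rw [(mι O hu).1]; exact h.EW _ h')

theorem x8_E' (b : K) : O.ι (x8 b) ∈ cj O.m (Et O y) := ι_E' h (by simp) (by simp [ν1])

theorem X2_E' (s : Bool) (b : K) : XX O y 2 s b ∈ cj O.m (Et O y) := mem_E'.2 (h.X2_Et s b)

theorem D_A (hu : u ∈ D K) : O.ι u ∈ At O y :=
  ⟨h.EW _ (by simp_all), ι_E' h hu.1 (by simp_all [ν1])⟩

theorem A_t (h1 : a ∈ At O y) (h2 : Commute a t) : ∃ u ∈ D K, a = O.ι u := by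
  obtain ⟨u, hu, rfl⟩ := h.Ek _ h1.1 h2
  have k := mem_E'.1 h1.2
  rw [(mι O hu.1).1] at k
  obtain ⟨v, hv, e⟩ := h.Ek _ k (h.tι _).symm
  rw [← O.inj e] at hv
  exact ⟨u, by simp_all [ν1], rfl⟩

theorem inv_E (h1 : g ∈ Et O y) : g⁻¹ = g := inv_eq_of_mul_eq_one_right (h.E2 g h1)

theorem τ_mul (h1 : g ∈ Et O y) (h2 : g' ∈ Et O y) :
    t * (g * g') * t⁻¹ * (g * g') = t * g * t⁻¹ * g * (t * g' * t⁻¹ * g') := by
  have k := (h.Ec _ (mem_normalizer_conj h.Et' h2) _ h1).eq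
  calc _ = t * g * t⁻¹ * (t * g' * t⁻¹ * g) * g' := by group
    _ = _ := by rw [k]; group

theorem com_t (h1 : g ∈ Et O y) (h2 : t * g * t⁻¹ * g = 1) : Commute g t :=
  (com_of ((eq_inv_of_mul_eq_one_left h2).trans (inv_E h h1))).symm

theorem τ_mem (h1 : g ∈ Et O y) : t * g * t⁻¹ * g ∈ Et O y :=
  mul_mem (mem_normalizer_conj h.Et' h1) h1

theorem t_X (k : ZMod 8) (s : Bool) (b : K) :
    t * XX O y k s b * t⁻¹ = XX O y k s b * cz O k b := by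
  rw [h.X_t, ← h.X_prod k s, ← mul_assoc, (h.tr_k k).sq, one_mul]

end

variable (h : H5 O t y)
include h

theorem τ_D (hu : u ∈ D K) : ∃ a ∈ At O y, t * a * t⁻¹ * a = O.ι u := by
  obtain ⟨v, hv, e⟩ := h.Us u.a5
  refine ⟨_, (h.Ad _).2 ⟨_, y_mem_RR _ true u.a4, v, hv, _, y_mem_RR _ true u.a6, rfl⟩, ?_⟩
  rw [τ_mul h.toH4 (mul_mem (X0_Et _ _) hv.1) (X1_Et _ _), τ_mul h.toH4 (X0_Et _ _) hv.1, e, h.X_τ,
    h.X_τ, cz0, cz1, ← map_mul, ← map_mul]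
  exact congrArg _ (by ext <;> simp_all)

theorem cm_x8 (h1 : g ∈ Et O y) (b : K) : ⁅O.ι (x8 b), g⁆ ∈ At O y := by
  by_cases hb : b = 0
  · simp [hb, one_mem]
  have n := fun g hg => mem_normalizer_conj (x := g) (C_Et (y := y) (O.ι_mem (x8 b))) hg
  have e : ∀ g ∈ Et O y, ⁅O.ι (x8 b), g⁆ = O.ι (x8 b) * g * (O.ι (x8 b))⁻¹ * g := fun g hg => by
    rw [commutatorElement_def, inv_E h.toH4 hg]
  have m : ⁅O.ι (x8 b), g⁆ ∈ Et O y := e g h1 ▸ mul_mem (n g h1) h1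
  obtain ⟨u, hu, e1⟩ := h.Eτ g h1
  obtain ⟨a, ha, e2⟩ := τ_D h (u := ⁅x8 b, u⁆) (by
    obtain ⟨h1, h2, h3, h4, h5, h6, h7⟩ := hu
    rw [mem_D]; uus [h1, h2, h3, h4, h5, h6, h7]; grind)
  have e3 : t * ⁅O.ι (x8 b), g⁆ * t⁻¹ * ⁅O.ι (x8 b), g⁆ = O.ι ⁅x8 b, u⁆ := by
    rw [map_commutatorElement, ← e1, e _ (τ_mem h.toH4 h1), e g h1, τ_mul h.toH4 (n g h1) h1]
    congr 1
    conv_lhs => rw [← fix (h.tι (x8 b)).symm]
    group
  obtain ⟨v, hv, e4⟩ := h.Ek _ (mul_mem m ha.1) (com_t h.toH4 (mul_mem m ha.1) (by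
    rw [τ_mul h.toH4 m ha.1, e3, ← e2, h.E2 _ (τ_mem h.toH4 ha.1)]))
  have c : Commute (O.ι (x8 b)) (O.ι v) := by
    refine e4 ▸ Commute.mul_right (com_of ?_) (Ec' h.toH4 (x8_E' h.toH4 b) ha.2)
    rw [e g h1]
    calc _ = O.ι (x8 b) * O.ι (x8 b) * g * (O.ι (x8 b) * O.ι (x8 b))⁻¹ *
        (O.ι (x8 b) * g * (O.ι (x8 b))⁻¹) := by group
      _ = _ := by
        rw [← map_mul, x8_sq, map_one, one_mul, inv_one, mul_one, (h.Ec _ h1 _ (n g h1)).eq]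
  have d : v ∈ D K := by
    have k := ι_com O c
    obtain ⟨h1, h2, h3, h4, h5, h6, h7⟩ := hv
    simp only [UU.ext_iff] at k
    uus [h1, h2, h3, h4, h5, h6, h7] at k
    rw [mem_D]
    grind
  exact (mul_mem_cancel_right ha).1 (e4 ▸ D_A h.toH4 d)

theorem cm_x2 (h1 : g ∈ cj O.m (Et O y)) (b : K) : ⁅O.ι (x2 b), g⁆ ∈ At O y := by
  have k := mem_normalizer_conj' m_A (cm_x8 h (mem_E'.1 h1) b)
  rwa [← cm O (O.mx8 b), ← conjugate_commutatorElement, ← mul_assoc, ← mul_assoc, inv_mul_cancel,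
    one_mul, inv_mul_cancel_right] at k

theorem cm_X (s s' : Bool) (a b : K) : ⁅XX O y 2 s' b, XX O y 7 s a⁆ ∈ At O y := by
  have hg := h.X7_Et s a
  have hg' := X2_E' h.toH4 s' b
  have cA : ∀ a ∈ At O y, ∀ {g g'}, g ∈ Et O y → g' ∈ cj O.m (Et O y) → Commute a ⁅g', g⁆ :=
    fun a ha _ _ hg hg' => com_cm (Ec' h.toH4 ha.2 hg') (h.Ec _ ha.1 _ hg)
  have z := fun a => h.EW (x2 a) (by simp)
  have a1 := cm_x8 h (mul_mem hg (z a)) b
  have a2 : ∀ a, ⁅XX O y 2 s' b, O.ι (x2 a)⁆ ∈ At O y := fun a => by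
    rw [← commutatorElement_inv]; exact inv_mem (cm_x2 h hg' a)
  set β := ⁅XX O y 2 s' b, XX O y 7 s a⁆ with hβ
  obtain ⟨a₁, ha₁, e1⟩ : ∃ a₁ ∈ At O y, t * β * t⁻¹ = β * a₁ := ⟨_, mul_mem (a2 a) a1, by
    rw [conjugate_commutatorElement, t_X h.toH4, t_X h.toH4, cz2, cz7, cm_left,
      fix (Ec' h.toH4 hg' a1.2), cm_right (XX O y 2 s' b), fix (h.Ec _ hg _ (a2 a).1), ← mul_assoc,
      (cA _ a1 hg hg').eq, mul_assoc, (h.Ec _ a1.1 _ (a2 a).1).eq]⟩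
  obtain ⟨u, hu, rfl⟩ := A_t h.toH4 ha₁ (com_t h.toH4 ha₁.1 (by
    have k : β = t * (t * β * t⁻¹) * t⁻¹ := by
      rw [h.t_inv, ← mul_assoc, ← mul_assoc, h.t2, one_mul, mul_assoc, h.t2, mul_one]
    rw [e1, show t * (β * a₁) * t⁻¹ = t * β * t⁻¹ * (t * a₁ * t⁻¹) by group, e1, mul_assoc,
      left_eq_mul] at k
    rw [(h.Ec _ (mem_normalizer_conj h.Et' ha₁.1) _ ha₁.1).eq, k]))
  obtain ⟨a₀, ha₀, e0⟩ := τ_D h hu
  have ct : Commute (β * a₀) t := (com_of (by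
    have k := mem_normalizer_conj h.Et' ha₀.1
    rw [show t * (β * a₀) * t⁻¹ = t * β * t⁻¹ * (t * a₀ * t⁻¹) by group, e1, ← e0,
      (h.Ec _ k _ ha₀.1).eq, mul_assoc, mul_assoc a₀, h.E2 _ k, mul_one])).symm
  have cι : ∀ u, u.a7 = 0 → u ∈ Q K → u ∈ T8 K → Commute β (O.ι u) := fun u h1 h2 h3 =>
    (com_cm (h.X2_c s' b h3).symm (h.X7_c s a h1 h2).symm).symm
  have c2 : ∀ c, Commute β (O.ι (x2 c)) := fun c => (com_of (by
    rw [conjugate_commutatorElement, fix (h.Ec _ (z c) _ hg), show O.ι (x2 c) * XX O y 2 s' b *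
      (O.ι (x2 c))⁻¹ = ⁅O.ι (x2 c), XX O y 2 s' b⁆ * XX O y 2 s' b by group, cm_left,
      fix (cA _ (cm_x2 h hg' c) hg hg'),
      (h.Ec _ (cm_x2 h hg' c).1 _ hg).commutator_eq, mul_one])).symm
  have c8 : ∀ c, Commute β (O.ι (x8 c)) := fun c => (com_of (by
    rw [conjugate_commutatorElement, fix (Ec' h.toH4 (x8_E' h.toH4 c) hg'), show O.ι (x8 c) *
      XX O y 7 s a * (O.ι (x8 c))⁻¹ = ⁅O.ι (x8 c), XX O y 7 s a⁆ * XX O y 7 s a by group, cm_right,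
      fix (cA _ (cm_x8 h hg c) hg hg'),
      (Ec' h.toH4 hg' (cm_x8 h hg c).2).commutator_eq, one_mul])).symm
  have cD : ∀ c, (∀ u, Commute (β * a₀) (O.ι u) → Commute c (O.ι u)) → c ∈ O.C → c ∈ At O y :=
    fun c k hc => by
    obtain ⟨v, hv, rfl⟩ := cent_D O hc
      (fun c => k _ ((c2 c).mul_left (h.Ec _ ha₀.1 _ (z c))))
      (fun c => k _ ((c8 c).mul_left (Ec' h.toH4 ha₀.2 (x8_E' h.toH4 c))))
      (fun c => k _ ((cι _ rfl (by simp) (by simp)).mul_left (h.E4 _ ha₀.1 _ (by simp))))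
      (fun c => k _ ((cι _ rfl (by simp) (by simp)).mul_left (h.Ec _ ha₀.1 _ (h.EW _ (by simp)))))
      (fun c => k _ ((cι _ rfl (by simp) (by simp)).mul_left ((Commute.conj_iff O.m).1
        (by rw [O.my6]; exact h.E4 _ (mem_E'.1 ha₀.2) _ (by simp)))))
    exact D_A h.toH4 hv
  have gi : XX O y 7 s a * (β * a₀) * (XX O y 7 s a)⁻¹ = (β * a₀)⁻¹ := by
    rw [mul_inv_rev, (cA _ ha₀ hg hg').inv_inv.eq, inv_E h.toH4 ha₀.1, ← mul_assoc, mul_assoc _ a₀,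
      (h.Ec _ ha₀.1 _ (inv_mem hg)).eq, ← mul_assoc, hβ, commutatorElement_inv,
      commutatorElement_def, commutatorElement_def, inv_E h.toH4 hg, (h.tr_k 2).inv]
    simp only [mul_assoc, (h.tr_k 7).sq, mul_one]
  obtain ⟨c, hc, o, ho, e⟩ := h.toH1.fac' ct fun c => (cι _ rfl (by simp) (by simp)).mul_left
    (h.Ec _ ha₀.1 _ (h.EW _ (by simp)))
  have oι : ∀ u, Commute o (O.ι u) := fun u => (ho.1 _ (ι_mem_L O u)).symm
  have og := h.od_X ho 7 s a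
  refine (mul_mem_cancel_right ha₀).1 ?_
  rcases e with e | e
  · have hA := cD c (fun u k => by
      rw [eq_mul_inv_of_mul_eq e.symm]; exact k.mul_left (oι u).inv_left) hc
    have oc := h.EO _ hA.1 o ho
    rw [e, fix ((h.Ec _ hg _ hA.1).mul_right og.symm), ← mul_eq_one_iff_eq_inv, ← sq,
      oc.symm.mul_pow, sq, h.E2 _ hA.1, one_mul] at gi
    rwa [e, ho.sq (k := 1) gi, mul_one]
  · have hA := cD c (fun u k => by
      rw [show c = β * a₀ * o⁻¹ * t⁻¹ by rw [e]; group]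
      exact (k.mul_left (oι u).inv_left).mul_left (h.tι u).inv_left) hc
    have oc := h.EO _ hA.1 o ho
    have tc := h.tL (C_le_L O hc)
    have gt : XX O y 7 s a * t * (XX O y 7 s a)⁻¹ = t * O.ι (x2 a) := by
      rw [← cz7, ← h.X_τ 7 s, inv_E h.toH4 hg, h.t_inv, ← mul_assoc, ← mul_assoc, ← mul_assoc, h.t2,
        one_mul]
    rw [e, show XX O y 7 s a * (c * t * o) * (XX O y 7 s a)⁻¹ = XX O y 7 s a * c * (XX O y 7 s a)⁻¹ *
      (XX O y 7 s a * t * (XX O y 7 s a)⁻¹) * (XX O y 7 s a * o * (XX O y 7 s a)⁻¹) by group,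
      fix (h.Ec _ hg _ hA.1), fix og.symm, gt, ← mul_assoc, mul_assoc _ _ o, ← (oι _).eq,
      ← mul_assoc, eq_comm, inv_eq_iff_mul_eq_one, ← mul_assoc, ← sq,
      (oc.symm.mul_left ho.2.1.symm).mul_pow, tc.symm.mul_pow, sq c, h.E2 _ hA.1, sq t, h.t2,
      one_mul, one_mul, mul_eq_one_iff_eq_inv, inv_E h.toH4 (z a)] at gi
    obtain rfl := ho.sq (k := 2) (by rw [sq 2, pow_mul, gi, sq, h.E2 _ (z a)])
    obtain rfl : a = 0 := x2_eq_one.1 (O.inj (by rw [← gi, one_pow, map_one]))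
    rw [hβ, (h.tr_k 7).zero, commutatorElement_one_right, one_mul, mul_one] at e
    obtain ⟨v, -, k⟩ := h.Ek t (((Et O y).mul_mem_cancel_left hA.1).1 (e ▸ ha₀.1)) rfl
    exact (h.t_not (k ▸ ι_mem_L O v)).elim

theorem cE (s : Bool) (a : K) : ∀ g ∈ Et O y, ⁅XX O y 2 s a, g⁆ ∈ At O y := by
  let S : Subgroup G :=
    { carrier := {g | g ∈ Et O y ∧ ⁅XX O y 2 s a, g⁆ ∈ At O y}
      one_mem' := ⟨one_mem _, by simp [one_mem]⟩
      mul_mem' := fun h1 h2 => ⟨mul_mem h1.1 h2.1, by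
        rw [cm_right, fix (h.Ec _ h1.1 _ h2.2.1)]; exact mul_mem h1.2 h2.2⟩
      inv_mem' := fun h1 => by rw [inv_E h.toH4 h1.1]; exact h1 }
  refine fun g hg => (h.Et_le (A := S) (fun s' b => ⟨X0_Et _ _, ?_⟩) (fun s' b => ⟨X1_Et _ _, ?_⟩)
    (fun v hv s' b => ⟨mem_normalizer_conj (C_Et (O.ι_mem v)) (h.X7_Et _ _), ?_⟩) hg).2
  · rw [Commute.commutator_eq (by exact (h.cX 0 2 (by simp) s' s b a).symm)]; exact one_mem _
  · rw [Commute.commutator_eq (by exact (h.cX 1 1 (by simp) s' s b a).symm)]; exact one_mem _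
  · rw [← fix (h.X2_c s a (u := v) (by simp_all)).symm, ← conjugate_commutatorElement]
    exact mem_normalizer_conj (R_A hv.1) (cm_X h _ _ _ _)

end P4c

open P4c

theorem p4c (h : H5 O t y) : H6 O t y := by
  have k : ∀ s a, XX O y 2 s a ∈ Ns (Et O y) := fun s a =>
    mem_normalizer_of_cj_le (cj_le_iff.2 fun g hg => by
      simpa [commutatorElement_def] using mul_mem (cE h s a g hg).1 hg)
  refine ⟨h, cE h, KK_le.2 ⟨k, fun s a => ?_⟩⟩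
  rw [wk_two]
  exact mul_mem (mul_mem (C_Et O.n_mem) (k s a)) (inv_mem (C_Et O.n_mem))

end Cfsg.Lib.SRe
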