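import Cfsg.Agent.SRe.P4c

/-!
# Standard subgroups of type ²F₄(q): the structure constants
-/

set_option autoImplicit false
set_option linter.unusedSectionVars false
set_option maxRecDepth 100000

namespace Cfsg.Lib.SRe

open Subgroup Function Cfsg.Lib.Trans Cfsg.Lib.Oct Cfsg.Lib.Oct.UU
open Cfsg.Lib.Gold hiding Oc
open Cfsg.Lib.Chev (Tw SzModel)
open scoped commutatorElement

universe u

variable {K : Type*} [Field K] [TwF K] {ρ : RK K} {G : Type u} [Group G]
variable [Finite K] [Finite G] {O : Oc ρ G} {t : G} {y : Bool → K → G} {g u u' : G}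
  {p p' r r' : Bool → K}

namespace P5a

open P4c

variable (O y) in
/-- An element of the product of two root groups. -/
def P (k : ZMod 8) (p : Bool → K) : G := XX O y k true (p true) * XX O y k false (p false)

theorem P_eq_1 : type_of% @P.eq_1 := @P.eq_1

variable (O y) in
/-- The normal form of the elements of `At`. -/
def N (p : Bool → K) (u : G) (r : Bool → K) : G := P O y 0 p * u * P O y 1 r

theorem N_eq_1 : type_of% @N.eq_1 := @N.eq_1

theorem P_mem (k : ZMod 8) (p : Bool → K) : P O y k p ∈ RR (XX O y k) :=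
  mul_mem (y_mem_RR _ _ _) (y_mem_RR _ _ _)

theorem P0_E (p : Bool → K) : P O y 0 p ∈ Et O y := mul_mem (X0_Et _ _) (X0_Et _ _)

theorem P1_E (p : Bool → K) : P O y 1 p ∈ Et O y := mul_mem (X1_Et _ _) (X1_Et _ _)

theorem conj_P {j k : ZMod 8} {l : Bool → K}
    (h : ∀ s a, g * XX O y j s a * g⁻¹ = XX O y k s (l s * a)) (p : Bool → K) :
    g * P O y j p * g⁻¹ = P O y k (l * p) := by
  rw [P, P, Pi.mul_apply, Pi.mul_apply, ← h, ← h]
  group

theorem conj_N (g : G) (p : Bool → K) (u : G) (r : Bool → K) : g * N O y p u r * g⁻¹ =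
    g * P O y 0 p * g⁻¹ * (g * u * g⁻¹) * (g * P O y 1 r * g⁻¹) := by
  rw [N]; group

theorem ns_U (h1 : g ∈ Ns (Et O y)) (h2 : g ∈ Cs (T5c O)) : g ∈ Ns (Ut O y) :=
  mem_normalizer_of_cj_le (cj_le_iff.2 fun _ h =>
    ⟨mem_normalizer_conj h1 h.1, (Cs (T5c O)).mul_mem (mul_mem h2 h.2) (inv_mem h2)⟩)

theorem comb {c : Bool → Bool → Bool → K} {x : K} {μ : Bool → K} (x1 : x ≠ 1)
    (s1 : ∀ s, c true true s + c false true s + (c true false s + c false false s) = 1)
    (t1 : ∀ e f s, c (!e) (!f) s = c e f (!s))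
    (w1 : ∀ e f s, σ (μ e) * c e f s = cond s x 1 * c e f s)
    (w2 : ∀ e f s, μ e * c f e s = μ s * c f e s) :
    ∃ δ, ∀ e f s, c e f s = if f = (e == δ) ∧ s = f then 1 else 0 := by
  have w : ∀ e f s, σ (μ e) ≠ cond s x 1 → c e f s = 0 := fun e f s n =>
    (mul_eq_mul_right_iff.1 (w1 e f s)).resolve_left n
  have hμ : μ true ≠ μ false := fun e => by
    have k : ∀ s, σ (μ true) = cond s x 1 := fun s => by_contra fun n => by
      have := s1 s
      rw [w _ _ _ n, w _ _ _ n, w _ _ _ (e ▸ n), w _ _ _ (e ▸ n)] at this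
      simp at this
    exact x1 ((k true).symm.trans (k false))
  have z1 := fun f => (mul_eq_mul_right_iff.1 (w2 true f false)).resolve_left hμ
  have z2 := fun f => (mul_eq_mul_right_iff.1 (w2 false f true)).resolve_left hμ.symm
  have k1 := s1 true
  have k2 : c false false false = c true true true := t1 true true false
  have k3 : c true false false = c false true true := t1 false true false
  rw [z2, z2, add_zero, add_zero] at k1
  by_cases e : σ (μ true) = x
  · have k4 := w true false false (e ▸ x1)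
    rw [← k3, k4, add_zero] at k1
    exact ⟨true, fun e f s => by cases e <;> cases f <;> cases s <;> simp [z1, z2, k1, k2, k4, ← k3]⟩
  · have k4 := w true true true e
    rw [k4, zero_add] at k1
    exact ⟨false, fun e f s => by cases e <;> cases f <;> cases s <;> simp [z1, z2, k1, k2, k3, k4]⟩

variable (h : H7 O t y)
include h

theorem P_mul (k : ZMod 8) (p p' : Bool → K) : P O y k p * P O y k p' = P O y k (p + p') :=
  (h.pr k).mul2 true _ _ _ _

theorem P_zero (k : ZMod 8) : P O y k 0 = 1 := by simp [P, (h.pr k).zero]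

theorem N_mul (hu : u ∈ Ut O y) (hu' : u' ∈ Ut O y) :
    N O y p u r * N O y p' u' r' = N O y (p + p') (u * u') (r + r') := by
  rw [N, N, N, ← P_mul h, ← P_mul h]
  calc _ = P O y 0 p * (u * P O y 1 r * P O y 0 p') * u' * P O y 1 r' := by group
    _ = P O y 0 p * P O y 0 p' * u * (P O y 1 r * u') * P O y 1 r' := by
      rw [(h.Ec _ (mul_mem hu.1 (P1_E r)) _ (P0_E p')).eq]; group
    _ = _ := by rw [(h.Ec _ (P1_E r) _ hu'.1).eq]; group

theorem N_mem (hu : u ∈ Ut O y) : N O y p u r ∈ Et O y := mul_mem (mul_mem (P0_E p) hu.1) (P1_E r)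

theorem uniq (hu : u ∈ Ut O y) (hu' : u' ∈ Ut O y) (e : N O y p u r = N O y p' u' r') :
    p = p' ∧ u = u' ∧ r = r' := by
  have k := h.E2 _ (N_mem h (p := p) (r := r) hu)
  nth_rewrite 2 [e] at k
  rw [N_mul h hu hu'] at k
  obtain ⟨k1, k2, k3⟩ := h.Ai _ (P_mem 0 _) _ (mul_mem hu hu') _ (P_mem 1 _) k
  have z : ∀ {k} {p p' : Bool → K}, P O y k (p + p') = 1 → p = p' := fun {k p p'} e =>
    funext fun s => (h.pr k).eq_of_add (by
      cases s
      exacts [((h.pr k).ind _ _ e).2, ((h.pr k).ind _ _ e).1])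
  exact ⟨z k1, (eq_inv_of_mul_eq_one_left k2).trans (inv_E h.toH4 hu'.1), z k3⟩

theorem cm_mem (f : Bool) (b : K) (hg : g ∈ Et O y) : ⁅g, XX O y 2 f b⁆ ∈ At O y := by
  rw [← commutatorElement_inv]; exact inv_mem (h.cE f b g hg)

theorem η_U (x : Kˣ × Kˣ) : O.η x ∈ Ns (Ut O y) := ns_U (h.Eη x) (com_Cs fun _ hg => by
  obtain ⟨b, rfl⟩ := (mem_T5c O).1 hg
  exact (Commute.all _ _).map O.η)

theorem form : ∃ (c d : Bool → Bool → Bool → K) (B : Bool → Bool → K → G),
    (∀ e f x, B e f x ∈ Ut O y) ∧ ∀ e f a b, ⁅XX O y 7 e a, XX O y 2 f b⁆ =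
      N O y ((σ a * b) • c e f) (B e f (a * b)) ((a * σ b) • d e f) := by
  have ex : ∀ e f a b, ∃ p, ∃ u ∈ Ut O y, ∃ r, ⁅XX O y 7 e a, XX O y 2 f b⁆ = N O y p u r :=
    fun e f a b => by
    obtain ⟨x, hx, u, hu, z, hz, k⟩ := (h.Ad _).1 (cm_mem h f b (h.X7_Et e a))
    obtain ⟨a1, a2, rfl⟩ := (h.pr 0).mem_RR.1 hx
    obtain ⟨b1, b2, rfl⟩ := (h.pr 1).mem_RR.1 hz
    exact ⟨(cond · a1 a2), u, hu, (cond · b1 b2), k⟩
  choose p u hu r k using ex
  have cj : ∀ e f a b (x : Kˣ × Kˣ) (A B : K), (x.1 : K) * σ (x.1 : K) * x.2 * σ (x.2 : K) = A →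
      (x.2 : K) * σ (x.2 : K) = B → p e f (A * a) (B * b) = (σ A * B) • p e f a b ∧
      u e f (A * a) (B * b) = O.η x * u e f a b * (O.η x)⁻¹ ∧
      r e f (A * a) (B * b) = (A * σ B) • r e f a b := by
    rintro e f a b x _ _ rfl rfl
    refine uniq h (hu ..) (mem_normalizer_conj (η_U h x) (hu ..)) ?_
    rw [← k, ← h.tor_X (p := x) (k := 7) (fun a => by rw [cz7, cz7, O.ηι, tor_x2]),
      ← h.tor_X (p := x) (k := 2) (fun a => by rw [cz2, cz2, O.ηι, tor_x8]),
      ← conjugate_commutatorElement, k, conj_N,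
      conj_P fun s => h.tor_X (fun a => by rw [cz0, cz0, O.ηι, tor_x4]) s,
      conj_P fun s => h.tor_X (fun a => by rw [cz1, cz1, O.ηι, tor_x6]) s, N]
    congr 1
    · congr 2
      ext s
      simp only [Pi.mul_apply, Pi.smul_apply, smul_eq_mul, map_mul, σσ]
      ring
    · congr 1
      ext s
      simp only [Pi.mul_apply, Pi.smul_apply, smul_eq_mul, map_mul, σσ]
      ring
  have z : ∀ e f a b, a = 0 ∨ b = 0 → ⁅XX O y 7 e a, XX O y 2 f b⁆ = N O y 0 1 0 := by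
    rintro e f a b (rfl | rfl) <;> simp [N, P_zero h, (h.pr _).zero]
  refine ⟨fun e f => p e f 1 1, fun e f => r e f 1 1, fun e f x => u e f x 1, fun _ _ _ => hu ..,
    fun e f a b => ?_⟩
  by_cases c : a = 0 ∨ b = 0
  · have k1 := (uniq h (hu ..) (one_mem _) ((k e f 0 1).symm.trans (z _ _ _ _ (.inl rfl)))).2.1
    rw [z _ _ _ _ c]
    rcases c with rfl | rfl <;> simp [k1]
  rw [not_or] at c
  obtain ⟨β, hβ⟩ := exists_N1u c.2
  obtain ⟨α, hα⟩ := exists_N1u (div_ne_zero c.1 c.2)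
  have k1 := cj e f 1 1 (α, β) a b (by rw [mul_assoc, hα, hβ, div_mul_cancel₀ _ c.2]) hβ
  have k2 := (cj e f (a * b) 1 ((β ^ 2)⁻¹, β) b⁻¹ b (by
    have := β.ne_zero
    have := σ_ne_zero β
    simp [← hβ]
    field_simp) hβ).2.1
  rw [fix (Cs_com (hu e f (a * b) 1).2 ((mem_T5c O).2 ⟨β, rfl⟩)).symm, mul_comm a,
    inv_mul_cancel_left₀ c.2, mul_one, mul_comm b] at k2
  simp only [mul_one] at k1
  rw [k, k1.1, k1.2.2, k2]

theorem cm_add (e e' f : Bool) (a a' b : K) : ⁅XX O y 7 e a * XX O y 7 e' a', XX O y 2 f b⁆ =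
    ⁅XX O y 7 e a, XX O y 2 f b⁆ * ⁅XX O y 7 e' a', XX O y 2 f b⁆ := by
  rw [cm_left, fix (h.Ec _ (h.X7_Et e a) _ (cm_mem h f b (h.X7_Et _ _)).1),
    (h.Ec _ (cm_mem h f b (h.X7_Et _ _)).1 _ (cm_mem h f b (h.X7_Et _ _)).1).eq]

theorem cm_prod (a b : K) (hg : g ∈ Et O y) : ⁅g, XX O y 2 true a * XX O y 2 false b⁆ =
    ⁅g, XX O y 2 true a⁆ * ⁅g, XX O y 2 false b⁆ := by
  rw [cm_right, fix (Ec' h.toH4 (X2_E' h.toH4 _ _) (cm_mem h false b hg).2)]

theorem weight {l : Bool → K} (hl : ∀ s, l s ≠ 0) : ∃ g ∈ Ns (Ut O y), ∃ μ : Bool → K,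
    (∀ s a, g * XX O y 0 s a * g⁻¹ = XX O y 0 s (l s * a)) ∧
    (∀ s a, g * XX O y 7 s a * g⁻¹ = XX O y 7 s (μ s * a)) ∧
    (∀ s a, g * XX O y 1 s a * g⁻¹ = XX O y 1 s (μ s * a)) ∧
    ∀ s a, g * XX O y 2 s a * g⁻¹ = XX O y 2 s a := by
  obtain ⟨g, hg, k1, k2⟩ := (h.tr_k 0).all _ _ (hl true) (hl false)
  choose μ hμ using (h.tH0 g hg).1 7
  have c := fun x hx => Cs_com (a := x) (h.cK hg.1.1) hx
  refine ⟨g, (h.tH0 g hg).2, μ, fun s => by cases s <;> assumption, hμ, fun s a => ?_,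
    fun s a => fix (c _ (y_mem_KK _ _ s a))⟩
  have k : ∀ s a, XX O y 1 s a = O.n * XX O y 7 s a * O.n⁻¹ := fun s a => (h.X_n 7 s a).symm
  rw [k, k, ← hμ]
  conv_lhs => rw [← fix (c _ (h.S8_le (n_mem_S8 O))).symm]
  group

end P5a

open P4c P5a

theorem p5a (h : H7 O t y) : ∃ δ B, H8 O t y δ B := by
  obtain ⟨c, d, B, hB, k⟩ := form h
  have tU : t ∈ Ns (Ut O y) := ns_U h.Et' (com_Cs fun _ hg => by
    obtain ⟨b, rfl⟩ := (mem_T5c O).1 hg
    exact h.tL (O.η_mem _))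
  have kt : ∀ e f x, _ := fun e f x =>
    uniq h (hB (!e) (!f) (x * 1)) (mem_normalizer_conj tU (hB e f (x * 1))) (by
      rw [← k, ← h.X_t, ← h.X_t, ← conjugate_commutatorElement, k, conj_N, P, P, h.t_two, h.t_two]
      exact (rfl : _ = N O y (fun s => ((σ x * 1) • c e f) (!s)) _ fun s => ((x * σ 1) • d e f) (!s)))
  have km : ∀ e f x, _ := fun e f x =>
    uniq h (hB f e (1 * x)) (mem_normalizer_conj h.Um (hB e f (x * 1))) (by
      have e0 : ∀ s a, O.m * XX O y 0 s a * O.m⁻¹ = XX O y 1 s ((1 : Bool → K) s * a) :=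
        fun s a => by rw [h.X_m, Pi.one_apply, one_mul]; rfl
      have e1 : ∀ s a, O.m * XX O y 1 s a * O.m⁻¹ = XX O y 0 s ((1 : Bool → K) s * a) :=
        fun s a => by rw [h.X_m, Pi.one_apply, one_mul]; rfl
      have m := (mem_normalizer_conj h.Um (hB e f (x * 1))).1
      rw [← k, ← inv_E h.toH4 (cm_mem h e x (h.X7_Et f 1)).1, commutatorElement_inv,
        ← show _ = XX O y 2 e x from h.X_m 7 e x, ← show _ = XX O y 7 f 1 from h.X_m 2 f 1,
        ← conjugate_commutatorElement, k, conj_N, conj_P e0, conj_P e1, one_mul, one_mul,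
        (h.Ec _ (mul_mem (P1_E _) m) _ (P0_E _)).eq, (h.Ec _ (P1_E _) _ m).eq, ← mul_assoc]
      rfl)
  have ks : ∀ x, _ := fun x => uniq h (p' := fun _ => σ x * 1) (r' := fun _ => x * σ 1)
    (mul_mem (mul_mem (hB true true (x * 1)) (hB false true (x * 1)))
      (mul_mem (hB true false (x * 1)) (hB false false (x * 1)))) (h.U5 (x * 1)) (by
      rw [← N_mul h (mul_mem (hB ..) (hB ..)) (mul_mem (hB ..) (hB ..)), ← N_mul h (hB ..) (hB ..),
        ← N_mul h (hB ..) (hB ..), ← k, ← k, ← k, ← k, ← cm_add h, ← cm_add h,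
        ← cm_prod h _ _ (mul_mem (h.X7_Et _ _) (h.X7_Et _ _)), N, P, P]
      erw [h.X_prod 7 true, h.X_prod 2 true, h.X_prod 0 true, h.X_prod 1 true]
      rw [cz0, cz1, cz2, cz7, ← map_commutatorElement, ← map_mul, ← map_mul]
      exact congrArg _ (by uu))
  obtain ⟨x, x0, x1⟩ := exists_ne01 h.q2
  obtain ⟨g, hg, μ, g0, g7, g1, g2⟩ := weight h (l := (cond · x 1)) fun s => by cases s <;> simp [x0]
  have kg : ∀ e f, _ := fun e f =>
    uniq h (hB e f (μ e * 1 * 1)) (mem_normalizer_conj hg (hB e f (1 * 1))) (by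
      rw [← k, ← g7, ← g2, ← conjugate_commutatorElement, k, conj_N, conj_P g0, conj_P g1]
      rfl)
  have s1 := fun s => congrFun (ks 1).1 s
  have t1 := fun e f s => congrFun (kt e f 1).1 s
  have m1 := fun e f s => congrFun (km e f 1).2.2 s
  have w1 := fun e f s => congrFun (kg e f).1 s
  have w2 := fun e f s => congrFun (kg e f).2.2 s
  simp only [map_one, mul_one, one_mul, Pi.add_apply, Pi.smul_apply, smul_eq_mul, Pi.mul_apply]
    at s1 t1 m1 w1 w2
  obtain ⟨δ, hc⟩ := comb x1 s1 t1 w1 (by simpa only [m1] using w2)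
  refine ⟨δ, B, h, hB, fun e f a b => ?_, fun e a b => ?_, fun e a b => ?_,
    fun e f x => by simpa using (kt e f x).2.1.symm, fun e f x => by simpa using (km e f x).2.1.symm,
    fun x => ?_⟩
  · have := k e f (a + b) 1
    rw [(h.pr 7).add, cm_add h, k, k, N_mul h (hB ..) (hB ..)] at this
    simpa using (uniq h (mul_mem (hB ..) (hB ..)) (hB ..) this).2.1.symm
  · rw [k]
    cases e <;> cases δ <;> simp [N, P, m1, hc, (h.pr _).zero]
  · rw [k]
    cases e <;> cases δ <;> simp [N, P, m1, hc, (h.pr _).zero]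
  · have := (ks x).2.1
    rw [mul_one] at this
    rw [← this, mul_assoc, mul_assoc, mul_assoc, ← mul_assoc (B true false x),
      (h.Ec _ (hB ..).1 _ (hB ..).1).eq, mul_assoc]

end Cfsg.Lib.SRe
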