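import Cfsg.Agent.SRe.P5w

/-!
# Standard subgroups of type ²F₄(q): the dichotomy
-/

set_option autoImplicit false
set_option linter.unusedSectionVars false

namespace Cfsg.Lib.SRe

open Subgroup Function Cfsg.Lib.Trans Cfsg.Lib.Oct Cfsg.Lib.Oct.UU
open Cfsg.Lib.Gold hiding Oc
open Cfsg.Lib.Chev (Tw SzModel)
open scoped commutatorElement

variable {K : Type*} [Field K] [TwF K] {ρ : RK K} {G : Type*} [Group G]
variable [Finite K] [Finite G] {O : Oc ρ G} {t : G} {y : Bool → K → G} {g : G}
variable {δ : Bool} {B : Bool → Bool → K → G}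

namespace P5b

theorem three (q : 2 < Nat.card K) {x : K → G} (add : ∀ a b, x (a + b) = x a * x b) {c : K}
    (h : ∀ α : K, α ≠ 0 → x (α * c) = x c) : x c = 1 := by
  obtain ⟨w, w0, w1⟩ := exists_ne01 q
  have := h (1 + w) fun e => w1 (by linear_combination e - two0 (K := K))
  rwa [add_mul, one_mul, add, h w w0, mul_eq_left] at this

theorem com (h : H8 O t y δ B) (e f e' f' : Bool) (a b : K) : Commute (B e f a) (B e' f' b) :=
  h.Ec _ (h.Bm _ _ _).1 _ (h.Bm _ _ _).1

theorem inf (h : H8 O t y δ B) {f f' f₁ f₁' : Bool} {c d c' d' : K}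
    (e : B true f c * B true f' d = B false f₁ c' * B false f₁' d') : B true f c * B true f' d = 1 := by
  have := three h.toHy.q2 (x := fun α => B false f₁ (α * c') * B false f₁' (α * d')) (c := 1)
    (fun a b => by
      rw [add_mul, add_mul, h.Ba, h.Ba]
      exact (com h _ _ _ _ _ _).mul_mul_mul_comm _ _) fun α hα => by
      obtain ⟨g, -, -, -, -, -, -, hg⟩ := h.w0 (c := fun s => if s then 1 else α)
        fun s => by cases s <;> simp [hα]
      have e1 := congrArg (fun x => g * x * g⁻¹) e
      simp only [← conj_mul, hg] at e1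
      simp only [if_true, one_mul, Bool.false_eq_true, if_false] at e1
      simp only [mul_one, one_mul]
      rw [← e1, e]
  simp only [one_mul] at this
  rw [e, this]

theorem sq (h : H8 O t y δ B) (e f : Bool) (a : K) : B e f a * B e f a = 1 := h.E2 _ (h.Bm _ _ _).1

theorem inj (h : H8 O t y δ B) {f f' : Bool} {c d : K}
    (e : t * B true f c * t⁻¹ * B true f c = t * B true f' d * t⁻¹ * B true f' d) :
    B true f c = B true f' d := by
  rw [h.Bt, h.Bt] at e
  have := inf h (f := f) (f' := f') (c := c) (d := d) (f₁ := !f) (f₁' := !f') (c' := c) (d' := d) (by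
    calc B true f c * B true f' d = B false (!f) c * (B false (!f) c * B true f c) * B true f' d := by
          rw [← mul_assoc, sq h, one_mul]
      _ = _ := by
          rw [show B false (!f) c * B true f c = B false (!f') d * B true f' d from e, mul_assoc,
            mul_assoc, sq h, mul_one])
  rw [eq_inv_of_mul_eq_one_left this, inv_eq_of_mul_eq_one_right (sq h _ _ _)]

theorem both (h : H8 O t y δ B) {f : Bool → Bool} (hf : f false = !f true)
    (h1 : ∀ c, B true (f true) c = 1) (e : Bool) (c : K) : B e (f e) c = 1 := by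
  cases e
  · have := h.Bt true (f true) c
    rw [h1, mul_one, mul_inv_cancel] at this
    rw [hf]; exact this.symm
  · exact h1 c

end P5b

open P5b

theorem p5b (h : H8 O t y δ B) : (∀ e c, B e (e != δ) c = 1) ∨ ∀ e c, B e (e == δ) c = 1 := by
  by_cases hP : ∀ c, B true (true == δ) c = 1
  · exact Or.inr (both h (f := fun e => e == δ) (by cases δ <;> rfl) hP)
  refine Or.inl (both h (f := fun e => e != δ) (by cases δ <;> rfl) fun d => ?_)
  obtain ⟨c0, hc0⟩ := not_forall.1 hP
  have hi : Injective (B true (true == δ)) := fun a b e => by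
    by_contra hab
    have h0 : a + b ≠ 0 := fun e => hab (h.toHY.toPr.eq_of_add e)
    have z : B true (true == δ) 0 = 1 := by
      have := h.Ba true (true == δ) 0 0
      rwa [add_zero, left_eq_mul] at this
    have c0' : c0 ≠ 0 := fun e => hc0 (e ▸ z)
    obtain ⟨g, -, -, -, -, -, -, hg⟩ := h.w0 (c := fun _ => c0 / (a + b)) fun _ => div_ne_zero c0' h0
    have := hg true (true == δ) (a + b)
    rw [div_mul_cancel₀ _ h0, h.Ba, e, sq h, mul_one, mul_inv_cancel] at this
    exact hc0 this.symm
  choose φ hφ using fun c => h.Uτ _ (h.Bm true (true == δ) c)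
  have hs : Surjective φ := Finite.injective_iff_surjective.1 fun a b e =>
    hi (inj h (by rw [hφ, hφ, e]))
  obtain ⟨b, hb⟩ := h.Uτ _ (h.Bm true (true != δ) d)
  obtain ⟨c, rfl⟩ := hs b
  have e := inj h (hb.trans (hφ c).symm)
  refine three h.toHy.q2 (h.Ba _ _) fun γ hγ => ?_
  obtain ⟨g, -, μ, h1, -, -, -, -, h2, -⟩ := h.w2 (c := fun f => if f = (true == δ) then 1 else γ)
    fun s => by split_ifs <;> simp [hγ]
  have e1 : μ true = 1 := (σ : K →+* K).injective (by simpa using h1 true)
  have e2 := h2 true (true != δ) d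
  rw [e, h2, e1, if_pos rfl, if_neg (by cases δ <;> simp), one_mul, one_mul, one_mul] at e2
  rw [← e2, e]

end Cfsg.Lib.SRe
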