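import Cfsg.Agent.SRe.Api

/-!
# Standard subgroups of type ²F₄(q): the big torus
-/

set_option autoImplicit false
set_option linter.unusedSectionVars false

namespace Cfsg.Lib.SRe

open Subgroup Function Cfsg.Lib.Trans Cfsg.Lib.Oct Cfsg.Lib.Oct.UU
open Cfsg.Lib.Gold hiding Oc
open Cfsg.Lib.Chev (Tw SzModel)
open scoped commutatorElement

universe u

variable {K : Type*} [Field K] [TwF K] {ρ : RK K} {G : Type u} [Group G]
variable [Finite K] [Finite G] {O : Oc ρ G} {t : G} {y : Bool → K → G} {g : G}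

namespace P5t

theorem cj_w (h : H2 O t y) {k j i : ZMod 8} (e : 2 * k + 4 - j = i) :
    cj (wk O k) (RR (XX O y j)) = RR (XX O y i) := by
  rw [← e, ← funext₂ (h.X_w k j)]
  exact (RR_map (MulAut.conj (wk O k)).toMonoidHom _).symm

theorem η_com (h1 : ∀ β, Commute g (h4 O β)) (h2 : ∀ β, Commute g (O.h β)) (p : Kˣ × Kˣ) :
    Commute g (O.η p) := by
  obtain ⟨α, β, e⟩ := η_dec O p
  exact e ▸ (h1 α).mul_right (h2 β)

theorem nU (h1 : ∀ p, Commute g (O.η p)) (h2 : g ∈ Ns (Et O y)) : g ∈ Ns (Ut O y) :=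
  mem_Ns_inf h2 (mem_Ns_Cs (Cs_le_Ns (com_Cs fun a ha => by
    obtain ⟨b, rfl⟩ := (mem_T5c O).1 ha
    exact h1 _)))

theorem η2 (h : H6 O t y) (hg : g ∈ HH (XX O y 2) (wk O 2)) (p : Kˣ × Kˣ) : Commute g (O.η p) :=
  η_com (fun β => Cs_com (le_Cs_comm.1 h.cK hg.1.1) (h.toHY.S4_le (h4_mem O β)))
    (fun β => (h.toHY.tr_k 2).hc g hg _ (h.toHY.h_mem β)) p

theorem n1 (h : H6 O t y) (hg : g ∈ HH (XX O y 2) (wk O 2)) : g ∈ Ns (RR (XX O y 1)) :=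
  mem_normalizer_of_cj_le (cj_le_iff_le_cj_inv.2 (RR_le.2 fun s a => mem_cj_inv.2 (h.R6 _
    (mem_normalizer_conj (h.nE hg.1.1) (X1_Et s a)) fun β => by
      have := conj_com O.m (h.toH2.X0_c s a (O.h_mem β))
      rw [h.toH2.X_m, sub_zero] at this
      have := conj_com g this
      rwa [mhm, (η2 h hg _).eq, mul_inv_cancel_right, ← mhm] at this)))

theorem sc2 (h : H6 O t y) (hg : g ∈ HH (XX O y 2) (wk O 2)) (k : ZMod 8) (s : Bool) :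
    ∃ c, ∀ a, g * XX O y k s a * g⁻¹ = XX O y k s (c * a) := by
  have c0 := le_Cs_comm.1 h.cK hg.1.1
  have f : ∀ {j i}, g ∈ Ns (RR (XX O y j)) → 2 * 0 + 4 - j = i → g ∈ Ns (RR (XX O y i)) := by
    intro j i e e'
    have := (conj_mem_cj (g := wk O 0)).2 e
    rwa [cj_Ns, cj_w h.toH2 e', wk_zero, ← (Cs_com c0 (h.toHY.S4_le (n4_mem O))).eq,
      mul_inv_cancel_right] at this
  have a0 : g ∈ Ns (RR (XX O y 0)) := Cs_le_Ns (Cs_anti le_sup_left c0)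
  have a7 : g ∈ Ns (RR (XX O y 7)) := by
    have := (conj_mem_cj (g := wk O 2)).2 (n1 h ((h.toHY.tr_k 2).w_mem hg))
    rwa [cj_Ns, cj_w h.toH2 (i := 7) (by decide), ← mul_assoc, ← mul_assoc, (h.toHY.tr_k 2).ww, one_mul, mul_assoc,
      ← mul_inv_rev, (h.toHY.tr_k 2).ww, inv_one, mul_one] at this
  have all : ∀ k, g ∈ Ns (RR (XX O y k)) := fun k => by
    obtain rfl | rfl | rfl | rfl | rfl | rfl | rfl | rfl :
      k = 0 ∨ k = 1 ∨ k = 2 ∨ k = 3 ∨ k = 4 ∨ k = 5 ∨ k = 6 ∨ k = 7 := by revert k; decide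
    exacts [a0, n1 h hg, hg.1.2, f (n1 h hg) (by decide), f a0 (by decide), f a7 (by decide),
      by rw [← cj_w h.toH2 (k := 2) (j := 2) (by decide)]; exact hg.2, a7]
  refine (h.toHY.pr k).scal ((h.toHY.tr_k k).perm h.toHy.q2 ((h.toHY.tr_k 2).ho g hg) (all k)
    (by rw [cj_w h.toH2 rfl]; exact all _) s) fun c hc => ?_
  obtain ⟨p, hp⟩ := η_cz_onto O k hc
  exact ⟨_, η2 h hg p, h.toHY.tor_X hp s⟩

theorem t0 (h : H6 O t y) (hg : g ∈ HH (XX O y 0) (wk O 0)) : Tor O y g := by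
  have sc : ∀ k s, ∃ c, ∀ a, g * XX O y k s a * g⁻¹ = XX O y k s (c * a) := fun k s => by
    obtain ⟨c, hc⟩ := sc2 h (HH_rot 2 0 hg) (2 + k) s
    exact ⟨c, fun a => rot_inj O 2 (by rw [rot_conj, rot_XX, rot_XX, hc])⟩
  have c2 := fun a ha => Cs_com (h.cK hg.1.1) (h.toHY.S8_le (ha : a ∈ S8 O))
  refine ⟨sc, nU (η_com (fun β => (h.toHY.tr_k 0).hc g hg _ (h.toHY.h4_mem β))
    fun β => c2 _ (h_mem_S8 O β)) (mem_normalizer_of_cj_le (cj_le_iff_le_cj_inv.2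
      (h.toH3.Et_le (fun s a => ?_) (fun s a => ?_) fun v hv s a => ?_)))⟩ <;> rw [mem_cj_inv]
  · obtain ⟨c, hc⟩ := sc 0 s
    exact hc a ▸ X0_Et _ _
  · obtain ⟨c, hc⟩ := sc 1 s
    exact hc a ▸ X1_Et _ _
  · obtain ⟨c, hc⟩ := sc 7 s
    have := mem_normalizer_conj (C_Et (O.ι_mem v)) (h.toH2.X7_Et s (c * a))
    rwa [← hc, ← mul_assoc, ← mul_assoc, ← (c2 _ (U8_le_S8 O hv)).eq, mul_assoc _ g⁻¹, ← mul_inv_rev,
      ← (c2 _ (U8_le_S8 O hv)).eq, mul_inv_rev, ← mul_assoc, mul_assoc g, mul_assoc g] at this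

end P5t

theorem p5t (h : H6 O t y) : H7 O t y :=
  { h with
    tH0 := fun _ => P5t.t0 h
    tH2 := fun _ hg => ⟨P5t.sc2 h hg, P5t.nU (P5t.η2 h hg) (h.nE hg.1.1)⟩ }

end Cfsg.Lib.SRe
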