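import Cfsg.Agent.SRe.Api

/-!
# Standard subgroups of type ²F₄(q): the wreathed case
-/

set_option autoImplicit false
set_option linter.unusedSectionVars false

namespace Cfsg.Lib.SRe

open Subgroup Function Cfsg.Lib.Trans Cfsg.Lib.Oct Cfsg.Lib.Oct.UU
open Cfsg.Lib.Gold hiding Oc
open Cfsg.Lib.Chev (Tw SzModel)
open scoped commutatorElement

universe u

variable {K : Type*} [Field K] [TwF K] {ρ : RK K} {G : Type u} [Group G]

namespace P6

/-- The diagonal map. -/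
def dg {A : Subgroup G} {t : G} (hc : A ≤ Cs (cj t A)) : A →* G :=
  MonoidHom.mk' (fun g => g * (t * g * t⁻¹)) fun a b => by
    rw [(Cs_com (hc b.2) (conj_mem_cj.2 a.2)).symm.mul_mul_mul_comm, conj_mul, coe_mul]

theorem wr {A L : Subgroup G} {t : G} (hc : A ≤ Cs (cj t A)) (pL : ⁅L, L⁆ = L)
    (hr : (dg hc).range = L) : Wr L ⁅A, A⁆ t := by
  have le : ⁅A, A⁆ ≤ A := commutator_le_left_of_le le_normalizer
  have onto : ∀ l ∈ L, ∃ g : A, (g : G) ∈ ⁅A, A⁆ ∧ dg hc g = l := fun l hl => by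
    rw [← pL, ← hr, MonoidHom.range_eq_map, ← map_commutator] at hl
    obtain ⟨g, hg, e⟩ := hl
    refine ⟨g, ?_, e⟩
    have := mem_map_of_mem A.subtype hg
    rwa [map_commutator, ← MonoidHom.range_eq_map, range_subtype] at this
  have dec : ∀ a ∈ A, ∃ g ∈ ⁅A, A⁆, ∃ z ∈ Cs A, a = g * z := fun a ha => by
    obtain ⟨g, hg, e⟩ := onto _ (hr.le ⟨⟨a, ha⟩, rfl⟩)
    have h1 : dg hc (g⁻¹ * ⟨a, ha⟩) = 1 := by rw [map_mul, map_inv, e, inv_mul_cancel]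
    exact ⟨g, hg, (g : G)⁻¹ * a, (mul_mem_cancel_right (le_Cs_comm.1 hc
      (conj_mem_cj.2 (g⁻¹ * ⟨a, ha⟩).2))).1 (h1.symm ▸ one_mem _ : dg hc _ ∈ Cs A), by group⟩
  refine ⟨le.trans (hc.trans (Cs_anti (cj_mono t le))),
    (commutator_mono le le).antisymm (commutator_le.2 fun a ha b hb => ?_),
    fun g hg => hr.le ⟨⟨g, le hg⟩, rfl⟩, fun l hl => (onto l hl).elim fun g k => ⟨g, k⟩⟩
  obtain ⟨g, hg, z, hz, rfl⟩ := dec a ha
  obtain ⟨g', hg', z', hz', e⟩ := dec b hb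
  rw [show ⁅g * z, b⁆ = g * (z * b * (b * z)⁻¹) * b * g⁻¹ * b⁻¹ by
    rw [commutatorElement_def]; group, (Cs_com hz hb).eq, mul_inv_cancel, mul_one, e,
    show g * (g' * z') * g⁻¹ * (g' * z')⁻¹ = g * g' * (z' * g⁻¹ * (g⁻¹ * z')⁻¹) * g⁻¹ * g'⁻¹ by group,
    (Cs_com hz' (inv_mem (le hg))).eq, mul_inv_cancel, mul_one]
  exact commutator_mem_commutator hg hg'

/-- The labels of the two factors. -/
def lb (δ : Bool) (k : ZMod 8) (s : Bool) : Bool := s == (k.val % 2 == 1 || δ)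

theorem lab : ∀ (δ s : Bool) (k : ZMod 8), lb δ (k + 3) (!s) = (lb δ k s != δ) ∧
    lb δ (k + 6) s = (lb δ (k + 3) s == δ) ∧ lb δ (k + 4) s = (lb δ (k + 3) s == δ) ∧
    lb δ (k + 5) s = lb δ (k + 3) s ∧ lb δ k (!s) = !lb δ k s := by decide

theorem idx : ∀ k : ZMod 8, k + 1 + 7 = k ∧ k + 1 + 2 = k + 3 ∧ k + 4 + 7 = k + 3 ∧
    k + 4 + 2 = k + 6 ∧ k + 4 + 0 = k + 4 ∧ k + 4 + 1 = k + 5 ∧ k + 6 + 2 = k ∧ k + 5 + 3 = k ∧
    k + 7 + 1 = k := by decide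

variable [Finite K] [Finite G] {O : Oc ρ G} {t : G} {y : Bool → K → G} {δ : Bool}
  {B : Bool → Bool → K → G}

theorem c3 (h : H8 O t y δ B) (h1 : ∀ e c, B e (e != δ) c = 1) (k : ZMod 8) (s : Bool) (a b : K) :
    Commute (XX O y k (lb δ k s) a) (XX O y (k + 3) (lb δ (k + 3) (!s)) b) := by
  obtain ⟨i1, i2, -⟩ := idx k
  have := congrArg (rot O (k + 1)) (h.r2 (lb δ k s) a b)
  rw [h1, rot_cm, rot_XX, rot_XX, i1, i2, rot_one] at this
  rw [(lab δ s k).1]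
  exact commutatorElement_eq_one_iff_commute.1 this

theorem c5 (h : H8 O t y δ B) (h1 : ∀ e c, B e (e != δ) c = 1) (k : ZMod 8) (s : Bool) (a b : K) :
    Commute (XX O y k (lb δ k s) a) (XX O y (k + 5) (lb δ (k + 5) (!s)) b) := by
  have := c3 h h1 (k + 5) (!s) b a
  rw [(idx k).2.2.2.2.2.2.2.1, Bool.not_not] at this
  exact this.symm

theorem c6 (h : H8 O t y δ B) (k : ZMod 8) (s s' : Bool) (a b : K) :
    Commute (XX O y k s a) (XX O y (k + 6) s' b) := by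
  have := h.toH3.cX (k + 6) 2 (.inr (.inr rfl)) s' s b a
  rw [(idx k).2.2.2.2.2.2.1] at this
  exact this.symm

theorem c4 (h : H8 O t y δ B) (h1 : ∀ e c, B e (e != δ) c = 1) (k : ZMod 8) (s : Bool) (x b : K) :
    Commute (XX O y k (lb δ k s) x) (XX O y (k + 4) (lb δ (k + 4) (!s)) b) := by
  obtain ⟨-, l1, l2, l3, -⟩ := lab δ (!s) k
  obtain ⟨-, -, i1, i2, i3, i4, -⟩ := idx k
  have f : ∀ a b, Commute (XX O y k (lb δ k s) x) (XX O y (k + 4) (lb δ (k + 4) (!s)) (σ a * b) *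
      rot O (k + 4) (B (lb δ (k + 3) (!s)) (lb δ (k + 3) (!s) == δ) (a * b))) := fun a b => by
    have := congrArg (rot O (k + 4)) (h.r1 (lb δ (k + 3) (!s)) a b)
    rw [rot_cm, rot_mul, rot_mul, rot_XX, rot_XX, rot_XX, rot_XX, i1, i2, i3, i4,
      ← mul_inv_eq_iff_eq_mul] at this
    rw [l2, ← this, commutatorElement_def]
    have u := c3 h h1 k s x a
    have v := c6 h k (lb δ k s) (lb δ (k + 3) (!s) == δ) x b
    exact (((u.mul_right v).mul_right u.inv_right).mul_right v.inv_right).mul_right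
      (l3 ▸ c5 h h1 k s x _).inv_right
  obtain ⟨z, z0, z1⟩ := exists_ne01 h.toHy.q2
  have zs := σ_ne_self z0 z1
  have := (f z (b / (σ z + z))).mul_right (f 1 (z * (b / (σ z + z)))).inv_right
  rw [one_mul, mul_inv_rev, mul_assoc, mul_inv_cancel_left, (h.toHY.pr _).inv,
    ← (h.toHY.pr _).add] at this
  have k : σ z + z ≠ 0 := fun e => zs ((h.toHY.pr 0).eq_of_add e)
  rwa [map_one, one_mul, ← add_mul, mul_div_cancel₀ _ k] at this

theorem call (h : H8 O t y δ B) (h1 : ∀ e c, B e (e != δ) c = 1) (k j : ZMod 8) (s : Bool) (a b : K) :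
    Commute (XX O y k (lb δ k s) a) (XX O y j (lb δ j (!s)) b) := by
  obtain ⟨d, rfl, hd | rfl | rfl | rfl | rfl | rfl⟩ : ∃ d, j = k + d ∧
      ((d = 0 ∨ d = 1 ∨ d = 2) ∨ d = 3 ∨ d = 4 ∨ d = 5 ∨ d = 6 ∨ d = 7) := by revert k j; decide
  · exact h.toH3.cX k d hd _ _ _ _
  · exact c3 h h1 k s a b
  · exact c4 h h1 k s a b
  · exact c5 h h1 k s a b
  · exact c6 h k _ _ a b
  · have := h.toH3.cX (k + 7) 1 (.inr (.inl rfl)) (lb δ (k + 7) (!s)) (lb δ k s) b a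
    rw [(idx k).2.2.2.2.2.2.2.2] at this
    exact this.symm

end P6

variable [Finite K] [Finite G] {O : Oc ρ G} {t : G} {y : Bool → K → G} {δ : Bool}
  {B : Bool → Bool → K → G}

open P6 in
theorem p6 (h : H8 O t y δ B) (h1 : ∀ e c, B e (e != δ) c = 1) : ∃ G₁, Wr O.GG G₁ t := by
  let A : Subgroup G := closure {g | ∃ k a, g = XX O y k (lb δ k true) a}
  have hc : A ≤ Cs (cj t A) := (closure_le _).2 (by
    rintro _ ⟨k, a, rfl⟩
    refine le_Cs_comm.1 (cj_le_iff_le_cj_inv.2 ((closure_le _).2 ?_)) (mem_zpowers _)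
    rintro _ ⟨j, b, rfl⟩
    refine mem_cj_inv.2 ?_
    rw [Cs_zpowers, h.toHY.X_t, ← (lab δ true j).2.2.2.2]
    exact mem_C1.2 (call h h1 k j true a b).symm.eq)
  have e : ∀ k a, dg hc ⟨XX O y k (lb δ k true) a, subset_closure ⟨k, a, rfl⟩⟩ = cz O k a :=
    fun k a => by rw [← h.toHY.X_prod k (lb δ k true), ← h.toHY.X_t]; rfl
  refine ⟨_, wr hc (L_perf O h.toHy.q2) (le_antisymm ?_ (L_le O h.toHy.q2 fun k a => ⟨_, e k a⟩))⟩
  rintro _ ⟨⟨g, hg⟩, rfl⟩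
  induction hg using closure_induction with
  | mem _ hx =>
    obtain ⟨k, a, rfl⟩ := hx
    exact e k a ▸ cz_mem O k a
  | one => exact (map_one (dg hc)).symm ▸ one_mem _
  | mul a b ha hb h2 h3 => exact (map_mul (dg hc) ⟨a, ha⟩ ⟨b, hb⟩).symm ▸ mul_mem h2 h3
  | inv a ha h2 => exact (map_inv (dg hc) ⟨a, ha⟩).symm ▸ inv_mem h2

end Cfsg.Lib.SRe
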