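import Cfsg.Agent.SRe.P5w

/-!
# Standard subgroups of type ²F₄(q): the remaining commutators in the case of `F₄(q)`
-/

set_option autoImplicit false
set_option linter.unusedSectionVars false

namespace Cfsg.Lib.SRe

open Subgroup Function Cfsg.Lib.Trans Cfsg.Lib.Oct Cfsg.Lib.Oct.UU
open Cfsg.Lib.Gold hiding Oc
open Cfsg.Lib.Chev (Tw SzModel)
open scoped commutatorElement

variable {K : Type*} [Field K] [TwF K] {ρ : RK K} {G : Type*} [Group G]
variable [Finite K] [Finite G] {O : Oc ρ G} {t : G} {y : Bool → K → G} {g : G}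
variable {δ : Bool} {B : Bool → Bool → K → G}

namespace P7a

open P5w

theorem prodB (h : H8 O t y δ B) (h1 : ∀ e c, B e (e == δ) c = 1) (c : K) :
    B true (true != δ) c * B false (false != δ) c = O.ι (x5 c) := by
  have e := h.Bs c
  have e1 := h1 true c
  have e2 := h1 false c
  cases δ
  · rw [show B true false c = 1 from e1, show B false true c = 1 from e2, mul_one, mul_one] at e
    exact e
  · rw [show B true true c = 1 from e1, show B false false c = 1 from e2, mul_one, one_mul] at e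
    exact e

theorem swapB (h : H8 O t y δ B) (e : Bool) (c : K) :
    t * B e (e != δ) c * t⁻¹ = B (!e) ((!e) != δ) c := by
  rw [h.Bt]; cases e <;> cases δ <;> rfl

theorem prB (h : H8 O t y δ B) (h1 : ∀ e c, B e (e == δ) c = 1) : Pr fun e a => B e (e != δ) a where
  two0 := two0
  add _ := h.Ba _ _
  com _ _ _ _ := h.Ec _ (h.Bm _ _ _).1 _ (h.Bm _ _ _).1
  ind a b e := by
    have e1 := congrArg (fun x => t * x * t⁻¹) e
    simp only [← conj_mul, swapB h, mul_one, mul_inv_cancel, Bool.not_true, Bool.not_false] at e1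
    have e2 : O.ι (x5 (a + b)) = 1 := by
      rw [← prodB h h1, h.Ba, h.Ba, (h.Ec _ (h.Bm true _ a).1 _ (h.Bm true _ b).1).eq,
        (h.Ec _ (h.Bm _ _ _).1 _ (h.Bm _ _ _).1).mul_mul_mul_comm, e,
        (h.Ec _ (h.Bm _ _ _).1 _ (h.Bm _ _ _).1).eq, e1, mul_one]
    have e3 : a = b := h.toHY.toPr.eq_of_add (by_contra fun n => ι_ne O (mt x5_eq_one.1 n) e2)
    subst e3
    rw [prodB h h1] at e
    have : a = 0 := by_contra fun n => ι_ne O (mt x5_eq_one.1 n) e
    exact ⟨this, this⟩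

theorem memU (h : H8 O t y δ B) (h1 : ∀ e c, B e (e == δ) c = 1) (hg : g ∈ Ut O y) :
    g ∈ RR fun e a => B e (e != δ) a := by
  obtain ⟨b, hb⟩ := h.Uτ g hg
  have hB := h.Bm true (true != δ) b
  obtain ⟨c, hc⟩ := h.Uk _ (mul_mem hg hB) (com_of (by
    have e1 : t * g * t⁻¹ = O.ι (x5 b) * g := by
      rw [← hb, mul_assoc _ g g, h.E2 g hg.1, mul_one]
    rw [← conj_mul, e1, swapB h, ← prodB h h1, (h.Ec _ (h.Bm true _ b).1 _ (h.Bm false _ b).1).eq,
      ← (h.Ec _ hg.1 _ (mul_mem (h.Bm _ _ _).1 (h.Bm _ _ _).1)).eq,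
      (h.Ec _ (h.Bm false _ b).1 _ (h.Bm true _ b).1).eq, mul_assoc, mul_assoc]
    rw [show B false (false != δ) b * B (!true) ((!true) != δ) b = 1 from h.E2 _ (h.Bm _ _ _).1,
      mul_one])).symm
  rw [eq_mul_inv_of_mul_eq hc, ← prodB h h1]
  exact mul_mem (mul_mem (y_mem_RR (fun e a => B e (e != δ) a) true c)
    (y_mem_RR (fun e a => B e (e != δ) a) false c)) (inv_mem (y_mem_RR (fun e a => B e (e != δ) a) true b))

theorem nb (δ : Bool) : (!(true == δ)) = (false == δ) := by cases δ <;> rfl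

theorem dec (h : H8 O t y δ B) (h1 : ∀ e c, B e (e == δ) c = 1) {z : G} (hz : z ∈ At O y) :
    ∃ p u d : Bool → K, z = XX O y 0 (true == δ) (p true) * XX O y 0 (false == δ) (p false) *
      (B true (true != δ) (u true) * B false (false != δ) (u false)) *
      (XX O y 1 true (d true) * XX O y 1 false (d false)) := by
  obtain ⟨r, hr, u, hu, r', hr', rfl⟩ := (h.Ad z).1 hz
  obtain ⟨p, p', rfl⟩ := ((h.toHY.pr 0).mem_RR' (true == δ)).1 hr
  obtain ⟨v, v', rfl⟩ := (prB h h1).mem_RR.1 (memU h h1 hu)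
  obtain ⟨d, d', rfl⟩ := (h.toHY.pr 1).mem_RR.1 hr'
  exact ⟨fun s => if s then p else p', fun s => if s then v else v', fun s => if s then d else d', by
    rw [nb]; rfl⟩

theorem zero_of {α a : K} (h : α * a = a) (h1 : α ≠ 1) : a = 0 :=
  by_contra fun n => h1 ((mul_eq_right₀ n).1 h)

theorem kill (h : H8 O t y δ B) (h1 : ∀ e c, B e (e == δ) c = 1) {z : G} {p u d α β ν : Bool → K}
    (e : z = XX O y 0 (true == δ) (p true) * XX O y 0 (false == δ) (p false) *
      (B true (true != δ) (u true) * B false (false != δ) (u false)) *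
      (XX O y 1 true (d true) * XX O y 1 false (d false))) (hz : g * z * g⁻¹ = z)
    (a0 : ∀ s a, g * XX O y 0 (s == δ) a * g⁻¹ = XX O y 0 (s == δ) (α s * a))
    (a1 : ∀ s a, g * B s (s != δ) a * g⁻¹ = B s (s != δ) (β s * a))
    (a2 : ∀ s a, g * XX O y 1 s a * g⁻¹ = XX O y 1 s (ν s * a)) (s : Bool) :
    (α s ≠ 1 → p s = 0) ∧ (β s ≠ 1 → u s = 0) ∧ (ν s ≠ 1 → d s = 0) := by
  rw [e] at hz
  simp only [← conj_mul, a0, a1, a2] at hz
  obtain ⟨e1, e2, e3⟩ := uniq h.toH5 (mul_mem (y_mem_RR _ _ _) (y_mem_RR _ _ _))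
    (mul_mem (h.Bm _ _ _) (h.Bm _ _ _)) (mul_mem (y_mem_RR _ _ _) (y_mem_RR _ _ _))
    (mul_mem (y_mem_RR _ _ _) (y_mem_RR _ _ _)) (mul_mem (h.Bm _ _ _) (h.Bm _ _ _))
    (mul_mem (y_mem_RR _ _ _) (y_mem_RR _ _ _)) hz
  rw [← nb] at e1
  have f1 := (h.toHY.pr 0).inj' e1
  have f2 := (prB h h1).inj e2
  have f3 := (h.toHY.pr 1).inj e3
  cases s
  · exact ⟨zero_of f1.2, zero_of f2.2, zero_of f3.2⟩
  · exact ⟨zero_of f1.1, zero_of f2.1, zero_of f3.1⟩

theorem B3 (h : H8 O t y δ B) (e f : Bool) (b : K) : O.n * B e f b * O.n⁻¹ ∈ Et O y :=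
  mem_normalizer_conj (C_Et O.n_mem) (h.Bm e f b).1

theorem cj2 (a b x : G) : a * b * x * (a * b)⁻¹ = a * (b * x * b⁻¹) * a⁻¹ := by group

theorem σ1 {a : K} (h : σ a = 1) : a = 1 := (σ : K →+* K).injective (by rw [h, map_one])

theorem key (h : H8 O t y δ B) (h1 : ∀ e c, B e (e == δ) c = 1) (f e : Bool) (a b : K) :
    ∃ d, ⁅XX O y 2 f a, O.n * B e (e != δ) b * O.n⁻¹⁆ = XX O y 1 e d ∧ (f = (e == δ) → d = 0) := by
  obtain ⟨w, w0, w1⟩ := exists_ne01 h.toHy.q2
  obtain ⟨p, u, d, hz⟩ := dec h h1 (h.cE f a _ (B3 h e (e != δ) b))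
  have n3 : ∀ {g : G} {e f : Bool} {a a' : K}, Commute g O.n → g * B e f a * g⁻¹ = B e f a' →
      g * (O.n * B e f a * O.n⁻¹) * g⁻¹ = O.n * B e f a' * O.n⁻¹ := fun {g e f a a'} c e => by
    rw [← e, ← cj2, ← cj2, c.eq]
  obtain ⟨g₀, -, -, b1, b0, b2, bn, bB⟩ := h.w0 (c := fun s => if s = e then 1 else w)
    fun s => by split_ifs <;> simp [w0]
  have k1 := kill h h1 hz (by rw [conj_cm, fix (b2 f a), n3 bn (bB _ _ _), if_pos rfl, one_mul]) b0
    (fun s => bB s _) b1 (!e)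
  simp only [if_neg (Bool.not_ne_self e)] at k1
  obtain ⟨g₂, -, μ, hμ, c2, c0, -, c1, cB, c3⟩ := h.w2 (c := fun s => if s = f then 1 else w)
    fun s => by split_ifs <;> simp [w0]
  have μ0 : μ e ≠ 0 := fun n => by simpa [n] using hμ e
  have c0' : μ e * (if (e != δ) = f then 1 else w) ≠ 0 := mul_ne_zero μ0 (by split_ifs <;> simp [w0])
  have c1' : μ e * (if (e != δ) = f then 1 else w) ≠ 1 ∧
      (f = (e == δ) → μ e * (if (e != δ) = f then 1 else w) * (μ e)⁻¹ ≠ 1) := by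
    have := hμ e
    have ne : (e != δ) ≠ (e == δ) := by cases e <;> cases δ <;> decide
    rcases (bb e δ).2 f with rfl | rfl
    · simp only [if_pos, mul_one] at this
      simp [σ1 this, ne, w1]
    · simp only [if_neg ne.symm] at this
      refine ⟨fun n => w1 ?_, fun n => absurd n ne⟩
      rw [if_pos rfl, mul_one] at n
      simpa [n] using this
  obtain ⟨g₁, -, -, d1, d0, d2, dn, dB⟩ :=
    h.w0 (c := fun _ => μ e * (if (e != δ) = f then 1 else w)) fun _ => c0'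
  have k2 := kill h h1 (g := g₁ * g₂) hz
    (by rw [conj_cm, cj2, cj2, c2, if_pos rfl, one_mul, fix (d2 f a), c3, n3 dn (dB _ _ _),
      mul_inv_cancel_left₀ c0'])
    (fun s a => by rw [cj2, fix (c0 _ _), d0]) (fun s a => by rw [cj2, cB, dB, ← mul_assoc])
    (fun s a => by rw [cj2, c1, d1, ← mul_assoc]) e
  have p1 := k1.1 fun n => w1 (σ1 n)
  have p2 := k2.1 fun n => c1'.1 (σ1 n)
  have u2 := k2.2.1 fun n => c1'.1 (by
    have : (μ e * (if (e != δ) = f then 1 else w) + 1) ^ 2 = 0 := by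
      linear_combination n + (μ e * (if (e != δ) = f then 1 else w) + 1) * two0 (K := K)
    exact h.toHY.toPr.eq_of_add (pow_eq_zero_iff two_ne_zero |>.1 this))
  refine ⟨d e, ?_, fun n => k2.2.2 (c1'.2 n)⟩
  have z0 := (h.toHY.pr 0).zero
  have z1 := (h.toHY.pr 1).zero
  have zB : ∀ s, B s (s != δ) 0 = 1 := (prB h h1).zero
  have u1 := k1.2.1 w1
  have d1 := k1.2.2 w1
  rw [hz]
  cases e
  · rw [Bool.not_false] at p1 u1 d1
    simp only [p1, p2, u1, u2, d1, z0, z1, zB, one_mul]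
  · rw [Bool.not_true] at p1 u1 d1
    simp only [p1, p2, u1, u2, d1, z0, z1, zB, one_mul, mul_one]

theorem cm_mul_left {a b x : G} (h : Commute a ⁅b, x⁆) : ⁅a * b, x⁆ = ⁅b, x⁆ * ⁅a, x⁆ := by
  calc ⁅a * b, x⁆ = a * ⁅b, x⁆ * a⁻¹ * ⁅a, x⁆ := by simp only [commutatorElement_def]; group
    _ = _ := by rw [fix h]

theorem cm_mul_right {a b x : G} (h : Commute a ⁅x, b⁆) : ⁅x, a * b⁆ = ⁅x, a⁆ * ⁅x, b⁆ := by
  calc ⁅x, a * b⁆ = ⁅x, a⁆ * (a * ⁅x, b⁆ * a⁻¹) := by simp only [commutatorElement_def]; group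
    _ = _ := by rw [fix h]

set_option maxRecDepth 100000 in
theorem c83 (a b : K) : ⁅x8 a, x3 b⁆ = x6 (a * b) := by
  rw [commutatorElement_def, x8_inv, x3_inv]; uu

theorem main (h : H8 O t y δ B) (h1 : ∀ e c, B e (e == δ) c = 1) (e : Bool) (a b : K) :
    ⁅XX O y 2 (e != δ) a, O.n * B e (e != δ) b * O.n⁻¹⁆ = XX O y 1 e (a * b) := by
  choose d hd h0 using fun f e => key h h1 f e a b
  have e1 : ⁅XX O y 2 true a * XX O y 2 false a, O.n * B true (true != δ) b * O.n⁻¹ *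
      (O.n * B false (false != δ) b * O.n⁻¹)⁆ = XX O y 1 true (a * b) * XX O y 1 false (a * b) := by
    rw [conj_mul, prodB h h1, O.cn (O.nx3 b), show XX O y 2 true a * XX O y 2 false a = _ from h.toHY.X_prod 2 true a,
      show XX O y 1 true _ * XX O y 1 false _ = _ from h.toHY.X_prod 1 true _, cz2, cz1, ← map_commutatorElement, c83]
  have cE : ∀ f, ⁅XX O y 2 f a, O.n * B true (true != δ) b * O.n⁻¹ *
      (O.n * B false (false != δ) b * O.n⁻¹)⁆ = XX O y 1 true (d f true) * XX O y 1 false (d f false) :=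
    fun f => by rw [cm_mul_right (h.Ec _ (B3 h _ _ _) _ (h.cE _ _ _ (B3 h _ _ _)).1), hd, hd]
  have c21 : ∀ s s' a b, Commute (XX O y 2 s a) (XX O y 1 s' b) := fun s s' a b =>
    (h.toH3.cX 1 1 (by decide) _ _ _ _).symm
  rw [cm_mul_left (by rw [cE]; exact (c21 _ _ _ _).mul_right (c21 _ _ _ _)), cE, cE] at e1
  obtain ⟨f1, f2⟩ := (h.toHY.pr 1).inj (((h.toHY.pr 1).mul2 true _ _ _ _).symm.trans e1)
  rw [hd]
  congr 1
  have z := h0 (e == δ) e rfl
  cases e <;> cases δ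
  · rwa [show d true false = 0 from z, add_zero] at f2
  · rwa [show d false false = 0 from z, zero_add] at f2
  · rwa [show d false true = 0 from z, zero_add] at f1
  · rwa [show d true true = 0 from z, add_zero] at f1

end P7a

open P7a P5w

theorem p7a (h : H8 O t y δ B) (h1 : ∀ e c, B e (e == δ) c = 1) : H9 O t y δ B where
  toH8 := h
  B1 := h1
  r3 e a b := by
    have := congrArg (fun x => O.n * x * O.n⁻¹) (main h h1 e a b)
    simp only [conj_cm, h.toH2.X_n, O.cn rfl] at this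
    exact this
  c3 e a b := by
    obtain ⟨d, hd, h0⟩ := key h h1 (e == δ) e a b
    rw [h0 rfl, (h.toHY.pr 1).zero] at hd
    have := conj_com O.n (commutatorElement_eq_one_iff_commute.1 hd)
    rwa [h.toH2.X_n, O.cn rfl] at this

end Cfsg.Lib.SRe
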