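import Cfsg.Agent.SRe.Api

/-!
# Standard subgroups of type ²F₄(q): rotating the relations
-/

set_option autoImplicit false
set_option linter.unusedSectionVars false

namespace Cfsg.Lib.SRe

open Subgroup Function Cfsg.Lib.Trans Cfsg.Lib.Oct Cfsg.Lib.Oct.UU
open Cfsg.Lib.Gold hiding Oc
open Cfsg.Lib.Chev (Tw SzModel)
open scoped commutatorElement

variable {K : Type*} [Field K] [TwF K] {ρ : RK K} {G : Type*} [Group G]
variable [Finite K] [Finite G] {O : Oc ρ G} {t : G} {y : Bool → K → G} {g : G}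
variable {δ : Bool} {B : Bool → Bool → K → G}

namespace P7b

theorem lab : ∀ (δ s : Bool) (k : ZMod 8),
    xor (!s) (δ && (k + 3).val % 2 == 1) = (xor s (δ && k.val % 2 == 1) == δ) ∧
    xor (!s) (δ && (k + 1).val % 2 == 1) = (xor s (δ && k.val % 2 == 1) == δ) ∧
    xor s (δ && (k + 2).val % 2 == 1) = xor s (δ && k.val % 2 == 1) ∧
    xor s (δ && (k + 3).val % 2 == 1) = (xor s (δ && k.val % 2 == 1) != δ) ∧
    xor s (δ && (k + 7).val % 2 == 1) = (xor s (δ && k.val % 2 == 1) != δ) ∧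
    xor (!s) (δ && (k + 7).val % 2 == 1) = (xor s (δ && k.val % 2 == 1) == δ) ∧
    xor s (δ && (k + 4).val % 2 == 1) = xor s (δ && k.val % 2 == 1) ∧
    xor (!s) (δ && (k + 4).val % 2 == 1) = !xor s (δ && k.val % 2 == 1) := by decide

theorem idx : ∀ k : ZMod 8, k + 1 + 7 = k ∧ k + 1 + 2 = k + 3 ∧ k + 1 + 0 = k + 1 ∧ k + 1 + 1 = k + 2 ∧
    k + 1 + 6 = k + 7 ∧ k + 1 + 3 = k + 4 := by decide

theorem bb : ∀ e δ : Bool, ((e != δ) != δ) = e ∧ ((e != δ) == δ) = !e := by decide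

theorem conj_cm (x a b : G) : x * ⁅a, b⁆ * x⁻¹ = ⁅x * a * x⁻¹, x * b * x⁻¹⁆ := by
  simp only [commutatorElement_def]; group

theorem cB (h : H8 O t y δ B) (e f s : Bool) (a b : K) (j : ZMod 8)
    (hj : j = 7 ∨ j = 0 ∨ j = 1 ∨ j = 2) : Commute (B e f a) (XX O y j s b) := by
  have h2 := h.toH2
  rcases hj with rfl | rfl | rfl | rfl
  · exact h.Ec _ (h.Bm e f a).1 _ (h2.X7_Et s b)
  · exact h.Ec _ (h.Bm e f a).1 _ (X0_Et s b)
  · exact h.Ec _ (h.Bm e f a).1 _ (X1_Et s b)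
  · have := conj_com O.m (h.Ec _ (h.Bm f e a).1 _ (h2.X7_Et s b))
    rwa [h.Bw, h2.X_m] at this

end P7b

open P7b

theorem p7b (h : H9 O t y δ B) : T2 (Xd O y δ) (Bd O B δ) where
  addX k s a b := (h.toHY.pr k).add _ a b
  addB k s a b := by rw [Bd, Bd, Bd, h.Ba, rot_mul]
  c0 k d hd s s' a b := h.toH3.cX k d hd _ _ a b
  r1 k s a b := by
    obtain ⟨l1, l2, l3, -⟩ := lab δ s k
    obtain ⟨i1, i2, i3, i4, -⟩ := idx k
    have := congrArg (rot O (k + 1)) (h.r1 (xor s (δ && k.val % 2 == 1)) a b)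
    rw [h.B1, mul_one, rot_cm, rot_mul, rot_XX, rot_XX, rot_XX, rot_XX, i1, i2, i3, i4] at this
    rw [Xd, Xd, Xd, Xd, l1, l2, l3, this]
  r2 k s a b := by
    obtain ⟨-, -, -, l, -⟩ := lab δ s k
    obtain ⟨i1, i2, -⟩ := idx k
    have := congrArg (rot O (k + 1)) (h.r2 (xor s (δ && k.val % 2 == 1)) a b)
    rw [rot_cm, rot_XX, rot_XX, i1, i2] at this
    rw [Xd, Xd, Bd, l, this]
  cB k d hd s s' a b := by
    rw [Xd, Bd, show k + d = k + 1 + (d + 7) by revert k d; decide, ← rot_XX]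
    refine rot_commute O _ (cB h.toH8 _ _ _ _ _ _ ?_)
    revert d; decide
  cBB k s s' a b := rot_commute O _ (h.Ec _ (h.Bm _ _ _).1 _ (h.Bm _ _ _).1)
  r3 k s a b := by
    obtain ⟨-, -, -, -, l, -⟩ := lab δ s k
    obtain ⟨i1, -, -, -, i2, -⟩ := idx k
    have := congrArg (rot O (k + 1)) (h.r3 (xor s (δ && k.val % 2 == 1)) a b)
    rw [rot_cm, rot_XX, rot_XX, i1, i2] at this
    rw [Xd, Xd, Bd, l, this]
  c3 k s a b := by
    obtain ⟨-, -, -, -, -, l, -⟩ := lab δ s k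
    obtain ⟨-, -, -, -, i2, -⟩ := idx k
    have := rot_commute O (k + 1) (h.c3 (xor s (δ && k.val % 2 == 1)) a b)
    rw [rot_XX, i2] at this
    rwa [Xd, Bd, l]
  r4 k s a b := by
    obtain ⟨-, -, -, l, -, -, l', -⟩ := lab δ s k
    obtain ⟨-, i1, -, -, -, i2⟩ := idx k
    rw [Xd, Xd, Bd, l, l']
    generalize xor s (δ && k.val % 2 == 1) = e
    have := congrArg (fun x => rot O (k + 1) (O.m * x * O.m⁻¹)) (h.r3 (e != δ) a b)
    simp only [conj_cm, h.toH2.X_m, h.Bw, rot_cm, rot_XX, (bb e δ).1,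
      show (1 : ZMod 8) - 6 = 3 from rfl, show (1 : ZMod 8) - 7 = 2 from rfl, i1, i2] at this
    exact this
  c4 k s a b := by
    obtain ⟨-, -, -, -, -, -, -, l⟩ := lab δ s k
    obtain ⟨-, -, -, -, -, i2⟩ := idx k
    rw [Xd, Bd, l]
    generalize xor s (δ && k.val % 2 == 1) = e
    have := rot_commute O (k + 1) (conj_com O.m (h.c3 (e != δ) a b))
    simp only [h.toH2.X_m, h.Bw, rot_XX, (bb e δ).1,
      (bb e δ).2, show (1 : ZMod 8) - 6 = 3 from rfl, i2] at this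
    exact this

end Cfsg.Lib.SRe
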