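import Cfsg.Agent.SRe.Gen

/-!
# Standard subgroups of type ²F₄(q): the wreathed case of the Suzuki step
-/

set_option autoImplicit false
set_option linter.unusedSectionVars false

namespace Cfsg.Lib.SRe

open Subgroup Function Cfsg.Lib.Trans Cfsg.Lib.Oct Cfsg.Lib.Oct.UU
open Cfsg.Lib.Gold hiding Oc
open Cfsg.Lib.Chev (Tw SzModel)
open scoped commutatorElement

universe u

variable {K : Type*} [Field K] [Fintype K] {τ : Tw K} {G : Type u} [Group G] [Finite G]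
  {A : Subgroup G} {M : SzModel τ A} {t : G}

namespace YW

/-- The two projections. -/
structure W2 (A : Subgroup G) (t : G) (N : Subgroup G) (π : Bool → A →* G) : Prop where
  com : ∀ a b, Commute (π true a) (π false b)
  ind : ∀ a b, π true a * π false b = 1 → a = 1 ∧ b = 1
  prod : ∀ a, π true a * π false a = a
  swap : ∀ s a, t * π s a * t⁻¹ = π (!s) a
  nrm : N.Normal
  mem : ∀ g, g ∈ N ↔ ∃ a b, g = π true a * π false b

theorem exists_W2 (t2 : t * t = 1) (tc : t ∈ Cs A) (hw : YW A t) : ∃ N π, W2 A t N π := by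
  obtain ⟨X, ⟨e⟩, hc, hi, hn, hA⟩ := hw
  have tt : ∀ g : G, t * (t * g * t⁻¹) * t⁻¹ = g := fun g => by
    rw [show t * (t * g * t⁻¹) * t⁻¹ = t * t * g * (t * t)⁻¹ by group, t2]; group
  have cm : ∀ x ∈ X, ∀ x' ∈ X, Commute x (t * x' * t⁻¹) := fun x hx x' hx' =>
    (mem_Cs.1 (hc hx) _ (conj_mem_cj.2 hx')).symm
  have one : ∀ x ∈ X, ∀ x' ∈ X, x * (t * x' * t⁻¹) = 1 → x = 1 ∧ x' = 1 := fun x hx x' hx' k => by
    have k1 : x = 1 := mem_bot.1 (hi.le ⟨hx, by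
      rw [eq_inv_of_mul_eq_one_left k]; exact (cj t X).inv_mem (conj_mem_cj.2 hx')⟩)
    rw [k1, one_mul] at k
    exact ⟨k1, conj_eq_one_iff.1 k⟩
  have dec : ∀ g, g ∈ X ⊔ cj t X ↔ ∃ x ∈ X, ∃ x' ∈ X, g = x * (t * x' * t⁻¹) := fun g => by
    rw [Solv.Coprime.mem_sup_iff ((le_Cs_comm.1 hc).trans Cs_le_Ns)]
    exact ⟨fun ⟨x, hx, _, ⟨x', hx', e1⟩, e2⟩ => ⟨x, hx, x', hx', by rw [← e2, ← e1]; rfl⟩,
      fun ⟨x, hx, x', hx', e1⟩ => ⟨x, hx, _, conj_mem_cj.2 hx', e1.symm⟩⟩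
  let δ : X →* G := MonoidHom.mk' (fun x => x * (t * x * t⁻¹)) fun x y => by
    rw [coe_mul, ← conj_mul, (cm _ y.2 _ x.2).mul_mul_mul_comm]
  have δi : Injective δ := (injective_iff_map_eq_one δ).2 fun x k =>
    Subtype.ext (one _ x.2 _ x.2 k).1
  have le : A ≤ δ.range := fun a ha => by
    obtain ⟨x, hx, x', hx', rfl⟩ := (dec a).1 (hA ha)
    have k := (mem_Cs.1 tc _ ha).symm
    rw [← mul_inv_eq_iff_eq_mul, ← conj_mul, tt, ← (cm _ hx' _ hx).eq] at k
    have := one _ (mul_mem (inv_mem hx) hx') _ (mul_mem hx (inv_mem hx')) (by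
      rw [← conj_mul, ← conj_inv, mul_assoc, ← mul_assoc x', k]; group)
    exact ⟨⟨x, hx⟩, by rw [← inv_mul_eq_one.1 this.1]; rfl⟩
  have eq : A = δ.range := eq_of_le_of_card_ge le (by
    rw [← Nat.card_congr (MonoidHom.ofInjective δi).toEquiv, Nat.card_congr e.toEquiv])
  let f : X ≃* A := (MonoidHom.ofInjective δi).trans (MulEquiv.subgroupCongr eq.symm)
  let p : A →* G := X.subtype.comp f.symm.toMonoidHom
  have pX : ∀ a, p a ∈ X := fun a => (f.symm a).2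
  refine ⟨_, fun s => cond s p ((MulAut.conj t).toMonoidHom.comp p),
    fun a b => cm _ (pX a) _ (pX b), fun a b k => ?_, fun a => ?_, fun s a => ?_, hn,
    fun g => (dec g).trans ⟨?_, fun ⟨a, b, k⟩ => ⟨_, pX a, _, pX b, k⟩⟩⟩
  · exact (one _ (pX a) _ (pX b) k).imp (fun k => f.symm.map_eq_one_iff.1 (Subtype.ext k))
      fun k => f.symm.map_eq_one_iff.1 (Subtype.ext k)
  · exact congrArg Subtype.val (f.apply_symm_apply a)
  · cases s
    exacts [tt _, rfl]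
  · rintro ⟨x, hx, x', hx', rfl⟩
    exact ⟨f ⟨x, hx⟩, f ⟨x', hx'⟩, by simp [p]⟩

variable {N : Subgroup G} {π : Bool → A →* G} (h : W2 A t N π)
include h

theorem W2.mul (a b c d : A) :
    π true a * π false b * (π true c * π false d) = π true (a * c) * π false (b * d) := by
  rw [(h.com c b).symm.mul_mul_mul_comm, map_mul, map_mul]

theorem W2.inv (a b : A) : (π true a * π false b)⁻¹ = π true a⁻¹ * π false b⁻¹ := by
  rw [mul_inv_rev, ← map_inv, ← map_inv, (h.com _ _).eq]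

theorem W2.inj {a b c d : A} (e : π true a * π false b = π true c * π false d) :
    a = c ∧ b = d :=
  (h.ind (a * c⁻¹) (b * d⁻¹) (by rw [← h.mul, e, ← h.inv, mul_inv_cancel])).imp
    mul_inv_eq_one.1 mul_inv_eq_one.1

theorem W2.conj (a : Bool → A) (s : Bool) (c : A) :
    π true (a true) * π false (a false) * π s c * (π true (a true) * π false (a false))⁻¹ =
      π s (a s * c * (a s)⁻¹) := by
  have e : ∀ c, π s c = π true (cond s c 1) * π false (cond s 1 c) := fun c => by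
    cases s <;> simp
  rw [e, e, h.inv, h.mul, h.mul]
  cases s <;> simp

theorem W2.conj' (a : A) (s : Bool) (c : A) : a * π s c * (a : G)⁻¹ = π s (a * c * a⁻¹) := by
  rw [← h.conj (fun _ => a), h.prod]

theorem W2.pr : Pr fun s b => π s (M.T 0 b) where
  two0 := τ.two
  add s a b := by rw [← map_mul, M.T_mul]; simp
  com s s' a b := by
    have := (M.commute_T_iff' (a := 0) (b := a) (c := 0) (d := b)).2 (.inl rfl)
    cases s <;> cases s'
    exacts [this.map _, (h.com _ _).symm, h.com _ _, this.map _]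
  ind a b e := (h.ind _ _ e).imp (fun k => (M.T_eq_one.1 k).2) fun k => (M.T_eq_one.1 k).2

theorem W2.mem_Z {s : Bool} {c : A} (k : π s c ∈ RR fun s b => π s (M.T 0 b)) : c ∈ M.Z := by
  obtain ⟨a, b, e⟩ := h.pr.mem_RR.1 k
  cases s
  · exact ⟨b, (h.inj (a := 1) (c := M.T 0 a) (by rw [map_one, one_mul]; exact e)).2⟩
  · exact ⟨a, (h.inj (b := 1) (d := M.T 0 b) (by rw [map_one, mul_one]; exact e)).1⟩

theorem W2.fix {a : Bool → A}
    (k : π true (a true) * π false (a false) ∈ Ns (RR fun s b => π s (M.T 0 b))) (s : Bool) :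
    a s • M.inf = M.inf := by
  have := mem_normalizer_conj k (y_mem_RR _ s 1)
  rw [h.conj] at this
  exact M.smul_eq_of_conj_mem_Pat (M.Pat_inf ▸ M.T_mem_P 0 1) M.T_zero_one_ne_one
    (M.Pat_inf ▸ M.Z_le_P (h.mem_Z this))

theorem W2.w_iff {a : Bool → A} {R : Subgroup G} :
    π true (a true) * π false (a false) ∈ Ns (cj (M.w : G) R) ↔
      π true (M.w * a true * M.w) * π false (M.w * a false * M.w) ∈ Ns R := by
  rw [Ns, ← cj_normalizer, mem_cj, ← h.mul, ← h.mul, h.prod, ← coe_inv, M.w_inv]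

theorem W2.mem_HH {g : G} (hg : g ∈ HH (fun s b => π s (M.T 0 b)) (M.w : G)) :
    ∃ l : Bool → Kˣ, g = π true (M.D (l true)) * π false (M.D (l false)) := by
  have m : ∀ s c, π s c ∈ N := fun s c => (h.mem _).2 (by
    cases s
    exacts [⟨1, c, by simp⟩, ⟨c, 1, by simp⟩])
  obtain ⟨a, b, rfl⟩ := (h.mem g).1
    (KK_le.2 ⟨fun s a => m _ _, fun s a => h.nrm.conj_mem _ (m _ _) _⟩ hg.1.1)
  have k : ∀ s, ∃ l, cond s a b = M.D l := fun s =>
    M.exists_D_of_smul (h.fix (a := fun s => cond s a b) hg.1.2 s) (by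
      have := h.fix (a := fun s => M.w * cond s a b * M.w)
        ((h.w_iff (a := fun s => cond s a b)).1 hg.2) s
      rw [mul_smul, mul_smul, M.w_smul_inf, smul_eq_iff_eq_inv_smul, M.w_inv, M.w_smul_inf] at this
      exact this)
  choose l hl using k
  exact ⟨l, by rw [← hl, ← hl]; rfl⟩

theorem W2.act (l : Bool → Kˣ) (s : Bool) (a : K) :
    π true (M.D (l true)) * π false (M.D (l false)) * π s (M.T 0 a) *
      (π true (M.D (l true)) * π false (M.D (l false)))⁻¹ =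
      π s (M.T 0 (τ.θ (l s) * (l s : K) ^ 2 * a)) := by
  rw [h.conj fun s => M.D (l s), M.D_conj_T, mul_zero]

theorem W2.D_mem (l : Bool → Kˣ) :
    π true (M.D (l true)) * π false (M.D (l false)) ∈ HH (fun s b => π s (M.T 0 b)) (M.w : G) := by
  have k : ∀ s c, π s c ∈ KK (fun s b => π s (M.T 0 b)) (M.w : G) := fun s c => by
    refine mem_comap.1 ((sup_le ?_ (cj_le_iff.2 ?_) : M.Z ⊔ cj M.w M.Z ≤ comap (π s) _)
      (by rw [sz_gen]; trivial))
    · rintro _ ⟨b, rfl⟩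
      exact y_mem_KK _ _ s b
    · rintro _ ⟨b, rfl⟩
      rw [mem_comap, ← h.conj']
      exact wy_mem_KK _ _ s b
  have n : ∀ l : Bool → Kˣ, π true (M.D (l true)) * π false (M.D (l false)) ∈
      Ns (RR fun s b => π s (M.T 0 b)) := fun l =>
    mem_normalizer_of_cj_le (cj_le_iff_le_cj_inv.2 (RR_le.2 fun s a => mem_cj_inv.2 (by
      rw [h.act]; exact y_mem_RR _ s _)))
  refine ⟨⟨mul_mem (k _ _) (k _ _), n l⟩, (h.w_iff (a := fun s => M.D (l s))).2 ?_⟩
  rw [M.w_D_w, M.w_D_w]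
  exact n fun s => (l s)⁻¹

theorem W2.nR {g : G} (hg : g ∈ Ns (M.Z.map A.subtype)) :
    g ∈ Ns (RR fun s b => π s (M.T 0 b)) := by
  refine mem_normalizer_of_cj_le (cj_le_iff_le_cj_inv.2 (RR_le.2 fun s a => mem_cj_inv.2 ?_))
  obtain ⟨_, ⟨b, rfl⟩, e⟩ := mem_normalizer_conj' hg (mem_map_of_mem _ (M.T_mem_Z 1))
  have c1 : (M.T 0 1 : G) * (g * π s (M.T 0 a) * g⁻¹) * (M.T 0 1 : G)⁻¹ =
      g * π s (M.T 0 a) * g⁻¹ := by
    rw [show (M.T 0 1 : G) = g * M.T 0 b * g⁻¹ by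
      rw [show (M.T 0 b : G) = g⁻¹ * M.T 0 1 * g from e]; group, conj_mul,
      conj_inv, conj_mul, h.conj', M.T_conj_T]
    simp
  have c2 : g * π s (M.T 0 a) * g⁻¹ * (g * π s (M.T 0 a) * g⁻¹) = 1 := by
    rw [conj_mul, h.pr.sq, mul_one, mul_inv_cancel]
  obtain ⟨u, v, e1⟩ := (h.mem _).1 (h.nrm.conj_mem (π s (M.T 0 a)) ((h.mem _).2 (by
    cases s
    exacts [⟨1, M.T 0 a, by simp⟩, ⟨M.T 0 a, 1, by simp⟩])) g)
  rw [e1] at c1 c2 ⊢
  rw [← conj_mul, h.conj', h.conj'] at c1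
  rw [h.mul] at c2
  have z : ∀ u : A, M.T 0 1 * u * (M.T 0 1)⁻¹ = u → u * u = 1 → u ∈ M.Z := fun u a b =>
    M.mem_Z_iff.2 ⟨M.smul_eq_of_conj_mem_Pat (M.Pat_inf ▸ M.T_mem_P 0 1) M.T_zero_one_ne_one (by
      rw [← mul_inv_eq_iff_eq_mul.1 a, mul_inv_cancel_right, M.Pat_inf]
      exact M.T_mem_P 0 1), by rw [sq, b]⟩
  obtain ⟨x, rfl⟩ := z u (h.inj c1).1 (h.ind _ _ c2).1
  obtain ⟨y, rfl⟩ := z v (h.inj c1).2 (h.ind _ _ c2).2
  exact h.pr.mem_RR.2 ⟨x, y, rfl⟩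

theorem W2.yo : Yo A M t fun s b => π s (M.T 0 b) where
  toPr := h.pr
  ww := by rw [← coe_mul, M.w_mul_w, coe_one]
  hc g hg g' hg' := by
    obtain ⟨l, rfl⟩ := h.mem_HH hg
    obtain ⟨l', rfl⟩ := h.mem_HH hg'
    rw [Commute, SemiconjBy, h.mul, h.mul, ← map_mul, ← map_mul, ← map_mul, ← map_mul,
      mul_comm (l true), mul_comm (l false)]
  ho g hg := by
    obtain ⟨l, rfl⟩ := h.mem_HH hg
    have e : ∀ l : Kˣ, l ^ (Fintype.card K - 1) = 1 := fun l => by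
      rw [← Nat.card_eq_fintype_card, ← Nat.card_units, pow_card_eq_one']
    refine (SzModel.odd_sub_one (τ := τ)).of_dvd_nat (orderOf_dvd_of_pow_eq_one ?_)
    rw [(h.com _ _).mul_pow, ← map_pow, ← map_pow, ← map_pow, ← map_pow, e, e]
    simp
  act g hg s := by
    obtain ⟨l, rfl⟩ := h.mem_HH hg
    exact ⟨_, h.act l s⟩
  all c d hc hd := by
    obtain ⟨l, rfl⟩ := τ.exists_unit_θ_mul_sq hc
    obtain ⟨l', rfl⟩ := τ.exists_unit_θ_mul_sq hd
    exact ⟨_, h.D_mem fun s => cond s l l', h.act (fun s => cond s l l') true,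
      h.act (fun s => cond s l l') false⟩
  swap s a := h.swap s _
  prod a := h.prod _
  cQ s a b c := (mul_inv_eq_iff_eq_mul.1 (by rw [h.conj', M.T_conj_T]; simp)).symm
  dm l := by rw [← h.prod (M.D l)]; exact h.D_mem fun _ => l
  nR _ hg := h.nR hg

end YW

theorem yw (h : YH A M t) (hw : YW A t) : ∃ y, Yo A M t y := by
  obtain ⟨N, π, k⟩ := YW.exists_W2 h.t2 h.tc hw
  exact ⟨_, k.yo⟩

end Cfsg.Lib.SRe
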