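import Cfsg.Agent.SRe.ApiA

/-!
# Standard subgroups of type ²F₄(q): the new root elements
-/

set_option autoImplicit false
set_option linter.unusedSectionVars false

namespace Cfsg.Lib.SRe

open Subgroup Function Cfsg.Lib.Trans Cfsg.Lib.Oct Cfsg.Lib.Oct.UU
open Cfsg.Lib.Gold hiding Oc
open Cfsg.Lib.Chev (Tw SzModel)
open scoped commutatorElement

variable {K : Type*} [Field K] [TwF K] {ρ : RK K} {G : Type*} [Group G]
variable [Finite K] [Finite G] {O : Oc ρ G} {t : G} {y : Bool → K → G} {g : G}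

theorem XX_zero (s : Bool) (a : K) : XX O y 0 s a = y s a := rot_zero O _

theorem XX_zero' : XX O y 0 = y := funext₂ XX_zero

theorem rot_XX (j k : ZMod 8) (s : Bool) (a : K) : rot O j (XX O y k s a) = XX O y (j + k) s a :=
  rot_rot O j k _

theorem XX_conj (j k : ZMod 8) :
    (fun s a => (MulAut.conj (rw O j)).toMonoidHom (XX O y k s a)) = XX O y (j + k) :=
  funext₂ (rot_XX j k)

theorem HY.tr_k (h : HY O t y) (k : ZMod 8) : Tr (XX O y k) (wk O k) :=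
  h.toTr.map (MulAut.conj (rw O k)).toMonoidHom (MulAut.conj (rw O k)).injective

theorem HY.pr (h : HY O t y) (k : ZMod 8) : Pr (XX O y k) := (h.tr_k k).toPr

theorem cj_Xs (j k : ZMod 8) (s : Bool) : cj (rw O j) (Xs (XX O y k s)) = Xs (XX O y (j + k) s) := by
  rw [← XX_conj j k]; exact (Xs_map _ _).symm

theorem cj_RR (j k : ZMod 8) : cj (rw O j) (RR (XX O y k)) = RR (XX O y (j + k)) := by
  rw [← XX_conj j k]; exact (RR_map _ _).symm

theorem cj_KK (j k : ZMod 8) :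
    cj (rw O j) (KK (XX O y k) (wk O k)) = KK (XX O y (j + k)) (wk O (j + k)) := by
  rw [← XX_conj j k, ← rot_wk]; exact (KK_map _ _ _).symm

theorem cj_HH (j k : ZMod 8) :
    cj (rw O j) (HH (XX O y k) (wk O k)) = HH (XX O y (j + k)) (wk O (j + k)) := by
  rw [← XX_conj j k, ← rot_wk]; exact (HH_map _ (MulAut.conj (rw O j)).injective _ _).symm

theorem HH_rot (j k : ZMod 8) (hg : g ∈ HH (XX O y k) (wk O k)) :
    rot O j g ∈ HH (XX O y (j + k)) (wk O (j + k)) := cj_HH (O := O) j k ▸ (rot_mem_cj O).2 hg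

theorem RR_rot (j k : ZMod 8) (hg : g ∈ RR (XX O y k)) : rot O j g ∈ RR (XX O y (j + k)) :=
  cj_RR (O := O) j k ▸ (rot_mem_cj O).2 hg

theorem KK_rot (j k : ZMod 8) (hg : g ∈ KK (XX O y k) (wk O k)) :
    rot O j g ∈ KK (XX O y (j + k)) (wk O (j + k)) := cj_KK (O := O) j k ▸ (rot_mem_cj O).2 hg

theorem rot_Cs (hg : g ∈ Cs O.GG) (k : ZMod 8) : rot O k g = g := by
  rw [rot, ← (Cs_com hg (rw_mem O k)).eq, mul_inv_cancel_right]

theorem Hy.rot_t (h : Hy O t) (k : ZMod 8) : rot O k t = t := rot_Cs h.tc k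

theorem HY.X_t (h : HY O t y) (k : ZMod 8) (s : Bool) (a : K) :
    t * XX O y k s a * t⁻¹ = XX O y k (!s) a := by
  rw [XX, XX, ← h.swap, rot_conj, h.toHy.rot_t]

theorem HY.X_prod (h : HY O t y) (k : ZMod 8) (s : Bool) (a : K) :
    XX O y k s a * XX O y k (!s) a = cz O k a := by
  rw [XX, XX, ← rot_mul, cz, ← h.prod]
  cases s
  · rw [(h.com _ _ _ _).eq]; rfl
  · rfl

theorem HY.X_τ (h : HY O t y) (k : ZMod 8) (s : Bool) (a : K) :
    t * XX O y k s a * t⁻¹ * XX O y k s a = cz O k a := by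
  rw [h.X_t, ← h.X_prod k (!s), Bool.not_not]

theorem HY.cz_mem (h : HY O t y) (k : ZMod 8) (a : K) : cz O k a ∈ RR (XX O y k) :=
  h.X_prod k true a ▸ mul_mem (y_mem_RR _ _ _) (y_mem_RR _ _ _)

theorem HY.t_two (h : HY O t y) (k : ZMod 8) (a b : K) :
    t * (XX O y k true a * XX O y k false b) * t⁻¹ = XX O y k true b * XX O y k false a := by
  rw [← conj_mul, h.X_t, h.X_t, ((h.pr k).com _ _ _ _).eq]; rfl

theorem HY.RR_t (h : HY O t y) {k : ZMod 8} (hg : g ∈ RR (XX O y k)) (ht : Commute g t) :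
    ∃ a, g = cz O k a := by
  obtain ⟨a, b, rfl⟩ := (h.pr k).mem_RR.1 hg
  have e := h.t_two k a b
  rw [← ht.eq, mul_inv_cancel_right] at e
  exact ⟨a, by rw [((h.pr k).inj e).2]; exact h.X_prod k true a⟩

theorem HY.RR_τ (h : HY O t y) {k : ZMod 8} (hg : g ∈ RR (XX O y k)) :
    ∃ a, t * g * t⁻¹ * g = cz O k a := by
  obtain ⟨a, b, rfl⟩ := (h.pr k).mem_RR.1 hg
  refine ⟨a + b, ?_⟩
  rw [h.t_two, ← h.X_prod k true]
  exact ((h.pr k).mul2 true b a a b).trans (by rw [add_comm b a])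

theorem HY.t_RR (h : HY O t y) (k : ZMod 8) : t ∈ Ns (RR (XX O y k)) :=
  mem_normalizer_of_cj_le (cj_le_iff_le_cj_inv.2 (RR_le.2 fun s a =>
    mem_cj_inv.2 (by rw [h.X_t]; exact y_mem_RR _ _ _)))

/-- The action on the root elements is read off from the action on their products. -/
theorem Pr.conj_eq (h : Pr y) (h1 : ∀ s, g ∈ Ns (Xs (y s))) {a b : K}
    (e : g * (y true a * y false a) * g⁻¹ = y true b * y false b) (s : Bool) :
    g * y s a * g⁻¹ = y s b := by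
  obtain ⟨c, hc⟩ := h.mem_Xs.1 (mem_normalizer_conj (h1 true) (y_mem_Xs _ a))
  obtain ⟨d, hd⟩ := h.mem_Xs.1 (mem_normalizer_conj (h1 false) (y_mem_Xs _ a))
  rw [← conj_mul, hc, hd] at e
  cases s
  · rw [hd, (h.inj e).2]
  · rw [hc, (h.inj e).1]

theorem HY.fx (h : HY O t y) (h1 : g ∈ Cs O.h.range) (ho : Odd (orderOf g)) (h2 : g ∈ Cs (S4 O))
    (s : Bool) (a : K) : Commute g (y s a) := by
  obtain ⟨-, c4, -, cn⟩ := (mem_Cs_S4 O).1 h2
  have n1 := h.nR g h1 (Cs_le_Ns (mem_Cs_Z.2 c4))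
  have n2 : g ∈ Ns (cj (n4 O) (RR y)) := by
    rw [mem_Ns_iff] at n1 ⊢
    rw [cj_cj, cn.eq, cj_mul, n1]
  refine com_of (h.toPr.conj_eq (h.toTr.perm h.toHy.q2 ho n1 n2) ?_ s)
  rw [h.prod, (c4 a).eq, mul_inv_cancel_right]

theorem h_mem_L (β : Kˣ) : O.h β ∈ O.GG := C_le_L O (O.h_mem β)

theorem HY.od_X (h : HY O t y) {o : G} (ho : Od O t o) (k : ZMod 8) (s : Bool) (a : K) :
    Commute o (XX O y k s a) := by
  rw [← rot_Cs ho.1 k]
  refine rot_commute O k (h.fx (Cs_anti ?_ ho.1) ho.2.2 (Cs_anti (S4_le O) ho.1) s a)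
  rintro _ ⟨β, rfl⟩
  exact h_mem_L β

theorem HY.η_X (h : HY O t y) (p : Kˣ × Kˣ) (k : ZMod 8) (s : Bool) :
    ∃ c, ∀ a, O.η p * XX O y k s a * (O.η p)⁻¹ = XX O y k s (c * a) := by
  obtain ⟨p', hp⟩ := rot_η O (-k) p
  obtain ⟨α, β, e⟩ := η_dec O p'
  obtain ⟨c, hc⟩ := h.act _ (h.dm α) s
  refine ⟨c, fun a => ?_⟩
  rw [← rot_back O hp, neg_neg, XX, ← rot_conj, XX, ← hc, e, mul_assoc (h4 O α),
    ← (Cs_com (h.mem s a) ⟨β, rfl⟩).eq]
  congr 1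
  group

theorem HY.η_Xs (h : HY O t y) (p : Kˣ × Kˣ) (k : ZMod 8) (s : Bool) : O.η p ∈ Ns (Xs (XX O y k s)) :=
  mem_normalizer_of_cj_le (cj_le_iff_le_cj_inv.2 (Xs_le.2 fun a => mem_cj_inv.2 (by
    obtain ⟨c, hc⟩ := h.η_X p k s
    rw [hc]; exact y_mem_Xs _ _)))

theorem HY.tor_X (h : HY O t y) {p : Kˣ × Kˣ} {k : ZMod 8} {c : K}
    (hc : ∀ a, O.η p * cz O k a * (O.η p)⁻¹ = cz O k (c * a)) (s : Bool) (a : K) :
    O.η p * XX O y k s a * (O.η p)⁻¹ = XX O y k s (c * a) :=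
  (h.pr k).conj_eq (h.η_Xs p k) (by
    rw [show XX O y k true a * XX O y k false a = _ from h.X_prod k true a, hc]
    exact (h.X_prod k true _).symm) s

theorem HY.η_RR (h : HY O t y) (p : Kˣ × Kˣ) (k : ZMod 8) : O.η p ∈ Ns (RR (XX O y k)) :=
  mem_Ns_sup (h.η_Xs p k true) (h.η_Xs p k false)

theorem HY.S4_le (h : HY O t y) : S4 O ≤ KK (XX O y 0) (wk O 0) := fun g hg => by
  have := Fintype.ofFinite K
  obtain ⟨M, hT, hw, -⟩ := h.sz
  have hZ : M.Z ≤ (RR (XX O y 0)).comap (S4 O).subtype := by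
    rintro _ ⟨b, rfl⟩
    change (M.T 0 b : G) ∈ RR (XX O y 0)
    rw [hT, y4_zero, one_mul, ← cz0]
    exact h.cz_mem 0 b
  have : M.Z ⊔ cj M.w M.Z ≤ (KK (XX O y 0) (wk O 0)).comap (S4 O).subtype :=
    sup_le (fun z hz => mem_sup_left (hZ hz)) (cj_le_iff.2 fun z hz => mem_sup_right (by
      change (M.w : G) * z * (M.w : G)⁻¹ ∈ cj (wk O 0) (RR (XX O y 0))
      rw [hw, wk_zero]
      exact conj_mem_cj.2 (hZ hz)))
  rw [sz_gen] at this
  exact this (mem_top ⟨g, hg⟩)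

theorem HY.S8_le (h : HY O t y) : S8 O ≤ KK (XX O y 2) (wk O 2) := by
  rw [← rot2_S4, ← add_zero (2 : ZMod 8), ← cj_KK, add_zero]
  exact cj_mono _ h.S4_le

theorem HY.h4_mem (h : HY O t y) (β : Kˣ) : h4 O β ∈ HH (XX O y 0) (wk O 0) := by
  rw [XX_zero', wk_zero]; exact h.dm β

theorem HY.h_mem (h : HY O t y) (β : Kˣ) : O.h β ∈ HH (XX O y 2) (wk O 2) :=
  rot2_h4 O β ▸ HH_rot 2 0 (h.h4_mem β)

theorem H2.X_c (h : H2 O t y) (k : ZMod 8) (s : Bool) (a : K) {c : G} (hc : c ∈ O.C) :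
    Commute (XX O y k s a) (rot O k c) := rot_commute O k (Cs_com (h.cC s a) hc)

theorem H2.n_y (h : H2 O t y) (s : Bool) (a : K) : O.n * y s a * O.n⁻¹ = y s a := by
  rw [← (Cs_com (h.cC s a) O.n_mem).eq, mul_inv_cancel_right]

theorem H2.X_n (h : H2 O t y) (k : ZMod 8) (s : Bool) (a : K) :
    O.n * XX O y k s a * O.n⁻¹ = XX O y (-k) s a := by rw [XX, n_rot, h.n_y, XX]

theorem H2.X_m (h : H2 O t y) (k : ZMod 8) (s : Bool) (a : K) :
    O.m * XX O y k s a * O.m⁻¹ = XX O y (1 - k) s a := by rw [XX, m_rot, h.n_y, XX]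

theorem H2.X_w (h : H2 O t y) (k j : ZMod 8) (s : Bool) (a : K) :
    wk O k * XX O y j s a * (wk O k)⁻¹ = XX O y (2 * k + 4 - j) s a := by rw [XX, wk_rot, h.n_y, XX]

theorem H2.X0_c (h : H2 O t y) (s : Bool) (a : K) {c : G} (hc : c ∈ O.C) : Commute (XX O y 0 s a) c := by
  rw [XX_zero]; exact Cs_com (h.cC s a) hc

theorem conj_com (x : G) {a b : G} (h : Commute a b) : Commute (x * a * x⁻¹) (x * b * x⁻¹) :=
  h.map (MulAut.conj x)

/-- `XX 1` centralises `R`; `XX 7` centralises the letters `1..6`; `XX 2` the letters `4..8`. -/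
theorem H2.X1_R (h : H2 O t y) (s : Bool) (a : K) {u : UU K} (hu : u ∈ R K) :
    Commute (XX O y 1 s a) (O.ι u) := by
  have := conj_com O.m (h.X0_c s a (O.ι_mem (ν1 u)))
  rwa [h.X_m, cm O (mι O hu).1, sub_zero] at this

theorem H2.X7_c (h : H2 O t y) (s : Bool) (a : K) {u : UU K} (h7 : u.a7 = 0) (hu : u ∈ Q K) :
    Commute (XX O y 7 s a) (O.ι u) := by
  have hν : ν8 u ∈ R K := by
    rw [ν8, h7]
    refine mul_mem (mul_mem (mul_mem (mul_mem (mul_mem (mul_mem (mul_mem (mul_mem (mul_mem ?_ ?_) ?_)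
      ?_) ?_) ?_) ?_) ?_) ?_) ?_ <;> rfl
  have := conj_com O.n (h.X1_R s a hν)
  rwa [h.X_n, O.cn (O.nι hu)] at this

theorem H2.X2_c (h : H2 O t y) (s : Bool) (a : K) {u : UU K} (hu : u ∈ T8 K) :
    Commute (XX O y 2 s a) (O.ι u) := by
  obtain ⟨h1, h2, h3, h4⟩ := hu
  have hν : Commute (XX O y 7 s a) (O.ι (ν1 u)) := by
    rw [ν1, h2, h3, h4]
    simp only [map_mul]
    refine Commute.mul_right (Commute.mul_right (Commute.mul_right (Commute.mul_right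
      (Commute.mul_right (Commute.mul_right (Commute.mul_right (Commute.mul_right (Commute.mul_right
      (Commute.mul_right ?_ ?_) ?_) ?_) ?_) ?_) ?_) ?_) ?_) ?_) ?_ <;> exact h.X7_c s a rfl ⟨rfl, rfl⟩
  have := conj_com O.m hν
  rwa [h.X_m, cm O (mι O h1).1] at this

theorem H3.cX (h : H3 O t y) (k d : ZMod 8) (hd : d = 0 ∨ d = 1 ∨ d = 2) (s s' : Bool) (a b : K) :
    Commute (XX O y k s a) (XX O y (k + d) s' b) := by
  rw [← rot_XX, ← add_zero k, ← rot_XX, add_zero]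
  refine rot_commute O k ?_
  rcases hd with rfl | rfl | rfl
  · exact (h.toHY.pr 0).com _ _ _ _
  · exact h.c1 _ _ _ _
  · exact Cs_com (h.cK (y_mem_KK _ _ _ _)) (y_mem_KK _ _ _ _)

theorem X0_Vt (s : Bool) (a : K) : XX O y 0 s a ∈ Vt O y := mem_sup_left (y_mem_RR _ _ _)

theorem X1_Vt (s : Bool) (a : K) : XX O y 1 s a ∈ Vt O y := mem_sup_right (y_mem_RR _ _ _)

theorem Vt_le : Vt O y ≤ Et O y := le_ncl'

theorem X0_Et (s : Bool) (a : K) : XX O y 0 s a ∈ Et O y := Vt_le (X0_Vt s a)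

theorem X1_Et (s : Bool) (a : K) : XX O y 1 s a ∈ Et O y := Vt_le (X1_Vt s a)

theorem C_Et : O.C ≤ Ns (Et O y) := le_Ns_ncl

theorem H2.X7_Et (h : H2 O t y) (s : Bool) (a : K) : XX O y 7 s a ∈ Et O y := by
  have := mem_normalizer_conj (C_Et O.n_mem) (X1_Et (y := y) s a)
  rwa [h.X_n] at this

theorem H2.X2_Et (h : H2 O t y) (s : Bool) (a : K) : O.m * XX O y 2 s a * O.m⁻¹ ∈ Et O y := by
  rw [h.X_m]; exact h.X7_Et s a

theorem Vt_le_iff {A : Subgroup G} :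
    Vt O y ≤ A ↔ (∀ s a, XX O y 0 s a ∈ A) ∧ ∀ s a, XX O y 1 s a ∈ A := by
  rw [Vt, sup_le_iff, RR_le, RR_le]

theorem HY.η_Vt (h : HY O t y) (p : Kˣ × Kˣ) : O.η p ∈ Ns (Vt O y) :=
  mem_Ns_sup (h.η_RR p 0) (h.η_RR p 1)

theorem H3.Et_le (h : H3 O t y) {A : Subgroup G} (h0 : ∀ s a, XX O y 0 s a ∈ A)
    (h1 : ∀ s a, XX O y 1 s a ∈ A)
    (h7 : ∀ v ∈ U8 K, ∀ s a, O.ι v * XX O y 7 s a * (O.ι v)⁻¹ ∈ A) : Et O y ≤ A := by
  have nι : ∀ u, cj (O.ι u) (Vt O y) = Vt O y := fun u => mem_Ns_iff.1 (h.nU u)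
  have nh : ∀ β, cj (O.h β) (Vt O y) = Vt O y := fun β => mem_Ns_iff.1 (O.hη β ▸ h.toHY.η_Vt _)
  refine ncl_le_iff.2 fun c hc => ?_
  rcases O.mem_C.1 hc with ⟨u, β, rfl⟩ | ⟨u, β, v, -, rfl⟩
  · rw [cj_mul, nh, nι]; exact Vt_le_iff.2 ⟨h0, h1⟩
  obtain ⟨q, hq, w, hw, e⟩ := exists_QU u⁻¹
  have e1 : O.ι u * O.h β * O.n * O.ι v = O.ι w⁻¹ * O.n * (O.ι (ν8 q⁻¹) * (O.h β⁻¹ * O.ι v)) := by
    rw [← O.nι (inv_mem hq), ← O.nh, ← inv_inv u, e, mul_inv_rev, map_mul, O.n_inv]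
    calc _ = O.ι w⁻¹ * (O.n * O.n) * O.ι q⁻¹ * (O.n * O.n) * O.h β * O.n * O.ι v := by
          rw [O.nn]; group
      _ = _ := by group
  rw [e1, cj_mul, cj_mul (O.ι (ν8 q⁻¹)), cj_mul (O.h β⁻¹), nι, nh, nι]
  refine cj_le_iff_le_cj_inv.2 (Vt_le_iff.2 ⟨fun s a => mem_cj_inv.2 ?_, fun s a => mem_cj_inv.2 ?_⟩)
  · rw [← (h.toH2.X0_c s a (mul_mem (O.ι_mem _) O.n_mem)).eq, mul_inv_cancel_right]
    exact h0 s a
  · have := h7 _ (inv_mem hw) s a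
    rw [← show O.n * XX O y 1 s a * O.n⁻¹ = XX O y 7 s a from h.toH2.X_n 1 s a] at this
    rwa [mul_inv_rev, ← mul_assoc, mul_assoc (O.ι w⁻¹), mul_assoc (O.ι w⁻¹)]

end Cfsg.Lib.SRe
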