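import Cfsg.Agent.SRe.Bas

/-!
# Standard subgroups of type ²F₄(q): the centraliser of `t`
-/

set_option autoImplicit false
set_option linter.unusedSectionVars false

namespace Cfsg.Lib.SRe

open Subgroup Function Cfsg.Lib.Trans Cfsg.Lib.Oct Cfsg.Lib.Oct.UU
open Cfsg.Lib.Gold hiding Oc
open Cfsg.Lib.Chev (Tw SzModel)
open scoped commutatorElement

/-- The `2`-part and the odd part of an element. -/
theorem two_odd {G : Type*} [Group G] [Finite G] (d : G) : ∃ u ∈ zpowers d, ∃ o ∈ zpowers d,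
    (∃ k : ℕ, u ^ 2 ^ k = 1) ∧ Odd (orderOf o) ∧ d = u * o := by
  obtain ⟨k, m, hm, e⟩ := Nat.exists_eq_two_pow_mul_odd (orderOf_pos d).ne'
  obtain ⟨x, z, h⟩ : IsCoprime ((2 ^ k : ℕ) : ℤ) (m : ℤ) :=
    Nat.isCoprime_iff_coprime.2 (Nat.Coprime.pow_left k (Nat.coprime_two_left.2 hm))
  have h0 : d ^ (((2 ^ k : ℕ) : ℤ) * m) = 1 := by
    rw [← Nat.cast_mul, ← e, zpow_natCast, pow_orderOf_eq_one]
  refine ⟨d ^ (z * m), ⟨_, rfl⟩, d ^ (x * (2 ^ k : ℕ)), ⟨_, rfl⟩, ⟨k, ?_⟩, hm.of_dvd_nat ?_, ?_⟩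
  · rw [← zpow_natCast, ← zpow_mul, show z * m * ((2 ^ k : ℕ) : ℤ) = ((2 ^ k : ℕ) : ℤ) * m * z by ring,
      zpow_mul, h0, one_zpow]
  · refine orderOf_dvd_of_pow_eq_one ?_
    rw [← zpow_natCast, ← zpow_mul, show x * ((2 ^ k : ℕ) : ℤ) * m = ((2 ^ k : ℕ) : ℤ) * m * x by ring,
      zpow_mul, h0, one_zpow]
  · rw [← zpow_add, add_comm, h, zpow_one]

theorem Cs_com {G : Type*} [Group G] {A : Subgroup G} {c a : G} (hc : c ∈ Cs A) (ha : a ∈ A) :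
    Commute c a := (mem_Cs.1 hc a ha).symm

theorem com_Cs {G : Type*} [Group G] {A : Subgroup G} {c : G} (h : ∀ a ∈ A, Commute c a) : c ∈ Cs A :=
  mem_Cs.2 fun a ha => (h a ha).symm

variable {K : Type*} [Field K] [TwF K] {ρ : RK K} {G : Type*} [Group G]
variable [Finite K] [Finite G] {O : Oc ρ G} {t : G} {y : Bool → K → G} {g : G}

theorem Hy.q2 (h : Hy O t) : 2 < Nat.card K := lt_of_lt_of_le (by norm_num) h.big
theorem Hy.t_inv (h : Hy O t) : t⁻¹ = t := inv_eq_of_mul_eq_one_right h.t2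
theorem Hy.tL (h : Hy O t) (hg : g ∈ O.GG) : Commute t g := Cs_com h.tc hg
theorem Hy.tι (h : Hy O t) (u : UU K) : Commute t (O.ι u) := h.tL (ι_mem_L O u)
theorem Hy.t_not (h : Hy O t) : t ∉ O.GG := fun ht => h.t1 (L_inf O ht h.tc)

theorem Od.sq {o : G} (h : Od O t o) {k : ℕ} (e : o ^ 2 ^ k = 1) : o = 1 :=
  orderOf_eq_one_iff.1 (Nat.Coprime.eq_one_of_dvd (Nat.Coprime.pow_right k (Nat.coprime_two_right.2 h.2.2))
    (orderOf_dvd_of_pow_eq_one e))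

theorem mem_Cs_Z : g ∈ Cs O.Z ↔ ∀ a, Commute g (O.ι (x4 a)) :=
  ⟨fun h a => Cs_com h (x4_mem_Z O a), fun h => com_Cs fun z hz => by
    obtain ⟨a, rfl⟩ := O.mem_Z.1 hz
    exact h a⟩

/-- The second factor of a `2`-element of `L C(L)` is a `2`-element. -/
theorem pow_snd {l d : G} (hl : l ∈ O.GG) (hd : d ∈ Cs O.GG) {n : ℕ} (e : (l * d) ^ n = 1) :
    l ^ n = 1 ∧ d ^ n = 1 := by
  rw [(Cs_com hd hl).symm.mul_pow] at e
  have h1 : l ^ n = 1 := L_inf O (pow_mem hl n) (by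
    rw [eq_inv_of_mul_eq_one_left e]; exact inv_mem (pow_mem hd n))
  exact ⟨h1, by rwa [h1, one_mul] at e⟩

theorem od_dec (two : ∀ c ∈ Cs O.GG, Commute c t → ∀ k : ℕ, c ^ 2 ^ k = 1 → c = 1 ∨ c = t)
    {d : G} (hd : d ∈ Cs O.GG) (ht : Commute d t) : ∃ o, Od O t o ∧ (d = o ∨ d = t * o) := by
  obtain ⟨_, ⟨i, rfl⟩, _, ⟨j, rfl⟩, ⟨k, hk⟩, ho, e⟩ := two_odd d
  refine ⟨_, ⟨zpow_mem hd j, ht.zpow_left j, ho⟩, ?_⟩
  rcases two _ (zpow_mem hd i) (ht.zpow_left i) k hk with h | h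
  · exact Or.inl (e.trans (by simp only [h, one_mul]))
  · exact Or.inr (e.trans (by simp only [h]))

theorem H0.fac' (h : H0 O t)
    (two : ∀ c ∈ Cs O.GG, Commute c t → ∀ k : ℕ, c ^ 2 ^ k = 1 → c = 1 ∨ c = t)
    (h1 : Commute g t) (h2 : ∀ a, Commute g (O.ι (x4 a))) :
    ∃ c ∈ O.C, ∃ o, Od O t o ∧ (g = c * o ∨ g = c * t * o) := by
  obtain ⟨c, hc, hd⟩ := h.fac g (h.cn (mem_C1.2 h1)) (mem_Cs_Z.2 h2)
  obtain ⟨o, ho, e⟩ := od_dec two hd ((h.toHy.tL (C_le_L O hc)).symm.inv_left.mul_left h1)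
  refine ⟨c, hc, o, ho, e.imp (fun e => ?_) fun e => ?_⟩
  · rw [← e]; group
  · rw [mul_assoc, ← e]; group

theorem H0.two_mem (h : H0 O t)
    (two : ∀ c ∈ Cs O.GG, Commute c t → ∀ k : ℕ, c ^ 2 ^ k = 1 → c = 1 ∨ c = t)
    (h1 : Commute g t) (h2 : ∀ a, Commute g (O.ι (x4 a))) {k : ℕ} (e : g ^ 2 ^ k = 1) :
    ∃ c ∈ O.C, g = c ∨ g = c * t := by
  obtain ⟨c, hc, hd⟩ := h.fac g (h.cn (mem_C1.2 h1)) (mem_Cs_Z.2 h2)
  have e1 := (pow_snd (C_le_L O hc) hd (n := 2 ^ k) (by rwa [mul_inv_cancel_left])).2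
  refine ⟨c, hc, (two _ hd ((h.toHy.tL (C_le_L O hc)).symm.inv_left.mul_left h1) k e1).imp
    (fun e => ?_) fun e => ?_⟩
  · rw [inv_mul_eq_one.1 e]
  · rw [← e]; group

theorem C_le_two {A : Subgroup G} (h : ∀ c ∈ O.C, ∀ k, c ^ 2 ^ k = 1 → c ∈ A) : O.C ≤ A :=
  O.C_le_of (by
    rintro _ ⟨u, rfl⟩
    obtain ⟨k, hk⟩ := O.ι_pow u
    exact h _ (O.ι_mem u) k hk) (h _ O.n_mem 1 (by rw [pow_one, sq, O.nn]))

theorem H0.mem_NC (h : H0 O t)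
    (two : ∀ c ∈ Cs O.GG, Commute c t → ∀ k : ℕ, c ^ 2 ^ k = 1 → c = 1 ∨ c = t)
    (h1 : g ∈ Ns O.Z) {a : K} (h2 : g * t * g⁻¹ = t * O.ι (x4 a)) : g ∈ Ns O.C := by
  have tC : ∀ c ∈ O.C, ∀ i : ℤ, Commute (t ^ i) c := fun c hc i => (h.toHy.tL (C_le_L O hc)).zpow_left i
  let A : Subgroup G :=
    { carrier := {x | ∃ c ∈ O.C, ∃ i : ℤ, x = c * t ^ i}
      one_mem' := ⟨1, one_mem _, 0, by simp⟩
      mul_mem' := by
        rintro _ _ ⟨c, hc, i, rfl⟩ ⟨d, hd, j, rfl⟩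
        refine ⟨c * d, mul_mem hc hd, i + j, ?_⟩
        rw [zpow_add, mul_assoc, ← mul_assoc (t ^ i), (tC d hd i).eq]; group
      inv_mem' := by
        rintro _ ⟨c, hc, i, rfl⟩
        exact ⟨c⁻¹, inv_mem hc, -i, by rw [mul_inv_rev, ← zpow_neg, (tC _ (inv_mem hc) _).eq]⟩ }
  have hA : O.C ≤ cj g⁻¹ A := C_le_two fun c hc k e => mem_cj_inv.2 (by
    have cZ : g * c * g⁻¹ ∈ Cs O.Z := mem_normalizer_conj (mem_Ns_Cs h1) (O.C_le_CZ hc)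
    have c1 : Commute (g * c * g⁻¹) (t * O.ι (x4 a)) := by
      rw [← h2]
      exact (h.toHy.tL (C_le_L O hc)).symm.map (MulAut.conj g)
    have c2 : Commute (g * c * g⁻¹) t := by
      simpa using c1.mul_right (mem_Cs_Z.1 cZ a).inv_right
    obtain ⟨d, hd, e | e⟩ := h.two_mem two c2 (mem_Cs_Z.1 cZ) (k := k) (by rw [conj_pow, e]; group)
    · exact ⟨d, hd, 0, by rw [e, zpow_zero, mul_one]⟩
    · exact ⟨d, hd, 1, by rw [e, zpow_one]⟩)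
  refine mem_normalizer_of_cj_le ?_
  have hA' : cj g O.C ≤ A := cj_le_iff_le_cj_inv.2 hA
  rw [← O.perfect h.toHy.q2, cj_commutator, O.perfect h.toHy.q2]
  refine (commutator_mono hA' hA').trans (commutator_le.2 ?_)
  rintro _ ⟨c, hc, i, rfl⟩ _ ⟨d, hd, j, rfl⟩
  have e : ⁅c * t ^ i, d * t ^ j⁆ = c * d * c⁻¹ * d⁻¹ := by
    have e1 := (tC d hd i).eq
    have e2 := (tC _ (inv_mem hc) j).eq
    calc ⁅c * t ^ i, d * t ^ j⁆ = c * (t ^ i * d) * (t ^ i)⁻¹ * (t ^ j * c⁻¹) * (t ^ j)⁻¹ * d⁻¹ := by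
          rw [commutatorElement_def]; group
      _ = _ := by rw [e1, e2]; group
  rw [e]
  exact mul_mem (mul_mem (mul_mem hc hd) (inv_mem hc)) (inv_mem hd)

theorem H1.fac' (h : H1 O t) (h1 : Commute g t) (h2 : ∀ a, Commute g (O.ι (x4 a))) :
    ∃ c ∈ O.C, ∃ o, Od O t o ∧ (g = c * o ∨ g = c * t * o) := h.toH0.fac' h.two h1 h2

/-- A `2`-element of `C(t)` lies in `L ⟨t⟩`. -/
theorem H1.two_L (h : H1 O t) (h1 : Commute g t) {k : ℕ} (e : g ^ 2 ^ k = 1) :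
    g ∈ O.GG ∨ g * t ∈ O.GG := by
  obtain ⟨l, hl, hd⟩ := h.out g (h.cn (mem_C1.2 h1)) k e
  have e1 := (pow_snd hl hd (n := 2 ^ k) (by rwa [mul_inv_cancel_left])).2
  refine (h.two _ hd ((h.toHy.tL hl).symm.inv_left.mul_left h1) k e1).imp (fun e => ?_) fun e => ?_
  · rwa [← inv_mul_eq_one.1 e]
  · rwa [show g * t = l * (l⁻¹ * g) * t by group, e, mul_assoc, h.t2, mul_one]

theorem card_S : Nat.card O.S = Nat.card K ^ 12 := by
  rw [← card_eq K]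
  exact Nat.card_congr (O.ι.ofInjective O.inj).symm.toEquiv

theorem H1.two_card (h : H1 O t) {T : Subgroup G} (h1 : IsPGroup 2 T) (h2 : T ≤ C1 t) :
    Nat.card T ≤ 2 * Nat.card K ^ 12 := by
  have : Fact (Nat.Prime 2) := ⟨Nat.prime_two⟩
  have hm : ∀ x : T, (x : G) ∈ O.GG ∨ (x : G) * t ∈ O.GG := fun x => by
    obtain ⟨k, hk⟩ := h1 x
    exact h.two_L (mem_C1.1 (h2 x.2)) (k := k) (congrArg Subtype.val hk)
  have hi : (O.GG ⊓ T).relIndex T ∣ 2 := by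
    rw [inf_relIndex_right, relIndex, index_dvd_two_iff]
    by_cases ha : ∀ x : T, (x : G) ∈ O.GG
    · exact ⟨1, fun b => Or.inr (ha b)⟩
    · obtain ⟨a, ha⟩ := not_forall.1 ha
      refine ⟨a⁻¹, fun b => (hm b).symm.imp (fun hb => ?_) id⟩
      have := mul_mem hb (inv_mem ((hm a).resolve_left ha))
      rw [show (b : G) * t * ((a : G) * t)⁻¹ = b * (a : G)⁻¹ by group] at this
      exact this
  rw [← card_mul_relIndex (inf_le_right : O.GG ⊓ T ≤ T), mul_comm, ← card_S (O := O)]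
  exact Nat.mul_le_mul (Nat.le_of_dvd two_pos hi) (O.syl.card_le (h1.to_le inf_le_right) inf_le_left)

/-- An element normalising `Z ⟨t⟩` normalises `C`. -/
theorem H1.mem_NC (h : H1 O t) (h1 : g ∈ Ns O.Z) {a : K} (h2 : g * t * g⁻¹ = t * O.ι (x4 a)) :
    g ∈ Ns O.C := h.toH0.mem_NC h.two h1 h2

end Cfsg.Lib.SRe
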