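import Cfsg.Agent.SRe.BasA
import Cfsg.Agent.Oct.StepB
import Cfsg.Agent.Oct.StepC2A
import Cfsg.Agent.Oct.StepC3A

/-!
# Standard subgroups of type ²F₄(q): facts about the group `O.GG`
-/

set_option autoImplicit false
set_option linter.unusedSectionVars false
set_option maxRecDepth 100000

namespace Cfsg.Lib.SRe

open Subgroup Function Cfsg.Lib.Trans Cfsg.Lib.Oct Cfsg.Lib.Oct.UU
open Cfsg.Lib.Gold hiding Oc
open Cfsg.Lib.Chev (Tw SzModel)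
open scoped commutatorElement

variable {K : Type*} [Field K] [TwF K] {ρ : RK K} {G : Type*} [Group G] (O : Oc ρ G) {g g' : G}

theorem mem_W4 {u : UU K} : u ∈ W K ⊔ U4 K ↔
    u.a1 = 0 ∧ u.b8 = 0 ∧ u.b2 = 0 ∧ u.a8 = 0 ∧ u.b6 = 0 ∧ u.a7 = 0 := by
  let A : Subgroup (UU K) :=
    { carrier := {u | u.a1 = 0 ∧ u.b8 = 0 ∧ u.b2 = 0 ∧ u.a8 = 0 ∧ u.b6 = 0 ∧ u.a7 = 0}
      mul_mem' := by intros; simp_all
      one_mem' := by simp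
      inv_mem' := by intros; simp_all }
  refine ⟨fun h => (sup_le (fun _ h => ?_) (fun _ h => ?_) : W K ⊔ U4 K ≤ A) h, fun ⟨h1, h2, h3, h4, h5, h6⟩ => ?_⟩
  · exact ⟨h.1, h.2.1, h.2.2.1, h.2.2.2.1, h.2.2.2.2.1, h.2.2.2.2.2.2⟩
  · exact ⟨h.1, h.2.1, h.2.2.1, h.2.2.2.1, h.2.2.2.2.1, h.2.2.2.2.2.1⟩
  refine C2.mem_of (C2.z0 x1_zero h1) (C2.z0 y8_zero h2) (C2.z0 y2_zero h3) (C2.z0 x8_zero h4) (C2.z0 y6_zero h5)
    (mem_sup_right (by simp)) (C2.z0 x7_zero h6) ?_ ?_ ?_ ?_ ?_ <;> exact mem_sup_left (by simp)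

theorem C_le_NW4' : O.C ≤ Ns ((W K ⊔ U4 K).map O.ι) := O.C_le_N
  (fun u a h => by
    obtain ⟨h1, h2, h3, h4, h5, h6⟩ := mem_W4.1 h
    rw [mem_W4]; uus [h1, h2, h3, h4, h5, h6]; grind)
  (fun _ _ h => by rw [mem_W4] at *; simp_all)
  fun a h => by
    obtain ⟨h1, h2, h3, h4, h5, h6⟩ := mem_W4.1 h
    refine ⟨⟨h2, h4⟩, ?_⟩
    rw [ν8, h1, h3, h5, h6, mem_W4]
    simp

/-- The subgroup `W U₄ = C_C(W)`. -/
theorem C_le_NW4 {c : G} (hc : c ∈ O.C) {u : UU K} (hu : u ∈ W K ⊔ U4 K) :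
    ∃ v ∈ W K ⊔ U4 K, c * O.ι u * c⁻¹ = O.ι v :=
  (mem_normalizer_conj (C_le_NW4' O hc) (O.ι_mem_map.2 hu)).imp fun _ h => ⟨h.1, h.2.symm⟩

theorem ι_com {u v : UU K} (h : Commute (O.ι u) (O.ι v)) : u * v = v * u := O.inj (by simpa using h.eq)

theorem com_ι {u v : UU K} (h : u * v = v * u) : Commute (O.ι u) (O.ι v) := Commute.map h O.ι

theorem cent_W (hg : g ∈ O.C) (h : ∀ u ∈ W K, Commute g (O.ι u)) : ∃ u ∈ W K ⊔ U4 K, g = O.ι u := by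
  obtain ⟨u, hu, rfl⟩ := O.cent_x6 hg one_ne_zero (h _ (by simp))
  refine ⟨u, mem_W4.2 ?_, rfl⟩
  have h1 := ι_com O (h (x2 1) (by simp))
  have h2 := ι_com O (h (x3 1) (by simp))
  have h3 := ι_com O (h (x5 1) (by simp))
  have hu : u.a1 = 0 := hu
  simp only [UU.ext_iff] at h1 h2 h3
  uus [hu] at h1 h2 h3
  grind

theorem cent_R (hg : g ∈ O.C) (h : ∀ u ∈ R K, Commute g (O.ι u)) : g ∈ O.V := by
  obtain ⟨u, hu, rfl⟩ := O.cent_x6 hg one_ne_zero (h _ (by simp))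
  obtain ⟨h1, h2, h3, h4, h5, h6⟩ := (cent_W O hg fun v hv => h v hv.1).elim fun v hv => O.inj hv.2 ▸ mem_W4.1 hv.1
  have e1 := ι_com O (h (y8 1) rfl)
  have e2 := ι_com O (h (x8 1) rfl)
  have e3 := ι_com O (h (x7 1) rfl)
  refine O.ι_mem_map.2 ?_
  simp only [UU.ext_iff] at e1 e2 e3
  uus [h1, h2, h3, h4, h5, h6] at e1 e2 e3
  rw [mem_V]
  grind

theorem cent_D (hg : g ∈ O.C) (h2 : ∀ a, Commute g (O.ι (x2 a))) (h8 : ∀ a, Commute g (O.ι (x8 a)))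
    (h4 : ∀ a, Commute g (O.ι (y4 a))) (h5 : ∀ a, Commute g (O.ι (x5 a)))
    (h6 : ∀ a, Commute g (O.ι (y6 a))) : ∃ u ∈ D K, g = O.ι u := by
  have h := (h6 1).mul_right (h6 1)
  rw [← map_mul, y6_sq, map_one, one_mul] at h
  obtain ⟨u, hu, rfl⟩ := O.cent_x6 hg one_ne_zero h
  refine ⟨u, ?_, rfl⟩
  have hu : u.a1 = 0 := hu
  have e1 := ι_com O (h5 1)
  have e2 := ι_com O (h2 1)
  simp only [UU.ext_iff] at e1 e2
  uus [hu] at e1 e2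
  have k1 : u.b8 = 0 := by grind
  have k2 : u.b2 = 0 := by grind
  have k3 : u.a8 = 0 := by grind
  have k4 : u.a7 = 0 := by grind
  have e3 := ι_com O (h8 1)
  have e4 := ι_com O (h4 1)
  have e5 := ι_com O (h6 1)
  simp only [UU.ext_iff] at e3 e4 e5
  uus [hu, k1, k2, k3, k4] at e3 e4 e5
  rw [mem_D]
  grind

theorem conj_mem_of {A : Subgroup G} (h1 : O.C ≤ Ns A) (v : UU K) {u : UU K} (h : O.ι u ∈ A) :
    O.ι (v * u * v⁻¹) ∈ A := by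
  rw [map_mul, map_mul, map_inv]
  exact mem_normalizer_conj (h1 (O.ι_mem v)) h

theorem W_le {A : Subgroup G} (h1 : O.C ≤ Ns A) (h2 : ∀ a, O.ι (x6 a) ∈ A) (h3 : ∀ a, O.ι (x4 a) ∈ A)
    {u : UU K} (hu : u ∈ W K) : O.ι u ∈ A := by
  obtain ⟨k1, k2, k3, k4, k5, k6, k7⟩ := hu
  have e2 : ∀ a, x2 a ∈ A.comap O.ι := fun a => by
    have := mem_normalizer_conj (h1 O.n_mem) (h2 a)
    rwa [O.cn (O.nx2 a)] at this
  have e6 : ∀ a, x6 a ∈ A.comap O.ι := h2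
  have e4 : ∀ a, x4 a ∈ A.comap O.ι := h3
  have e5 : ∀ a, x5 a ∈ A.comap O.ι := fun a => by
    have : x5 a = x8 1 * x2 a * (x8 1)⁻¹ * x2 a * x6 a * x4 (σ a) := by uw
    exact this ▸ mul_mem (mul_mem (mul_mem (conj_mem_of O h1 _ (e2 a)) (e2 a)) (e6 _)) (e4 _)
  have e3 : ∀ a, x3 a ∈ A.comap O.ι := fun a => by
    have := mem_normalizer_conj (h1 O.n_mem) (e5 a)
    rwa [O.cn (O.nx3 a)] at this
  exact C2.mem_of (Φ := A.comap O.ι) (C2.z0 x1_zero k1) (C2.z0 y8_zero k2) (C2.z0 y2_zero k3) (C2.z0 x8_zero k4) (C2.z0 y6_zero k5)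
    (C2.z0 y4_zero k6) (C2.z0 x7_zero k7) (e2 _) (e3 _) (e5 _) (e6 _) (e4 _)

theorem c81' (a b : K) : ∃ w ∈ W K, ∃ c, x8 a * x1 b * (x8 a)⁻¹ = x1 b * y6 (a * b) * y4 (a * σ b) * x7 c * w := by
  refine ⟨(x1 b * y6 (a * b) * y4 (a * σ b) * x7 (σ a * b))⁻¹ * (x8 a * x1 b * (x8 a)⁻¹), ?_, σ a * b, by group⟩
  rw [mem_W]
  uus
  grind

theorem Q_le {A : Subgroup G} (h1 : O.C ≤ Ns A) (h2 : ∀ a, O.ι (x7 a) ∈ A)
    (h3 : ∀ u ∈ W K ⊔ U4 K, O.ι u ∈ A) {u : UU K} (hu : u ∈ Q K) : O.ι u ∈ A := by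
  have e7 : ∀ a, x7 a ∈ A.comap O.ι := h2
  have e1 : ∀ a, x1 a ∈ A.comap O.ι := fun a => by
    have := mem_normalizer_conj (h1 O.n_mem) (h2 a)
    rwa [O.cn (O.nx1 a)] at this
  have eW : ∀ u ∈ W K, u ∈ A.comap O.ι := fun u hu => h3 u (mem_sup_left hu)
  have e4 : ∀ a, y4 a ∈ A.comap O.ι := fun a => h3 _ (mem_sup_right (by simp))
  have e6 : ∀ a, y6 a ∈ A.comap O.ι := fun a => by
    obtain ⟨w, hw, c, e⟩ := c81' a 1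
    have : x8 a * x1 1 * (x8 a)⁻¹ ∈ A.comap O.ι := conj_mem_of O h1 _ (e1 1)
    rw [e, mul_mem_cancel_right (eW w hw), mul_mem_cancel_right (e7 _), mul_mem_cancel_right (e4 _),
      mul_mem_cancel_left (e1 _), mul_one] at this
    exact this
  have e2 : ∀ a, y2 a ∈ A.comap O.ι := fun a => by
    have := mem_normalizer_conj (h1 O.n_mem) (e6 a)
    rwa [O.cn (O.ny2 a)] at this
  refine C2.mem_of (Φ := A.comap O.ι) (e1 _) (C2.z0 y8_zero hu.1) (e2 _) (C2.z0 x8_zero hu.2) (e6 _) (e4 _) (e7 _)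
    ?_ ?_ ?_ ?_ ?_ <;> exact eW _ (by simp)

theorem C_le_L : O.C ≤ O.GG := le_sup_left

theorem ι_mem_L (u : UU K) : O.ι u ∈ O.GG := C_le_L O (O.ι_mem u)

theorem η_NC (p : Kˣ × Kˣ) : O.η p ∈ Ns O.C := by
  have k : ∀ p, cj (O.η p) O.C ≤ O.C := fun p => cj_le_iff_le_cj_inv.2 (O.C_le
    (fun u => mem_cj_inv.2 (O.ηι p u ▸ O.ι_mem _))
    (fun β => mem_cj_inv.2 (by
      rw [O.hη, ← map_inv, ← map_mul, ← map_mul, mul_inv_cancel_comm, ← O.hη]; exact O.h_mem β))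
    (mem_cj_inv.2 (O.ηn p ▸ mul_mem (O.h_mem _) O.n_mem)))
  exact cj_eq_self_iff.1 (le_antisymm (k p) (cj_inv_le_iff_le_cj.1 (map_inv O.η p ▸ k p⁻¹)))

theorem η_x4 (p : Kˣ × Kˣ) (a : K) : O.η p * O.ι (x4 a) * (O.η p)⁻¹ =
    O.ι (x4 ((p.1 : K) ^ 2 * σ (p.1 : K) * (p.2 : K) ^ 3 * σ (p.2 : K) ^ 2 * a)) := by rw [O.ηι, tor_x4]

theorem η_cz (p : Kˣ × Kˣ) (k : ZMod 8) :
    ∃ c : K, c ≠ 0 ∧ ∀ a, O.η p * cz O k a * (O.η p)⁻¹ = cz O k (c * a) := by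
  obtain ⟨p', e⟩ := rot_η O (-k) p
  refine ⟨(p'.1 : K) ^ 2 * σ (p'.1 : K) * (p'.2 : K) ^ 3 * σ (p'.2 : K) ^ 2, by simp, fun a => ?_⟩
  rw [← rot_back O e, neg_neg, cz, ← rot_conj, η_x4, cz]

variable [Finite K]

theorem rw_mem (k : ZMod 8) : rw O k ∈ O.GG := Cx.φ_mem O O.m_mem (C_le_L O O.n_mem) _

theorem rot_mem (k : ZMod 8) (hg : g ∈ O.GG) : rot O k g ∈ O.GG :=
  mul_mem (mul_mem (rw_mem O k) hg) (inv_mem (rw_mem O k))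

theorem cz_mem (k : ZMod 8) (a : K) : cz O k a ∈ O.GG := rot_mem O k (ι_mem_L O _)

theorem S4_le : S4 O ≤ O.GG := cj_le_of_mem_of_le (rw_mem O 6) ((S8_le O).trans (C_le_L O))

theorem exists_σu (b : Kˣ) : ∃ β, σu β = b := by
  obtain ⟨c, hc⟩ := exists_σ (b : K)
  exact ⟨Units.mk0 c (by rintro rfl; exact b.ne_zero (by rw [← hc, map_zero])), Units.ext hc⟩

theorem η_dec (p : Kˣ × Kˣ) : ∃ α β, O.η p = h4 O α * O.h β := by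
  obtain ⟨β, hβ⟩ := exists_σu p.2
  refine ⟨p.1 * (β * σu β), β, ?_⟩
  rw [h4_eq, O.hη, jL_eq, ← map_mul, Prod.mk_mul_mk, mul_inv_cancel_right, one_mul, hβ]

theorem h4_x4 (β : Kˣ) (a : K) :
    h4 O β * O.ι (x4 a) * (h4 O β)⁻¹ = O.ι (x4 ((β : K) ^ 2 * σ (β : K) * a)) := by
  rw [h4_eq, η_x4]; simp

theorem exists_N2u {c : K} (hc : c ≠ 0) : ∃ β : Kˣ, (β : K) ^ 2 * σ (β : K) = c := by
  obtain ⟨b, hb⟩ := exists_N2 c
  exact ⟨Units.mk0 b (by rintro rfl; exact hc (by simp [← hb])), hb⟩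

theorem exists_N1u {c : K} (hc : c ≠ 0) : ∃ β : Kˣ, (β : K) * σ (β : K) = c := by
  obtain ⟨b, hb⟩ := exists_N1 c
  exact ⟨Units.mk0 b (by rintro rfl; exact hc (by simp [← hb])), hb⟩

theorem η_cz_onto (k : ZMod 8) {c : K} (hc : c ≠ 0) :
    ∃ p, ∀ a, O.η p * cz O k a * (O.η p)⁻¹ = cz O k (c * a) := by
  obtain ⟨β, hβ⟩ := exists_N2u hc
  obtain ⟨p, e⟩ := rot_η O k (β, 1)
  exact ⟨p, fun a => by rw [← e, cz, ← rot_conj, ← h4_eq, h4_x4, hβ, cz]⟩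

theorem σ_ne_self {a : K} (h0 : a ≠ 0) (h1 : a ≠ 1) : σ a ≠ a := fun e => by
  have := σσ a
  rw [e, e] at this
  grind

theorem fix_T5c (q : 2 < Nat.card K) {u : UU K} (h : O.ι u ∈ Cs (T5c O)) : u ∈ U5 K := by
  obtain ⟨b, hb⟩ := exists_unit_ne q
  have h1 := h _ ((mem_T5c O).2 ⟨b, rfl⟩)
  rw [← mul_inv_eq_iff_eq_mul, O.ηι] at h1
  have h2 := O.inj h1
  have b0 := b.ne_zero
  have b1 : (b : K) ≠ 1 := fun e => hb (Units.ext e)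
  have n1 := σ_ne_self b0 b1
  have n2 := σ_ne_zero b
  have n3 := N1_ne hb
  have n4 := σ_ne hb
  simp only [UU.ext_iff, tor_a1, tor_b8, tor_b2, tor_a8, tor_b6, tor_b4, tor_a7, tor_a2, tor_a3,
    tor_a5, tor_a6, tor_a4, Units.val_inv_eq_inv_val, Units.val_pow_eq_pow_val, map_inv₀, map_pow, σσ] at h2
  obtain ⟨k1, k2, k3, k4, k5, k6, k7, k8, k9, -, k11, k12⟩ := h2
  refine ⟨C3.z0 k1 ?_, C3.z0 k2 ?_, C3.z0 k3 ?_, C3.z0 k4 ?_, C3.z0 k5 ?_, C3.z0 k6 ?_, C3.z0 k7 ?_,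
    C3.z0 k8 ?_, C3.z0 k9 ?_, C3.z0 k11 ?_, C3.z0 k12 ?_⟩ <;>
    (clear * - b0 b1 n1 n2 n3 n4; intro e; (try field_simp at e); grind)

theorem fix_mhm (q : 2 < Nat.card K) {u : UU K} (hu : u ∈ W K)
    (h : ∀ β, Commute (O.ι u) (O.m * O.h β * O.m⁻¹)) : u ∈ V6 K := by
  obtain ⟨b, hb⟩ := exists_unit_ne q
  have h1 := (h b).symm.eq
  rw [mhm, ← mul_inv_eq_iff_eq_mul, O.ηι] at h1
  have h2 := O.inj h1
  have b0 := b.ne_zero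
  have b1 : (b : K) ≠ 1 := fun e => hb (Units.ext e)
  have n2 := σ_ne_zero b
  have n3 := N1_ne hb
  have n4 := N2_ne hb
  simp only [UU.ext_iff, tor_a2, tor_a3, tor_a5, tor_a4, Units.val_inv_eq_inv_val, Units.val_mul, coe_σu,
    map_inv₀, map_mul, σσ] at h2
  obtain ⟨-, -, -, -, -, -, -, k8, k9, k10, -, k12⟩ := h2
  obtain ⟨j1, j2, j3, j4, j5, j6, j7⟩ := hu
  refine ⟨j1, j2, j3, j4, j5, j6, j7, C3.z0 k8 ?_, C3.z0 k9 ?_, C3.z0 k10 ?_, C3.z0 k12 ?_⟩ <;>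
    (clear * - b0 b1 n2 n3 n4; intro e; (try field_simp at e); grind)

theorem x4_mem_Z (a : K) : O.ι (x4 a) ∈ O.Z := O.mem_Z.2 ⟨a, rfl⟩

theorem ι_ne {u : UU K} (h : u ≠ 1) : O.ι u ≠ 1 := fun e => h (O.inj (e.trans (map_one _).symm))

theorem mem_C_of (hg : g ∈ O.GG) (h : Commute g (O.ι (x4 1))) : g ∈ O.C :=
  O.cent (x4_mem_Z O 1) (ι_ne O (by simp)) hg h

theorem L_inf (hg : g ∈ O.GG) (h : g ∈ Cs O.GG) : g = 1 := by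
  have h1 := O.cent_Q (mem_C_of O hg (h _ (ι_mem_L O _)).symm)
    fun x hx => h x (C_le_L O (O.map_le_C _ hx))
  refine O.eq_one_of_Z_V6 h1 ?_
  obtain ⟨c, rfl⟩ := O.mem_Z.1 h1
  exact O.mem_V6.2 ⟨c, by rw [← mx4, h _ O.m_mem, mul_inv_cancel_right]⟩

theorem L_perf (q : 2 < Nat.card K) : ⁅O.GG, O.GG⁆ = O.GG := by
  refine le_antisymm (commutator_le_self _) (sup_le ?_ ?_)
  · exact (O.perfect q).ge.trans (commutator_mono (C_le_L O) (C_le_L O))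
  · rw [← O.perfect q, cj_commutator]
    exact commutator_mono le_sup_right le_sup_right

theorem L_le (q : 2 < Nat.card K) {A : Subgroup G} (h : ∀ k a, cz O k a ∈ A) : O.GG ≤ A := by
  let B : Subgroup G := closure {g | ∃ k a, g = cz O k a}
  have hB : ∀ k a, cz O k a ∈ B := fun k a => subset_closure ⟨k, a, rfl⟩
  refine le_trans (b := B) ?_ ((closure_le _).2 (by rintro _ ⟨k, a, rfl⟩; exact h k a))
  have cl : ∀ x, (∀ k a, x * cz O k a * x⁻¹ ∈ B) → ∀ g ∈ B, x * g * x⁻¹ ∈ B := fun x hx g hg =>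
    mem_cj_inv.1 ((closure_le _).2 (by rintro _ ⟨k, a, rfl⟩; exact mem_cj_inv.2 (hx k a)) hg)
  have hr : ∀ k, ∀ g ∈ B, rot O k g ∈ B := fun k => cl _ fun j a => ((rot_cz O k j a).symm ▸ hB _ a : rot O k _ ∈ B)
  have hn : ∀ g ∈ B, O.n * g * O.n⁻¹ ∈ B := cl _ fun j a => (n_cz O j a).symm ▸ hB _ a
  have e4 : ∀ a, x4 a ∈ B.comap O.ι := fun a => (cz0 O a ▸ hB 0 a : O.ι _ ∈ B)
  have e6 : ∀ a, x6 a ∈ B.comap O.ι := fun a => (cz1 O a ▸ hB 1 a : O.ι _ ∈ B)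
  have e8 : ∀ a, x8 a ∈ B.comap O.ι := fun a => (cz2 O a ▸ hB 2 a : O.ι _ ∈ B)
  have e2 : ∀ a, x2 a ∈ B.comap O.ι := fun a => (cz7 O a ▸ hB 7 a : O.ι _ ∈ B)
  have e5 : ∀ a, x5 a ∈ B.comap O.ι := fun a => by
    have : x5 a = x8 1 * x2 a * (x8 1)⁻¹ * x2 a * x6 a * x4 (σ a) := by uw
    exact this ▸ mul_mem (mul_mem (mul_mem (mul_mem (mul_mem (e8 _) (e2 a)) (inv_mem (e8 _))) (e2 a)) (e6 _)) (e4 _)
  have e7 : ∀ a, x7 a ∈ B.comap O.ι := fun a => (rot1_x5 O a ▸ hr 1 _ (e5 a) : O.ι _ ∈ B)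
  have e3 : ∀ a, x3 a ∈ B.comap O.ι := fun a => (rot_back O (rot1_x3 O a) ▸ hr _ _ (e5 a) : O.ι _ ∈ B)
  have e1 : ∀ a, x1 a ∈ B.comap O.ι := fun a => (rot_back O (rot1_x1 O a) ▸ hr _ _ (e3 a) : O.ι _ ∈ B)
  have e64 : ∀ a b, y6 (a * b) * y4 (a * σ b) ∈ B.comap O.ι := fun a b => by
    obtain ⟨w, ⟨k1, k2, k3, k4, k5, k6, k7⟩, c, e⟩ := c81' a b
    have := mul_mem (mul_mem (e8 a) (e1 b)) (inv_mem (e8 a))
    rwa [e, mul_mem_cancel_right (C2.mem_of (C2.z0 x1_zero k1) (C2.z0 y8_zero k2) (C2.z0 y2_zero k3) (C2.z0 x8_zero k4)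
      (C2.z0 y6_zero k5) (C2.z0 y4_zero k6) (C2.z0 x7_zero k7) (e2 _) (e3 _) (e5 _) (e6 _) (e4 _)),
      mul_mem_cancel_right (e7 _), mul_assoc, mul_mem_cancel_left (e1 _)] at this
  obtain ⟨z, z0, z1⟩ := exists_ne01 q
  have zs := σ_ne_self z0 z1
  have f4 : ∀ a, y4 a ∈ B.comap O.ι := fun a => by
    have h0 := e64 (a / (z + σ z) * z) 1
    simp only [mul_one, map_one] at h0
    have h1 := mul_mem (inv_mem h0) (e64 (a / (z + σ z)) z)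
    rw [mul_inv_rev, mul_assoc (y4 _)⁻¹, inv_mul_cancel_left, y4_inv,
      mul_assoc (y4 _), x4_comm, ← mul_assoc (y4 _), y4_add, mul_mem_cancel_right (e4 _),
      mul_mem_cancel_right (e4 _)] at h1
    convert h1
    grind
  have f6 : ∀ a, y6 a ∈ B.comap O.ι := fun a => (rot1_y4 O a ▸ hr 1 _ (f4 a) : O.ι _ ∈ B)
  have f8 : ∀ a, y8 a ∈ B.comap O.ι := fun a => (rot2_y4 O a ▸ hr 2 _ (f4 a) : O.ι _ ∈ B)
  have f2 : ∀ a, y2 a ∈ B.comap O.ι := fun a => (rot7_y4 O a ▸ hr 7 _ (f4 a) : O.ι _ ∈ B)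
  have hS : ∀ u, O.ι u ∈ B := eq_top_of e1 f8 f2 e8 f6 f4 e7 e2 e3 e5 e6 e4
  have hn' : O.n ∈ B := by
    obtain ⟨-, -, e⟩ := O.rk (x8 1) (by simp) (by simp)
    obtain ⟨δ, hδ⟩ := exists_unit_sq (ρ (x8 1)).2.1⁻¹
    have h3 := O.conj_h_big (ρ (x8 1)).1 (ρ (x8 1)).2.2 (ρ (x8 1)).2.1 δ
    rw [← e, hδ, mul_inv_cancel, map_one, mul_one] at h3
    have h4 := hn _ (hS (tl δ⁻¹ (x8 1)))
    rw [← O.hι, ← conj_mul, ← conj_mul, ← conj_inv, O.nh, inv_inv, h3] at h4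
    exact (mul_mem_cancel_left (hS _)).1 ((mul_mem_cancel_right (hS _)).1 h4)
  have hC : O.C ≤ B := O.C_le_of (by rintro _ ⟨u, rfl⟩; exact hS u) hn'
  refine sup_le hC (cj_le_iff.2 fun c hc => ?_)
  have := hr 1 _ (hn _ (hC hc))
  rwa [rot1, O.cn rfl] at this

/-- Non additive maps. -/
theorem nadd1 (q : 2 < Nat.card K) : ∃ a b : K, (a + b) * σ (a + b) ≠ a * σ a + b * σ b := by
  obtain ⟨z, z0, z1⟩ := exists_ne01 q
  have := σ_ne_self z0 z1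
  refine ⟨1, z, ?_⟩
  simp only [map_add, map_one]
  grind

theorem nadd2 (q : 2 < Nat.card K) : ∃ a b : K, σ (a + b) / (a + b) ≠ σ a / a + σ b / b := by
  obtain ⟨z, z0, z1⟩ := exists_ne01 q
  obtain ⟨w, rfl⟩ := exists_σ z
  refine ⟨1, σ w, fun e => ?_⟩
  have h1 : σ (σ w) = σ w ^ 2 := by
    rw [map_add, map_one] at e
    grind
  rw [← σσ] at h1
  exact σ_ne_self z0 z1 (σ.injective h1).symm

theorem nadd3 (q : 2 < Nat.card K) :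
    ∃ a b : K, (a + b) ^ 2 / σ (a + b) ≠ a ^ 2 / σ a + b ^ 2 / σ b := by
  obtain ⟨a, b, h⟩ := nadd2 q
  exact ⟨a, b, fun e => h (σ.injective (by simpa only [map_div₀, map_add σ (σ a / a), σσ] using e))⟩

end Cfsg.Lib.SRe
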