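import Cfsg.Agent.SRe.Gen

/-!
# Standard subgroups of type ²F₄(q): rotations, the torus, the two Suzuki subgroups
-/

set_option autoImplicit false
set_option linter.unusedSectionVars false

namespace Cfsg.Lib.SRe

open Subgroup Function Cfsg.Lib.Trans Cfsg.Lib.Oct Cfsg.Lib.Oct.UU
open Cfsg.Lib.Gold hiding Oc
open Cfsg.Lib.Chev (Tw SzModel)
open scoped commutatorElement

variable {K : Type*} [Field K] [TwF K] {ρ : RK K} {G : Type*} [Group G] (O : Oc ρ G) {g g' : G}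

theorem rw_add (j k : ZMod 8) : rw O (j + k) = rw O j * rw O k := by
  rw [rw, rw, rw, ← map_mul, DihedralGroup.r_mul_r]

theorem rw_zero : rw O 0 = 1 := by rw [rw, ← DihedralGroup.one_def, map_one]

theorem rw_one : rw O 1 = O.m * O.n := by
  rw [← Cx.φ_m, ← Cx.φ_n, ← map_mul]; rfl

theorem rw_neg (k : ZMod 8) : rw O (-k) = (rw O k)⁻¹ := by
  rw [eq_inv_iff_mul_eq_one, ← rw_add, neg_add_cancel, rw_zero]

theorem rot_rot (j k : ZMod 8) (g : G) : rot O j (rot O k g) = rot O (j + k) g := by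
  rw [rot, rot, rot, rw_add]; group

theorem rot_zero (g : G) : rot O 0 g = g := by rw [rot, rw_zero]; group

theorem rot_mul (k : ZMod 8) (g g' : G) : rot O k (g * g') = rot O k g * rot O k g' := by
  rw [rot, rot, rot]; group

theorem rot_inv (k : ZMod 8) (g : G) : rot O k g⁻¹ = (rot O k g)⁻¹ := by rw [rot, rot]; group

theorem rot_one (k : ZMod 8) : rot O k 1 = 1 := by rw [rot]; group

theorem rot_cm (k : ZMod 8) (g g' : G) : rot O k ⁅g, g'⁆ = ⁅rot O k g, rot O k g'⁆ := by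
  simp only [commutatorElement_def, rot_mul, rot_inv]

theorem rot_conj (k : ZMod 8) (g g' : G) :
    rot O k (g * g' * g⁻¹) = rot O k g * rot O k g' * (rot O k g)⁻¹ := by
  simp only [rot_mul, rot_inv]

theorem rot_inj (k : ZMod 8) : Injective (rot O k) := fun _ _ e => (MulAut.conj (rw O k)).injective e

theorem rot_commute (k : ZMod 8) (h : Commute g g') : Commute (rot O k g) (rot O k g') := by
  rw [Commute, SemiconjBy, ← rot_mul, h.eq, rot_mul]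

theorem rot_back {k : ZMod 8} (h : rot O k g = g') : rot O (-k) g' = g := by
  rw [← h, rot_rot, neg_add_cancel, rot_zero]

theorem rot_mem_cj {k : ZMod 8} {A : Subgroup G} : rot O k g ∈ cj (rw O k) A ↔ g ∈ A := conj_mem_cj

theorem n_rw (k : ZMod 8) : O.n * rw O k = rw O (-k) * O.n := by
  rw [← Cx.φ_n, rw, rw, ← map_mul, ← map_mul]
  congr 1
  revert k
  decide

theorem m_eq : O.m = rw O 1 * O.n := by rw [rw_one, mul_assoc, O.nn, mul_one]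

theorem n_rot (k : ZMod 8) (g : G) : O.n * rot O k g * O.n⁻¹ = rot O (-k) (O.n * g * O.n⁻¹) := by
  rw [rot, rot]
  calc _ = O.n * rw O k * g * (O.n * rw O k)⁻¹ := by group
    _ = _ := by rw [n_rw]; group

theorem rw_n_rot (i k : ZMod 8) (g : G) :
    rw O i * O.n * rot O k g * (rw O i * O.n)⁻¹ = rot O (i - k) (O.n * g * O.n⁻¹) := by
  rw [sub_eq_add_neg, ← rot_rot, ← n_rot, rot.eq_1 O i]; group

theorem m_rot (k : ZMod 8) (g : G) : O.m * rot O k g * O.m⁻¹ = rot O (1 - k) (O.n * g * O.n⁻¹) := by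
  rw [← rw_n_rot, ← m_eq]

theorem rot_n (k : ZMod 8) : rot O k O.n = rw O (2 * k) * O.n := by
  rw [rot, ← rw_neg, mul_assoc, n_rw, neg_neg, ← mul_assoc, ← rw_add, two_mul]

theorem n4_eq : n4 O = rw O 4 * O.n := by rw [n4, rot_n]; rfl

theorem wk_eq (k : ZMod 8) : wk O k = rw O (2 * k + 4) * O.n := by
  rw [wk, n4, rot_rot, rot_n, mul_add]; rfl

theorem wk_zero : wk O 0 = n4 O := rot_zero O _

theorem wk_two : wk O 2 = O.n := by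
  rw [wk_eq, show (2 * 2 + 4 : ZMod 8) = 0 from rfl, rw_zero, one_mul]

theorem wk_rot (k j : ZMod 8) (g : G) :
    wk O k * rot O j g * (wk O k)⁻¹ = rot O (2 * k + 4 - j) (O.n * g * O.n⁻¹) := by
  rw [wk_eq, rw_n_rot]

theorem rot_wk (j k : ZMod 8) : rot O j (wk O k) = wk O (j + k) := rot_rot O j k _

theorem cm {a b : G} (h : O.m * a * O.m⁻¹ = b) : O.m * b * O.m⁻¹ = a := by
  rw [← h, O.m_inv]
  calc _ = O.m * O.m * a * (O.m * O.m) := by group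
    _ = _ := by rw [O.mm, one_mul, mul_one]

theorem rot1 (g : G) : rot O 1 g = O.m * (O.n * g * O.n⁻¹) * O.m⁻¹ := by rw [rot, rw_one]; group

theorem mx4 (a : K) : O.m * O.ι (x4 a) * O.m⁻¹ = O.ι (x6 a) := cm O (O.mx6 a)

theorem rot1_x4 (a : K) : rot O 1 (O.ι (x4 a)) = O.ι (x6 a) := by rw [rot1, O.nx4, mx4]
theorem rot1_x6 (a : K) : rot O 1 (O.ι (x6 a)) = O.ι (x8 a) := by rw [rot1, O.cn (O.nx2 a), cm O (O.mx8 a)]
theorem rot1_x2 (a : K) : rot O 1 (O.ι (x2 a)) = O.ι (x4 a) := by rw [rot1, O.nx2, O.mx6]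
theorem rot1_y4 (a : K) : rot O 1 (O.ι (y4 a)) = O.ι (y6 a) := by rw [rot1, O.ny4, cm O (O.my6 a)]
theorem rot1_y6 (a : K) : rot O 1 (O.ι (y6 a)) = O.ι (y8 a) := by rw [rot1, O.cn (O.ny2 a), cm O (O.my8 a)]
theorem rot1_y2 (a : K) : rot O 1 (O.ι (y2 a)) = O.ι (y4 a) := by rw [rot1, O.ny2, O.my6]
theorem rot1_x1 (a : K) : rot O 1 (O.ι (x1 a)) = O.ι (x3 a) := by rw [rot1, O.nx1, O.mx7]
theorem rot1_x3 (a : K) : rot O 1 (O.ι (x3 a)) = O.ι (x5 a) := by rw [rot1, O.nx3, O.mx5]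
theorem rot1_x5 (a : K) : rot O 1 (O.ι (x5 a)) = O.ι (x7 a) := by rw [rot1, O.cn (O.nx3 a), cm O (O.mx7 a)]

theorem rot2 (g : G) : rot O 2 g = rot O 1 (rot O 1 g) := (rot_rot O 1 1 g).symm

theorem rot_cz (j k : ZMod 8) (a : K) : rot O j (cz O k a) = cz O (j + k) a := rot_rot O j k _
theorem cz0 (a : K) : cz O 0 a = O.ι (x4 a) := rot_zero O _
theorem cz1 (a : K) : cz O 1 a = O.ι (x6 a) := rot1_x4 O a
theorem cz2 (a : K) : cz O 2 a = O.ι (x8 a) := by rw [cz, rot2, rot1_x4, rot1_x6]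
theorem cz7 (a : K) : cz O 7 a = O.ι (x2 a) := rot_back O (rot1_x2 O a)
theorem rot2_y4 (a : K) : rot O 2 (O.ι (y4 a)) = O.ι (y8 a) := by rw [rot2, rot1_y4, rot1_y6]
theorem rot7_y4 (a : K) : rot O 7 (O.ι (y4 a)) = O.ι (y2 a) := rot_back O (rot1_y2 O a)
theorem n_cz (k : ZMod 8) (a : K) : O.n * cz O k a * O.n⁻¹ = cz O (-k) a := by rw [cz, n_rot, O.nx4, cz]
theorem m_cz (k : ZMod 8) (a : K) : O.m * cz O k a * O.m⁻¹ = cz O (1 - k) a := by rw [cz, m_rot, O.nx4, cz]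
theorem cz_add (k : ZMod 8) (a b : K) : cz O k (a + b) = cz O k a * cz O k b := by
  rw [cz, ← x4_add, map_mul, rot_mul]; rfl
theorem cz_inj {k : ZMod 8} {a b : K} (h : cz O k a = cz O k b) : a = b := x4_inj.1 (O.inj (rot_inj O k h))
theorem cz_zero (k : ZMod 8) : cz O k 0 = 1 := by rw [cz, x4_zero, map_one, rot_one]

theorem mι {u : UU K} (hu : u ∈ R K) : O.m * O.ι u * O.m⁻¹ = O.ι (ν1 u) ∧ ν1 u ∈ R K := by
  refine ⟨?_, ?_⟩
  · conv_lhs => rw [nf u, (mem_R.1 hu : u.a1 = 0), x1_zero, one_mul]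
    simp only [ν1, map_mul, ← conj_mul, O.my8, O.mx8, O.my6, O.mx6, O.mx7, O.mx5, cm O (O.my8 _), cm O (O.mx8 _),
      cm O (O.my6 _), cm O (O.mx6 _), cm O (O.mx7 _)]
  · refine mul_mem (mul_mem (mul_mem (mul_mem (mul_mem (mul_mem (mul_mem (mul_mem (mul_mem (mul_mem ?_ ?_) ?_) ?_)
      ?_) ?_) ?_) ?_) ?_) ?_) ?_ <;> rfl

theorem σu_σu (b : Kˣ) : σu (σu b) = b ^ 2 := Units.ext (by simp)

theorem jL_eq (β : Kˣ) : jL β = ((β * σu β)⁻¹, σu β) := Prod.ext (Units.ext (by simp [mul_comm])) rfl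

theorem n_η (p : Kˣ × Kˣ) : O.n * O.η p * O.n⁻¹ = O.η (p.1 * p.2 ^ 2 * σu p.2, p.2⁻¹) := by
  have e : O.n * O.η p * O.n⁻¹ = O.η p * (O.η p⁻¹ * O.n * (O.η p⁻¹)⁻¹) * O.n⁻¹ := by rw [map_inv]; group
  rw [e, O.ηn, mul_assoc, mul_inv_cancel_right, O.hη, ← map_mul, jL_eq]
  congr 1
  refine Prod.ext ?_ ?_ <;> simp only [Prod.fst_mul, Prod.snd_mul, Prod.snd_inv, σu_σu, map_inv]
  · rw [mul_inv, inv_inv, inv_inv, mul_assoc, mul_comm (σu _)]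
  · rw [sq, mul_inv, mul_inv_cancel_left]

theorem rot_η (k : ZMod 8) (p : Kˣ × Kˣ) : ∃ p', rot O k (O.η p) = O.η p' :=
  (mem_normalizer_conj (Cx.φ_norm O (.r k)) ⟨p, rfl⟩).imp fun _ e => e.symm

theorem rot1_η (p : Kˣ × Kˣ) :
    rot O 1 (O.η p) = O.η ((p.1 * p.2 ^ 2 * σu p.2)⁻¹, p.1 * p.2 * σu p.2) := by
  rw [rot1, n_η, O.mη]
  congr 2
  simp [sq, mul_assoc, mul_comm, mul_left_comm]

theorem rot2_η0 (β : Kˣ) : rot O 2 (O.η (β, 1)) = O.h β := by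
  rw [rot2, rot1_η, rot1_η, O.hη, jL_eq]
  congr 2 <;> simp [sq, mul_assoc]

theorem h4_eq (β : Kˣ) : h4 O β = O.η (β, 1) := rot_back O (rot2_η0 O β)

theorem rot2_h4 (β : Kˣ) : rot O 2 (h4 O β) = O.h β := by rw [h4_eq, rot2_η0]

theorem mhm (β : Kˣ) : O.m * O.h β * O.m⁻¹ = O.η (β * σu β, β⁻¹) := by
  rw [O.hη, jL_eq, O.mη]
  congr 2 <;> simp [mul_comm, mul_left_comm]

theorem rot2_h (β : Kˣ) : rot O 2 (O.h β) = h4 O β⁻¹ := by
  rw [rot2, rot1 O (O.h β), O.nh, mhm, rot1_η, h4_eq]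
  congr 2 <;> simp [sq, mul_assoc, mul_comm, mul_left_comm]

theorem mem_T5c : g ∈ T5c O ↔ ∃ b : Kˣ, g = O.η ((b ^ 2)⁻¹, b) := by
  refine exists_congr fun b => ?_
  rw [eq_comm, ← inv_pow]
  rfl

theorem m_T5c : O.m ∈ Ns (T5c O) := Cx.ns_of_sq O.mm fun x hx => by
  obtain ⟨b, rfl⟩ := (mem_T5c O).1 hx
  refine (mem_T5c O).2 ⟨b⁻¹, ?_⟩
  rw [O.mη]
  congr 2 <;> simp [sq]

theorem S8_le_iff {A : Subgroup G} :
    S8 O ≤ A ↔ (∀ a, O.ι (y8 a) ∈ A) ∧ (∀ a, O.ι (x8 a) ∈ A) ∧ (∀ β, O.h β ∈ A) ∧ O.n ∈ A := by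
  rw [S8, sup_le_iff, sup_le_iff, zpowers_le]
  refine ⟨fun ⟨⟨h1, h2⟩, h3⟩ => ⟨fun a => h1 ⟨_, by simp, rfl⟩, fun a => h1 ⟨_, by simp, rfl⟩,
    fun β => h2 ⟨β, rfl⟩, h3⟩, fun ⟨h1, h2, h3, h4⟩ => ⟨⟨?_, ?_⟩, h4⟩⟩
  · rintro _ ⟨u, hu, rfl⟩
    rw [eq_of_mem_U8 hu, map_mul]
    exact mul_mem (h1 _) (h2 _)
  · rintro _ ⟨β, rfl⟩
    exact h3 β

theorem rot6_y8 (a : K) : rot O 6 (O.ι (y8 a)) = O.ι (y4 a) := rot_back O (rot2_y4 O a)

theorem rot6_x8 (a : K) : rot O 6 (O.ι (x8 a)) = O.ι (x4 a) := rot_back O (cz2 O a)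

theorem S4_le_iff {A : Subgroup G} :
    S4 O ≤ A ↔ (∀ a, O.ι (y4 a) ∈ A) ∧ (∀ a, O.ι (x4 a) ∈ A) ∧ (∀ β, h4 O β ∈ A) ∧ n4 O ∈ A := by
  rw [S4, cj_le_iff_le_cj_inv, S8_le_iff]
  simp only [mem_cj_inv, ← rot6_y8, ← rot6_x8]
  rfl

theorem S8_le : S8 O ≤ O.C := (S8_le_iff O).2 ⟨fun _ => O.ι_mem _, fun _ => O.ι_mem _, O.h_mem, O.n_mem⟩

theorem U8_le_S8 {u : UU K} (hu : u ∈ U8 K) : O.ι u ∈ S8 O := mem_sup_left (mem_sup_left ⟨u, hu, rfl⟩)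
theorem h_mem_S8 (β : Kˣ) : O.h β ∈ S8 O := ((S8_le_iff O).1 le_rfl).2.2.1 β
theorem n_mem_S8 : O.n ∈ S8 O := ((S8_le_iff O).1 le_rfl).2.2.2

theorem U4_le_S4 {u : UU K} (hu : u ∈ U4 K) : O.ι u ∈ S4 O := by
  rw [eq_of_mem_U4 hu, map_mul]
  exact mul_mem (((S4_le_iff O).1 le_rfl).1 _) (((S4_le_iff O).1 le_rfl).2.1 _)

theorem n4_mem : n4 O ∈ S4 O := ((S4_le_iff O).1 le_rfl).2.2.2
theorem h4_mem (β : Kˣ) : h4 O β ∈ S4 O := ((S4_le_iff O).1 le_rfl).2.2.1 β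

theorem com_of {a b : G} (h : a * b * a⁻¹ = b) : Commute a b := mul_inv_eq_iff_eq_mul.1 h

theorem mem_Cs_S4 : g ∈ Cs (S4 O) ↔ (∀ a, Commute g (O.ι (y4 a))) ∧ (∀ a, Commute g (O.ι (x4 a))) ∧
    (∀ β, Commute g (h4 O β)) ∧ Commute g (n4 O) := by
  rw [← zpowers_le, le_centralizer_iff, S4_le_iff]
  have : ∀ x, x ∈ Cs (zpowers g) ↔ Commute g x := fun x => by
    rw [← zpowers_le, le_centralizer_iff, zpowers_le, ← zpowers_le, le_centralizer_iff, zpowers_le,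
      mem_centralizer_iff]
    exact ⟨fun h => h g (mem_zpowers g), fun h => by rintro _ ⟨k, rfl⟩; exact (h.zpow_left k).eq⟩
  simp only [this]

theorem n_h4 (β : Kˣ) : Commute O.n (h4 O β) := com_of (by rw [h4_eq, n_η]; simp)

theorem S8_S4 : S8 O ≤ Cs (S4 O) := by
  have e : ∀ u, O.n * O.ι u * O.n⁻¹ = O.ι u → Commute (rot O 2 (O.ι u)) (n4 O) := fun u h => by
    refine (com_of ?_).symm
    rw [← wk_zero, wk_rot, h]
    rfl
  have hι : ∀ {u v : UU K}, u * v = v * u → Commute (O.ι u) (O.ι v) := fun h => Commute.map h O.ι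
  have h4ι : ∀ (β : Kˣ) {u : UU K}, tor (β : K) 1 u = u → Commute (O.ι u) (h4 O β) := fun β u h =>
    (com_of (by rw [h4_eq, O.ηι]; exact congrArg _ h)).symm
  refine (S8_le_iff O).2 ⟨fun a => ?_, fun a => ?_, fun β => ?_, ?_⟩ <;> rw [mem_Cs_S4]
  · exact ⟨fun b => hι (by uu), fun b => hι (by uu), fun β => h4ι β (by rw [tor_y8, one_mul]),
      rot2_y4 O a ▸ e _ (O.ny4 a)⟩
  · exact ⟨fun b => hι (by uu), fun b => hι (by uu), fun β => h4ι β (by rw [tor_x8]; simp),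
      cz2 O a ▸ e _ (O.nx4 a)⟩
  · refine ⟨fun b => com_of (by rw [O.hι, tl_y4]), fun b => com_of (by rw [O.hι, tl_x4]), fun γ => ?_, ?_⟩
    · rw [h4_eq, O.hη]
      exact (Commute.all _ _).map O.η
    · have := rot_commute O 6 (n_h4 O β⁻¹)
      rw [← rot2_h, rot_rot, show (6 + 2 : ZMod 8) = 0 from rfl, rot_zero] at this
      exact this.symm
  · refine ⟨fun b => com_of (O.ny4 b), fun b => com_of (O.nx4 b), n_h4 O, com_of ?_⟩
    rw [n4, n_rot, mul_inv_cancel_right, rot_n, rot_n]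
    rfl

theorem rot2_S4 : cj (rw O 2) (S4 O) = S8 O := by
  rw [S4, cj_cj, ← rw_add, show (2 + 6 : ZMod 8) = 0 from rfl, rw_zero, cj_one]

theorem rot2_S8 : cj (rw O 2) (S8 O) = S4 O := by
  rw [← rot2_S4, cj_cj, ← rw_add, show rw O (2 + 2) = n4 O * O.n by
    rw [n4_eq, mul_assoc, O.nn, mul_one]; rfl, cj_mul, cj_eq_of_mem_centralizer (S8_S4 O (n_mem_S8 O)),
    cj_eq_of_mem (n4_mem O)]

end Cfsg.Lib.SRe
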