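import Cfsg.Agent.SRe.Defs
import Cfsg.Agent.Chev.SuzukiPart
import Cfsg.Agent.Gold.Cm

/-!
# Standard subgroups of type ²F₄(q): pairs of root groups
-/

set_option autoImplicit false
set_option linter.unusedSectionVars false

namespace Cfsg.Lib.SRe

open Subgroup Function Cfsg.Lib.Trans Cfsg.Lib.Oct Cfsg.Lib.Oct.UU
open Cfsg.Lib.Gold hiding Oc
open Cfsg.Lib.Chev (Tw SzModel)
open scoped commutatorElement

variable {K : Type*} [Field K] {G G' : Type*} [Group G] [Group G'] {y : Bool → K → G} {w g : G}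

theorem y_mem_Xs (x : K → G) (a : K) : x a ∈ Xs x := subset_closure ⟨a, rfl⟩

theorem Xs_le_RR (y : Bool → K → G) (s : Bool) : Xs (y s) ≤ RR y := by
  cases s
  exacts [le_sup_right, le_sup_left]

theorem y_mem_RR (y : Bool → K → G) (s : Bool) (a : K) : y s a ∈ RR y := Xs_le_RR y s (y_mem_Xs _ a)

theorem Xs_le {x : K → G} {A : Subgroup G} : Xs x ≤ A ↔ ∀ a, x a ∈ A :=
  ⟨fun h a => h (y_mem_Xs x a), fun h => (closure_le _).2 (by rintro _ ⟨a, rfl⟩; exact h a)⟩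

theorem RR_le {A : Subgroup G} : RR y ≤ A ↔ ∀ s a, y s a ∈ A :=
  ⟨fun h s a => h (y_mem_RR y s a), fun h => sup_le (Xs_le.2 (h true)) (Xs_le.2 (h false))⟩

theorem KK_le {A : Subgroup G} : KK y w ≤ A ↔ (∀ s a, y s a ∈ A) ∧ ∀ s a, w * y s a * w⁻¹ ∈ A := by
  rw [KK, sup_le_iff, RR_le, cj_le_iff_le_cj_inv, RR_le]
  simp only [mem_cj_inv]

theorem y_mem_KK (y : Bool → K → G) (w : G) (s : Bool) (a : K) : y s a ∈ KK y w :=
  (KK_le.1 le_rfl).1 s a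

theorem wy_mem_KK (y : Bool → K → G) (w : G) (s : Bool) (a : K) : w * y s a * w⁻¹ ∈ KK y w :=
  (KK_le.1 le_rfl).2 s a

theorem Pr.zero (h : Pr y) (s : Bool) : y s 0 = 1 := by
  have := h.add s 0 0
  rw [add_zero] at this
  exact left_eq_mul.1 this

theorem Pr.add_self (h : Pr y) (a : K) : a + a = 0 := by rw [← two_mul, h.two0, zero_mul]

theorem Pr.sq (h : Pr y) (s : Bool) (a : K) : y s a * y s a = 1 := by rw [← h.add, h.add_self, h.zero]

theorem Pr.inv (h : Pr y) (s : Bool) (a : K) : (y s a)⁻¹ = y s a := inv_eq_of_mul_eq_one_right (h.sq s a)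

theorem Pr.eq_one (h : Pr y) {s : Bool} {a : K} : y s a = 1 ↔ a = 0 := by
  refine ⟨fun e => ?_, fun e => e ▸ h.zero s⟩
  cases s
  · exact (h.ind 0 a (by rw [e, h.zero, one_mul])).2
  · exact (h.ind a 0 (by rw [e, h.zero, one_mul])).1

theorem Pr.mem_Xs (h : Pr y) {s : Bool} : g ∈ Xs (y s) ↔ ∃ a, g = y s a := by
  refine ⟨fun hg => ?_, by rintro ⟨a, rfl⟩; exact y_mem_Xs _ a⟩
  induction hg using closure_induction with
  | mem _ hy => obtain ⟨a, rfl⟩ := hy; exact ⟨a, rfl⟩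
  | one => exact ⟨0, (h.zero s).symm⟩
  | mul _ _ _ _ ha hb =>
    obtain ⟨a, rfl⟩ := ha
    obtain ⟨b, rfl⟩ := hb
    exact ⟨a + b, (h.add _ a b).symm⟩
  | inv _ _ ha =>
    obtain ⟨a, rfl⟩ := ha
    exact ⟨a, h.inv _ a⟩

theorem Pr.mul2 (h : Pr y) (s : Bool) (a b c d : K) :
    y s a * y (!s) b * (y s c * y (!s) d) = y s (a + c) * y (!s) (b + d) := by
  rw [(h.com _ _ b c).mul_mul_mul_comm, h.add, h.add]

theorem Pr.mem_RR (h : Pr y) : g ∈ RR y ↔ ∃ a b, g = y true a * y false b := by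
  refine ⟨fun hg => ?_, by rintro ⟨a, b, rfl⟩; exact mul_mem (y_mem_RR y _ a) (y_mem_RR y _ b)⟩
  let A : Subgroup G :=
    { carrier := {g | ∃ a b, g = y true a * y false b}
      one_mem' := ⟨0, 0, by rw [h.zero, h.zero, one_mul]⟩
      mul_mem' := by
        rintro _ _ ⟨a, b, rfl⟩ ⟨c, d, rfl⟩
        exact ⟨_, _, h.mul2 true a b c d⟩
      inv_mem' := by
        rintro _ ⟨a, b, rfl⟩
        exact ⟨a, b, by rw [mul_inv_rev, h.inv, h.inv, (h.com _ _ b a).eq]⟩ }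
  refine (RR_le (A := A)).2 (fun s a => ?_) hg
  cases s
  · exact ⟨0, a, by rw [h.zero, one_mul]⟩
  · exact ⟨a, 0, by rw [h.zero, mul_one]⟩

theorem Pr.eq_of_add (h : Pr y) {a b : K} (e : a + b = 0) : a = b := by
  linear_combination e - b * h.two0

theorem Pr.inj (h : Pr y) {a b c d : K} (e : y true a * y false b = y true c * y false d) :
    a = c ∧ b = d := by
  have h1 := h.mul2 true a b c d
  have h2 := h.mul2 true c d c d
  simp only [Bool.not_true] at h1 h2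
  rw [e, h2, h.add_self, h.add_self, h.zero, h.zero, one_mul] at h1
  exact (h.ind _ _ h1.symm).imp h.eq_of_add h.eq_of_add

theorem Pr.inj' (h : Pr y) {s : Bool} {a b c d : K} (e : y s a * y (!s) b = y s c * y (!s) d) :
    a = c ∧ b = d := by
  cases s
  · rw [(h.com _ _ a b).eq, (h.com _ _ c d).eq] at e
    exact (h.inj e).symm
  · exact h.inj e

theorem Pr.inj1 (h : Pr y) {s : Bool} {a b : K} (e : y s a = y s b) : a = b :=
  (h.inj' (s := s) (b := 0) (d := 0) (by rw [e])).1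

theorem Pr.mem_RR' (h : Pr y) (s : Bool) : g ∈ RR y ↔ ∃ a b, g = y s a * y (!s) b := by
  rw [h.mem_RR]
  cases s
  · exact ⟨fun ⟨a, b, e⟩ => ⟨b, a, e.trans (h.com _ _ a b).eq⟩, fun ⟨a, b, e⟩ => ⟨b, a, e.trans (h.com _ _ a b).eq⟩⟩
  · rfl

theorem Pr.RR_sq (h : Pr y) (hg : g ∈ RR y) : g * g = 1 := by
  obtain ⟨a, b, rfl⟩ := (h.mem_RR' true).1 hg
  rw [h.mul2, h.add_self, h.add_self, h.zero, h.zero, one_mul]

theorem Pr.RR_com (h : Pr y) {g' : G} (hg : g ∈ RR y) (hg' : g' ∈ RR y) : Commute g g' := by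
  obtain ⟨a, b, rfl⟩ := h.mem_RR.1 hg
  obtain ⟨c, d, rfl⟩ := h.mem_RR.1 hg'
  exact ((h.com ..).mul_right (h.com ..)).mul_left ((h.com ..).mul_right (h.com ..))

theorem Xs_map (φ : G →* G') (x : K → G) : Xs (fun a => φ (x a)) = (Xs x).map φ := by
  rw [Xs, Xs, MonoidHom.map_closure, ← Set.range_comp]; rfl

theorem RR_map (φ : G →* G') (y : Bool → K → G) : RR (fun s a => φ (y s a)) = (RR y).map φ := by
  rw [RR, RR, Subgroup.map_sup, Xs_map, Xs_map]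

theorem cj_map (φ : G →* G') (w : G) (A : Subgroup G) : cj (φ w) (A.map φ) = (cj w A).map φ := by
  simp only [cj, map_map]
  congr 1
  ext x
  simp

theorem KK_map (φ : G →* G') (y : Bool → K → G) (w : G) :
    KK (fun s a => φ (y s a)) (φ w) = (KK y w).map φ := by
  rw [KK, KK, Subgroup.map_sup, RR_map, cj_map]

theorem Ns_map {φ : G →* G'} (hφ : Injective φ) {A : Subgroup G} : φ g ∈ Ns (A.map φ) ↔ g ∈ Ns A := by
  rw [← cj_eq_self_iff, ← cj_eq_self_iff, cj_map, (map_injective hφ).eq_iff]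

theorem HH_map (φ : G →* G') (hφ : Injective φ) (y : Bool → K → G) (w : G) :
    HH (fun s a => φ (y s a)) (φ w) = (HH y w).map φ := by
  rw [HH, HH, KK_map, RR_map, cj_map]
  ext x
  constructor
  · rintro ⟨⟨⟨g, h1, rfl⟩, h2⟩, h3⟩
    exact ⟨g, ⟨⟨h1, (Ns_map hφ).1 h2⟩, (Ns_map hφ).1 h3⟩, rfl⟩
  · rintro ⟨g, ⟨⟨h1, h2⟩, h3⟩, rfl⟩
    exact ⟨⟨⟨g, h1, rfl⟩, (Ns_map hφ).2 h2⟩, (Ns_map hφ).2 h3⟩

theorem Pr.map (h : Pr y) (φ : G →* G') (hφ : Injective φ) : Pr (fun s a => φ (y s a)) where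
  two0 := h.two0
  add s a b := by rw [h.add, map_mul]
  com s s' a b := (h.com s s' a b).map φ
  ind a b e := h.ind a b (hφ (by rw [map_mul, e, map_one]))

theorem Tr.map (h : Tr y w) (φ : G →* G') (hφ : Injective φ) : Tr (fun s a => φ (y s a)) (φ w) where
  toPr := h.toPr.map φ hφ
  ww := by rw [← map_mul, h.ww, map_one]
  hc := by
    rw [HH_map φ hφ]
    rintro _ ⟨g, hg, rfl⟩ _ ⟨g', hg', rfl⟩
    exact (h.hc g hg g' hg').map φ
  ho := by
    rw [HH_map φ hφ]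
    rintro _ ⟨g, hg, rfl⟩
    rw [orderOf_injective φ hφ]
    exact h.ho g hg
  act := by
    rw [HH_map φ hφ]
    rintro _ ⟨g, hg, rfl⟩ s
    obtain ⟨c, hc⟩ := h.act g hg s
    exact ⟨c, fun a => by rw [← hc, map_mul, map_mul, map_inv]⟩
  all c d hc hd := by
    obtain ⟨g, hg, h1, h2⟩ := h.all c d hc hd
    exact ⟨φ g, HH_map φ hφ y w ▸ ⟨g, hg, rfl⟩, fun a => by rw [← h1, map_mul, map_mul, map_inv],
      fun a => by rw [← h2, map_mul, map_mul, map_inv]⟩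

theorem conj_mem_HH {x : G} (h1 : cj x (KK y w) = KK y w)
    (h2 : cj x (Ns (RR y) ⊓ Ns (cj w (RR y))) = Ns (RR y) ⊓ Ns (cj w (RR y))) (hg : g ∈ HH y w) :
    x * g * x⁻¹ ∈ HH y w := by
  rw [HH, inf_assoc] at *
  exact ⟨h1 ▸ conj_mem_cj.2 hg.1, h2 ▸ conj_mem_cj.2 hg.2⟩

theorem Tr.w_mem (h : Tr y w) (hg : g ∈ HH y w) : w * g * w⁻¹ ∈ HH y w := by
  have e : cj w (cj w (RR y)) = RR y := by rw [cj_cj, h.ww, cj_one]
  exact conj_mem_HH (by rw [KK, cj_sup, e, sup_comm])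
    (by rw [cj_inf, cj_normalizer, cj_normalizer, e, inf_comm]) hg

theorem norm_HH (h1 : g ∈ Ns (RR y)) (h2 : g ∈ Ns (cj w (RR y))) {x : G} (hx : x ∈ HH y w) :
    g * x * g⁻¹ ∈ HH y w :=
  conj_mem_HH (by rw [KK, cj_sup, cj_eq_self_iff.2 h1, cj_eq_self_iff.2 h2])
    (by rw [cj_inf, cj_normalizer, cj_normalizer, cj_eq_self_iff.2 h1, cj_eq_self_iff.2 h2]) hx

theorem Tr.all' (h : Tr y w) (s : Bool) {c d : K} (hc : c ≠ 0) (hd : d ≠ 0) : ∃ g ∈ HH y w,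
    (∀ a, g * y s a * g⁻¹ = y s (c * a)) ∧ ∀ a, g * y (!s) a * g⁻¹ = y (!s) (d * a) := by
  cases s
  · obtain ⟨g, hg, h1, h2⟩ := h.all d c hd hc
    exact ⟨g, hg, h2, h1⟩
  · exact h.all c d hc hd

theorem exists_ne01 [Finite K] (q : 2 < Nat.card K) : ∃ a : K, a ≠ 0 ∧ a ≠ 1 := by
  by_contra h
  push Not at h
  have : (Set.univ : Set K) ⊆ {0, 1} := fun a _ => by
    by_cases e : a = 0
    exacts [Or.inl e, Or.inr (h a e)]
  have h1 := Set.ncard_le_ncard this (Set.toFinite _)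
  have h2 := Set.ncard_insert_le (0 : K) {1}
  rw [Set.ncard_univ] at h1
  rw [Set.ncard_singleton] at h2
  omega

/-- A conjugate of a root group lies in one of the two root groups. -/
theorem Tr.cj_le [Finite K] (h : Tr y w) (q : 2 < Nat.card K) (h1 : g ∈ Ns (RR y))
    (h2 : g ∈ Ns (cj w (RR y))) (s : Bool) : ∃ s', ∀ a, g * y s a * g⁻¹ ∈ Xs (y s') := by
  have orb : ∀ a, a ≠ 0 → ∀ a', a' ≠ 0 → ∃ k ∈ HH y w, k * (g * y s a * g⁻¹) * k⁻¹ = g * y s a' * g⁻¹ := by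
    intro a ha a' ha'
    obtain ⟨k, hk, e, -⟩ := h.all' s (div_ne_zero ha' ha) one_ne_zero
    refine ⟨_, norm_HH h1 h2 hk, ?_⟩
    rw [show a' = a' / a * a by field_simp, ← e]
    group
  have stab : ∀ k ∈ HH y w, ∀ s', ∀ x ∈ Xs (y s'), k * x * k⁻¹ ∈ Xs (y s') := fun k hk s' x hx => by
    obtain ⟨c, hc⟩ := h.act k hk s'
    obtain ⟨a, rfl⟩ := h.mem_Xs.1 hx
    rw [hc]
    exact y_mem_Xs _ _
  suffices ∃ s' a, a ≠ 0 ∧ g * y s a * g⁻¹ ∈ Xs (y s') by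
    obtain ⟨s', a, ha, hx⟩ := this
    refine ⟨s', fun a' => ?_⟩
    by_cases e : a' = 0
    · rw [e, h.zero, mul_one, mul_inv_cancel]; exact one_mem _
    obtain ⟨k, hk, e⟩ := orb a ha a' e
    exact e ▸ stab k hk s' _ hx
  obtain ⟨b, c, e⟩ := h.mem_RR.1 (mem_normalizer_conj h1 (y_mem_RR y s 1))
  by_cases hb : b = 0
  · exact ⟨false, 1, one_ne_zero, by rw [e, hb, h.zero, one_mul]; exact y_mem_Xs _ _⟩
  obtain ⟨z, z0, z1⟩ := exists_ne01 q
  obtain ⟨k, hk, e1, e2⟩ := h.all z 1 z0 one_ne_zero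
  obtain ⟨d, hd⟩ := h.act _ (norm_HH (inv_mem h1) (inv_mem h2) hk) s
  have e3 : g * y s (d * 1) * g⁻¹ = y true (z * b) * y false (1 * c) := by
    rw [← hd, ← e1, ← e2]
    calc _ = k * (g * y s 1 * g⁻¹) * k⁻¹ := by group
      _ = _ := by rw [e]; group
  have e4 : g * y s (1 + d * 1) * g⁻¹ = y true (b + z * b) := by
    have := h.mul2 true b c (z * b) (1 * c)
    simp only [Bool.not_true] at this
    rw [← e, ← e3, one_mul c, h.add_self, h.zero, mul_one (y _ _)] at this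
    rw [← this, h.add]
    group
  refine ⟨true, 1 + d * 1, fun e5 => ?_, by rw [e4]; exact y_mem_Xs _ _⟩
  rw [e5, h.zero, mul_one, mul_inv_cancel, eq_comm, h.eq_one] at e4
  exact z1 (mul_right_cancel₀ hb ((h.eq_of_add e4).symm.trans (one_mul b).symm))

theorem mem_of_odd {A : Subgroup G} (ho : Odd (orderOf g)) (h : g * g ∈ A) : g ∈ A := by
  obtain ⟨k, hk⟩ := ho
  have : g = ((g * g) ^ (k + 1)) := by
    rw [← sq, ← pow_mul, show 2 * (k + 1) = orderOf g + 1 by omega, pow_succ, pow_orderOf_eq_one, one_mul]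
  exact this ▸ pow_mem h _

/-- An element of odd order normalising both `RR` normalises both root groups. -/
theorem Tr.perm [Finite K] [Finite G] (h : Tr y w) (q : 2 < Nat.card K) (ho : Odd (orderOf g))
    (h1 : g ∈ Ns (RR y)) (h2 : g ∈ Ns (cj w (RR y))) (s : Bool) : g ∈ Ns (Xs (y s)) := by
  have le : ∀ {s s'}, (∀ a, g * y s a * g⁻¹ ∈ Xs (y s')) → cj g (Xs (y s)) ≤ Xs (y s') := fun hh =>
    cj_le_iff_le_cj_inv.2 (Xs_le.2 fun a => mem_cj_inv.2 (hh a))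
  obtain ⟨s1, e1⟩ := h.cj_le q h1 h2 s
  by_cases e : s1 = s
  · exact mem_normalizer_of_cj_le (le (e ▸ e1))
  obtain rfl : s1 = !s := by revert e; cases s <;> cases s1 <;> simp
  obtain ⟨s2, e2⟩ := h.cj_le q h1 h2 (!s)
  by_cases e' : s2 = s
  · subst e'
    exact mem_of_odd ho (mem_normalizer_of_cj_le (by rw [cj_mul]; exact (cj_mono g (le e1)).trans (le e2)))
  obtain rfl : s2 = !s := by revert e'; cases s <;> cases s2 <;> simp
  have : RR y ≤ Xs (y (!s)) := by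
    rw [← cj_eq_self_iff.2 h1, cj_le_iff_le_cj_inv, RR_le]
    intro s' a
    rw [mem_cj_inv]
    by_cases e : s' = s
    · exact e ▸ e1 a
    · obtain rfl : s' = !s := by revert e; cases s <;> cases s' <;> simp
      exact e2 a
  obtain ⟨a, e⟩ := h.mem_Xs.1 (this (y_mem_RR y s 1))
  exact absurd (h.inj' (s := s) (a := 1) (b := 0) (c := 0) (d := a)
    (by rw [h.zero, h.zero, mul_one, one_mul, e])).1 one_ne_zero

/-- An element normalising a root group and commuting with all scalars is a scalar. -/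
theorem Pr.scal (h : Pr y) {s : Bool} (h1 : g ∈ Ns (Xs (y s)))
    (h2 : ∀ c : K, c ≠ 0 → ∃ d, Commute g d ∧ ∀ a, d * y s a * d⁻¹ = y s (c * a)) :
    ∃ c, ∀ a, g * y s a * g⁻¹ = y s (c * a) := by
  obtain ⟨c, hc⟩ := h.mem_Xs.1 (mem_normalizer_conj h1 (y_mem_Xs (y s) 1))
  refine ⟨c, fun a => ?_⟩
  by_cases ha : a = 0
  · rw [ha, mul_zero, h.zero, mul_one, mul_inv_cancel]
  obtain ⟨d, e1, e2⟩ := h2 a ha
  rw [mul_comm c, ← e2, ← hc]
  conv_lhs => rw [← mul_one a, ← e2]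
  calc _ = g * d * y s 1 * (g * d)⁻¹ := by group
    _ = _ := by rw [e1.eq]; group

theorem sz_gen [Fintype K] {τ : Tw K} (M : SzModel τ G) : M.Z ⊔ cj M.w M.Z = ⊤ := by
  have mv : ∀ k ∈ Ns (M.Z ⊔ cj M.w M.Z), ∀ p, M.Zat p ≤ M.Z ⊔ cj M.w M.Z →
      M.Zat (k • p) ≤ M.Z ⊔ cj M.w M.Z := fun k hk p hp => by
    rw [M.Zat_smul, ← cj_eq_self_iff.2 hk]
    exact cj_mono k hp
  have hw : M.w ∈ Ns (M.Z ⊔ cj M.w M.Z) :=
    cj_eq_self_iff.1 (by rw [cj_sup, cj_cj, M.w_mul_w, cj_one, sup_comm])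
  have hT : ∀ b, M.T 0 b ∈ Ns (M.Z ⊔ cj M.w M.Z) := fun b => le_normalizer (mem_sup_left ⟨b, rfl⟩)
  have h0 : M.Zat M.inf ≤ M.Z ⊔ cj M.w M.Z := by rw [M.Zat_inf]; exact le_sup_left
  have h1 : ∀ x, M.Zat (M.pt x 0) ≤ M.Z ⊔ cj M.w M.Z → ∀ b, M.Zat (M.pt x b) ≤ M.Z ⊔ cj M.w M.Z :=
    fun x hx b => by simpa using mv _ (hT b) _ hx
  have h2 := h1 0 (by simpa using mv _ hw _ h0)
  refine M.eq_top_of_forall_Zat_le fun p => ?_
  rcases M.pt_cases p with rfl | ⟨x, b, rfl⟩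
  · exact h0
  by_cases hx : x = 0
  · exact hx ▸ h2 b
  obtain ⟨u, hu⟩ := τ.θ_surj x⁻¹
  have u0 : u ≠ 0 := by rintro rfl; exact inv_ne_zero hx (by rw [← hu, map_zero])
  have e : τ.N 0 (τ.θ u * u ^ 2) = u ^ 2 * x⁻¹ ^ 2 := by
    rw [← hu]; simp [Chev.Tw.N, τ.θθ]
  have := mv _ hw _ (h2 (τ.θ u * u ^ 2))
  rw [M.w_smul_pt (by rw [e]; simp [u0, hx]), e, zero_div, hu,
    show x⁻¹ * u ^ 2 / (u ^ 2 * x⁻¹ ^ 2) = x by field_simp] at this
  exact h1 x this b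

end Cfsg.Lib.SRe
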