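import Cfsg.Agent.SRe.Api

/-!
# Standard subgroups of type ²F₄(q): the group `Et`
-/

set_option autoImplicit false
set_option linter.unusedSectionVars false
set_option maxRecDepth 100000

namespace Cfsg.Lib.SRe

open Subgroup Function Cfsg.Lib.Trans Cfsg.Lib.Oct Cfsg.Lib.Oct.UU
open Cfsg.Lib.Gold hiding Oc
open Cfsg.Lib.Chev (Tw SzModel)
open scoped commutatorElement

universe u

variable {K : Type*} [Field K] [TwF K] {ρ : RK K} {G : Type u} [Group G]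
variable [Finite K] [Finite G] {O : Oc ρ G} {t : G} {y : Bool → K → G} {g g' a : G} {u : UU K}

namespace P4a

theorem ns (h1 : g ∈ Ns (Vt O y)) (h2 : g ∈ Ns O.C) : g ∈ Ns (Et O y) :=
  mem_Ns_iff.2 (by rw [Et, cj_ncl, mem_Ns_iff.1 h1, mem_Ns_iff.1 h2])

variable (h : H3 O t y)
include h

theorem Ec : Et O y ≤ Cs (Et O y) := by
  have k : ∀ j : ZMod 8, (∀ s s' a b, Commute (XX O y j s a) (XX O y 0 s' b)) →
      (∀ s s' a b, Commute (XX O y j s a) (XX O y 1 s' b)) → ∀ s a, XX O y j s a ∈ Cs (Vt O y) :=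
    fun j h0 h1 s a => mem_Cs.2 fun g hg => mem_C1.1 (Vt_le_iff.2
      ⟨fun s' b => mem_C1.2 (h0 s s' a b).symm, fun s' b => mem_C1.2 (h1 s s' a b).symm⟩ hg)
  exact ncl_le_of_le_Ns (le_Cs_comm.1 (h.Et_le (k 0 (h.cX 0 0 (by simp)) (h.cX 0 1 (by simp)))
    (k 1 (fun s s' a b => (h.c1 s' s b a).symm) (h.cX 1 0 (by simp))) fun v _ s a =>
      mem_normalizer_conj (mem_Ns_Cs (h.nU v)) (k 7 (h.cX 7 1 (by simp)) (h.cX 7 2 (by simp)) s a)))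
    fun c hc => mem_Ns_Cs (C_Et hc)

theorem com (h1 : g ∈ Et O y) (h2 : g' ∈ Et O y) : Commute g g' := Cs_com (Ec h h1) h2

theorem E2 (h1 : g ∈ Et O y) : g * g = 1 := by
  let A : Subgroup G :=
    { carrier := {g | g ∈ Et O y ∧ g * g = 1}
      one_mem' := ⟨one_mem _, mul_one 1⟩
      mul_mem' := fun a b => ⟨mul_mem a.1 b.1, by
        rw [(com h b.1 a.1).mul_mul_mul_comm, a.2, b.2, mul_one]⟩
      inv_mem' := fun a => ⟨inv_mem a.1, by rw [← mul_inv_rev, a.2, inv_one]⟩ }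
  exact (h.Et_le (A := A) (fun s a => ⟨X0_Et s a, (h.pr 0).sq s a⟩)
    (fun s a => ⟨X1_Et s a, (h.pr 1).sq s a⟩) (fun v _ s a =>
      ⟨mem_normalizer_conj (C_Et (O.ι_mem v)) (h.X7_Et s a), by
        rw [conj_mul, (h.pr 7).sq, mul_one, mul_inv_cancel]⟩) h1).2

theorem EW (hu : u ∈ W K) : O.ι u ∈ Et O y :=
  W_le O C_Et (fun a => Vt_le (mem_sup_right (cz1 O a ▸ h.cz_mem 1 a)))
    (fun a => Vt_le (mem_sup_left (cz0 O a ▸ h.cz_mem 0 a))) hu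

theorem tE : t ∈ Ns (Et O y) :=
  ns (mem_Ns_sup (h.t_RR 0) (h.t_RR 1)) (Cs_le_Ns (Cs_anti (C_le_L O) h.tc))

theorem τ_mul (h1 : g ∈ Et O y) (h2 : g' ∈ Et O y) :
    t * (g * g') * t⁻¹ * (g * g') = t * g * t⁻¹ * g * (t * g' * t⁻¹ * g') := by
  rw [← conj_mul, (com h (mem_normalizer_conj (tE h) h2) h1).mul_mul_mul_comm]

theorem τ_cj {c : G} (hc : c ∈ O.C) (g : G) :
    t * (c * g * c⁻¹) * t⁻¹ * (c * g * c⁻¹) = c * (t * g * t⁻¹ * g) * c⁻¹ := by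
  have k := h.tL (C_le_L O hc)
  calc _ = t * c * g * (t * c)⁻¹ * (c * g * c⁻¹) := by group
    _ = _ := by rw [k.eq]; group

theorem Eτ (h1 : g ∈ Et O y) : t * g * t⁻¹ * g ∈ (W K).map O.ι := by
  let A : Subgroup G :=
    { carrier := {g | g ∈ Et O y ∧ t * g * t⁻¹ * g ∈ (W K).map O.ι}
      one_mem' := ⟨one_mem _, by simp⟩
      mul_mem' := fun a b => ⟨mul_mem a.1 b.1, τ_mul h a.1 b.1 ▸ mul_mem a.2 b.2⟩
      inv_mem' := fun a => by rwa [inv_eq_of_mul_eq_one_right (E2 h a.1)] }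
  exact (h.Et_le (A := A) (fun s a => ⟨X0_Et s a, by rw [h.X_τ, cz0]; simp⟩)
    (fun s a => ⟨X1_Et s a, by rw [h.X_τ, cz1]; simp⟩) (fun v _ s a =>
      ⟨mem_normalizer_conj (C_Et (O.ι_mem v)) (h.X7_Et s a), by
        rw [τ_cj h (O.ι_mem v), h.X_τ, cz7]
        exact mem_normalizer_conj (O.C_le_NW (O.ι_mem v)) (by simp)⟩) h1).2

theorem Es (hu : u ∈ W K) : ∃ g ∈ Et O y, t * g * t⁻¹ * g = O.ι u := by
  let A : Subgroup G :=
    { carrier := {x | ∃ g ∈ Et O y, t * g * t⁻¹ * g = x}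
      one_mem' := ⟨1, one_mem _, by simp⟩
      mul_mem' := fun ⟨a, ha, e⟩ ⟨b, hb, e'⟩ => ⟨_, mul_mem ha hb, by rw [τ_mul h ha hb, e, e']⟩
      inv_mem' := fun ⟨a, ha, e⟩ => ⟨a, ha, by
        rw [← e, inv_eq_of_mul_eq_one_right (E2 h (mul_mem (mem_normalizer_conj (tE h) ha) ha))]⟩ }
  exact W_le O (A := A) (fun c hc => mem_normalizer_of_cj_le (cj_le_iff.2 fun _ ⟨a, ha, e⟩ =>
      ⟨_, mem_normalizer_conj (C_Et hc) ha, by rw [τ_cj h hc, e]⟩))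
    (fun a => ⟨_, X1_Et true a, by rw [h.X_τ, cz1]⟩) (fun a => ⟨_, X0_Et true a, by rw [h.X_τ, cz0]⟩) hu

theorem E4 : Et O y ≤ Cs ((W K ⊔ U4 K).map O.ι) :=
  ncl_le_of_le_Ns (Vt_le_iff.2 ⟨fun s a => com_Cs fun _ hc => h.X0_c s a (O.map_le_C _ hc),
    fun s a => com_Cs (by rintro _ ⟨u, hu, rfl⟩; exact h.X1_R s a (mem_W4.1 hu).1)⟩)
    fun _ hc => mem_Ns_Cs (C_le_NW4' O hc)

theorem Ek (h1 : g ∈ Et O y) (h2 : Commute g t) : ∃ u ∈ W K, g = O.ι u := by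
  have k : ∀ c ∈ O.C, c * c = 1 → (∀ u ∈ W K, Commute c (O.ι u)) → ∃ u ∈ W K, c = O.ι u :=
    fun c hc c2 e => by
    obtain ⟨u, hu, rfl⟩ := cent_W O hc e
    obtain ⟨h1, h2, h3, h4, h5, h6⟩ := mem_W4.1 hu
    have := congrArg UU.a4 (O.inj ((map_mul _ _ _).trans (c2.trans (map_one _).symm)))
    uus [h1, h2, h3, h4, h5, h6] at this
    have h7 : u.b4 * σ u.b4 = 0 := by have := two0 (K := K); grind
    exact ⟨u, ⟨h1, h2, h3, h4, h5, by simpa using h7, h6⟩, rfl⟩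
  obtain ⟨c, hc, rfl | rfl⟩ := h.toH0.two_mem h.two h2 (fun a => com h h1 (EW h (by simp))) (k := 1)
    (by rw [pow_one, sq, E2 h h1])
  · exact k _ hc (E2 h h1) fun u hu => com h h1 (EW h hu)
  obtain ⟨u, hu, rfl⟩ := k c hc (by
    have := E2 h h1
    rwa [(h.tL (C_le_L O hc)).mul_mul_mul_comm, h.t2, mul_one] at this) fun u hu => by
      simpa using (com h h1 (EW h hu)).mul_left (h.tι u).inv_left
  have := h.X_τ 0 true 1
  rw [(com h ((mul_mem_cancel_left (EW h hu)).1 h1) (X0_Et true 1)).eq, mul_inv_cancel_right,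
    (h.pr 0).sq, ← cz_zero O 0] at this
  exact absurd (cz_inj O this) zero_ne_one

end P4a

open P4a in
theorem p4a (h : H3 O t y) : H4 O t y where
  toH3 := h
  Ec _ h1 _ h2 := com h h1 h2
  E2 _ := E2 h
  EW _ := EW h
  Eτ _ h1 := let ⟨u, hu, e⟩ := Eτ h h1; ⟨u, hu, e.symm⟩
  Ek _ := Ek h
  Es _ := Es h
  E4 _ h1 u hu := Cs_com (E4 h h1) ⟨u, mem_sup_right hu, rfl⟩
  EO _ h1 o ho := (mem_C1.1 (ncl_le_of_le_Ns (X := C1 o) (Vt_le_iff.2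
    ⟨fun s a => mem_C1.2 (h.od_X ho 0 s a).symm, fun s a => mem_C1.2 (h.od_X ho 1 s a).symm⟩)
    (fun _ hc => le_normalizer (mem_C1.2 (Cs_com ho.1 (C_le_L O hc)).symm)) h1)).symm
  Eη p := ns (h.η_Vt p) (η_NC O p)
  Et' := tE h

end Cfsg.Lib.SRe
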