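import Cfsg.Agent.SRe.Api

/-!
# Standard subgroups of type ²F₄(q): the weights of the tori
-/

set_option autoImplicit false
set_option linter.unusedSectionVars false

namespace Cfsg.Lib.SRe

open Subgroup Function Cfsg.Lib.Trans Cfsg.Lib.Oct Cfsg.Lib.Oct.UU
open Cfsg.Lib.Gold hiding Oc
open Cfsg.Lib.Chev (Tw SzModel)
open scoped commutatorElement

variable {K : Type*} [Field K] [TwF K] {ρ : RK K} {G : Type*} [Group G]
variable [Finite K] [Finite G] {O : Oc ρ G} {t : G} {y : Bool → K → G} {g : G}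
variable {δ : Bool} {B : Bool → Bool → K → G}

namespace P5w

theorem conj_cm (x a b : G) : x * ⁅a, b⁆ * x⁻¹ = ⁅x * a * x⁻¹, x * b * x⁻¹⁆ := by
  simp only [commutatorElement_def]; group

theorem RR0_le : RR (XX O y 0) ≤ Et O y := RR_le.2 X0_Et

theorem RR1_le : RR (XX O y 1) ≤ Et O y := RR_le.2 X1_Et

theorem uniq (h : H5 O t y) {r u r' s v s' : G} (hr : r ∈ RR (XX O y 0)) (hu : u ∈ Ut O y)
    (hr' : r' ∈ RR (XX O y 1)) (hs : s ∈ RR (XX O y 0)) (hv : v ∈ Ut O y) (hs' : s' ∈ RR (XX O y 1))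
    (e : r * u * r' = s * v * s') : r = s ∧ u = v ∧ r' = s' := by
  have hc := mul_mem hr' (inv_mem hs')
  obtain ⟨e1, e2, e3⟩ := h.Ai _ (mul_mem (inv_mem hs) hr) _ (mul_mem hu (inv_mem hv)) _ hc (by
    rw [mul_assoc, mul_assoc u, (h.Ec _ (inv_mem hv).1 _ (RR1_le hc)).eq]
    calc _ = s⁻¹ * (r * u * r') * s'⁻¹ * v⁻¹ := by group
      _ = 1 := by rw [e]; group)
  exact ⟨(inv_mul_eq_one.1 e1).symm, mul_inv_eq_one.1 e2, mul_inv_eq_one.1 e3⟩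

theorem bb : ∀ e δ : Bool, ((e == δ) == δ) = e ∧ ∀ f, f = (e == δ) ∨ f = (e != δ) := by decide

/-- Comparison of the two sides of the conjugated relations. -/
theorem cmp (h : H8 O t y δ B) (hU : g ∈ Ns (Ut O y)) {μ c κ ν : Bool → K}
    (h7 : ∀ s a, g * XX O y 7 s a * g⁻¹ = XX O y 7 s (μ s * a))
    (h2 : ∀ s a, g * XX O y 2 s a * g⁻¹ = XX O y 2 s (c s * a))
    (h0 : ∀ s a, g * XX O y 0 s a * g⁻¹ = XX O y 0 s (κ s * a))
    (h1 : ∀ s a, g * XX O y 1 s a * g⁻¹ = XX O y 1 s (ν s * a)) :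
    (∀ e, κ (e == δ) = σ (μ e) * c (e == δ)) ∧ (∀ e, ν e = μ e * σ (c (e == δ))) ∧
      ∀ e f a, g * B e f a * g⁻¹ = B e f (μ e * c f * a) := by
  have key : ∀ e a, XX O y 0 (e == δ) (κ (e == δ) * (σ a * 1)) =
      XX O y 0 (e == δ) (σ (μ e * a) * (c (e == δ) * 1)) ∧
      g * B e (e == δ) (a * 1) * g⁻¹ = B e (e == δ) (μ e * a * (c (e == δ) * 1)) ∧
      XX O y 1 e (ν e * (a * σ 1)) = XX O y 1 e (μ e * a * σ (c (e == δ) * 1)) := fun e a =>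
    uniq h.toH5 (y_mem_RR _ _ _) (mem_normalizer_conj hU (h.Bm _ _ _)) (y_mem_RR _ _ _)
      (y_mem_RR _ _ _) (h.Bm _ _ _) (y_mem_RR _ _ _) (by
        rw [← h.r1, ← h7, ← h2, ← conj_cm, h.r1, ← h0, ← h1]; group)
  refine ⟨fun e => ?_, fun e => ?_, fun e f a => ?_⟩
  · simpa using (h.toHY.pr 0).inj1 (key e 1).1
  · simpa using (h.toHY.pr 1).inj1 (key e 1).2.2
  rcases (bb e δ).2 f with rfl | rfl
  · have := (key e a).2.1
    rw [mul_one, mul_one] at this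
    rw [this, mul_right_comm]
  · rw [mul_right_comm, ← mul_one (c _), ← h.r2, ← h7, ← h2, ← conj_cm, h.r2, mul_one]

theorem all (h : HY O t y) (k : ZMod 8) {c : Bool → K} (hc : ∀ s, c s ≠ 0) :
    ∃ g ∈ HH (XX O y k) (wk O k), ∀ s a, g * XX O y k s a * g⁻¹ = XX O y k s (c s * a) := by
  obtain ⟨g, hg, h1, h2⟩ := (h.tr_k k).all _ _ (hc true) (hc false)
  exact ⟨g, hg, fun s => by cases s; exacts [h2, h1]⟩

theorem fix {a : G} (h : Commute g a) : g * a * g⁻¹ = a := by rw [h.eq, mul_inv_cancel_right]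

end P5w

open P5w

/-- The weights of the first torus. -/
theorem H8.w0 (h : H8 O t y δ B) {c : Bool → K} (hc : ∀ s, c s ≠ 0) : ∃ g ∈ Ns (Ut O y),
    (∀ s a, g * XX O y 7 s a * g⁻¹ = XX O y 7 s (c s * a)) ∧
    (∀ s a, g * XX O y 1 s a * g⁻¹ = XX O y 1 s (c s * a)) ∧
    (∀ s a, g * XX O y 0 (s == δ) a * g⁻¹ = XX O y 0 (s == δ) (σ (c s) * a)) ∧
    (∀ s a, Commute g (XX O y 2 s a)) ∧ Commute g O.n ∧
    ∀ e f a, g * B e f a * g⁻¹ = B e f (c e * a) := by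
  obtain ⟨g, hg, h0⟩ := all h.toHY 0 (c := fun s => σ (c (s == δ))) fun s => (map_ne_zero σ).2 (hc _)
  obtain ⟨hs, hU⟩ := h.tH0 g hg
  choose μ hμ using hs
  have c2 : ∀ s a, Commute g (XX O y 2 s a) := fun s a => Cs_com (h.cK hg.1.1) (y_mem_KK _ _ _ _)
  obtain ⟨e1, e2, e3⟩ := cmp h hU (c := fun _ => 1) (hμ 7) (fun s a => by rw [one_mul, fix (c2 s a)])
    h0 (hμ 1)
  have e4 : ∀ e, μ 7 e = c e := fun e => (σ : K →+* K).injective (by simpa [(bb e δ).1] using (e1 e).symm)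
  refine ⟨g, hU, fun s a => by rw [hμ, e4], fun s a => by rw [hμ, e2, e4, map_one, mul_one],
    fun s a => by rw [h0, (bb s δ).1], c2, Cs_com (h.cK hg.1.1) (h.toHY.S8_le (n_mem_S8 O)),
    fun e f a => by rw [e3, e4, mul_one]⟩

/-- The weights of the second torus. -/
theorem H8.w2 (h : H8 O t y δ B) {c : Bool → K} (hc : ∀ s, c s ≠ 0) : ∃ g ∈ Ns (Ut O y),
    ∃ μ : Bool → K, (∀ e, σ (μ e) * c (e == δ) = 1) ∧
    (∀ s a, g * XX O y 2 s a * g⁻¹ = XX O y 2 s (c s * a)) ∧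
    (∀ s a, Commute g (XX O y 0 s a)) ∧
    (∀ s a, g * XX O y 7 s a * g⁻¹ = XX O y 7 s (μ s * a)) ∧
    (∀ s a, g * XX O y 1 s a * g⁻¹ = XX O y 1 s ((μ s)⁻¹ * a)) ∧
    (∀ e f a, g * B e f a * g⁻¹ = B e f (μ e * c f * a)) ∧
    ∀ e f a, g * (O.n * B e f a * O.n⁻¹) * g⁻¹ = O.n * B e f ((μ e * c f)⁻¹ * a) * O.n⁻¹ := by
  obtain ⟨g, hg, h2⟩ := all h.toHY 2 hc
  have c0 : ∀ x ∈ HH (XX O y 2) (wk O 2), ∀ s a, Commute x (XX O y 0 s a) := fun x hx s a =>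
    (Cs_com (h.cK (y_mem_KK _ _ _ _)) hx.1.1).symm
  have f0 : ∀ x ∈ HH (XX O y 2) (wk O 2), ∀ s a, x * XX O y 0 s a * x⁻¹ = XX O y 0 s (1 * a) :=
    fun x hx s a => by rw [one_mul, fix (c0 x hx s a)]
  obtain ⟨hs, hU⟩ := h.tH2 g hg
  choose μ hμ using hs
  obtain ⟨e1, e2, e3⟩ := cmp h hU (κ := fun _ => 1) (hμ 7) h2 (f0 g hg) (hμ 1)
  have e4 : ∀ e, μ 1 e = (μ 7 e)⁻¹ := fun e => eq_inv_of_mul_eq_one_right (by
    have := congrArg σ (e1 e)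
    rw [map_one, map_mul, σσ] at this
    rw [e2, this]; ring)
  have hg' : O.n * g * O.n⁻¹ ∈ HH (XX O y 2) (wk O 2) := wk_two O ▸ (h.toHY.tr_k 2).w_mem hg
  obtain ⟨hs', hU'⟩ := h.tH2 _ hg'
  choose κ hκ using hs'
  have e5 : ∀ e, κ 7 e = (μ 7 e)⁻¹ := fun e => by
    have := hκ 7 e 1
    rw [← show O.n * XX O y 1 e 1 * O.n⁻¹ = XX O y 7 e 1 from h.toH2.X_n 1 e 1,
      show O.n * g * O.n⁻¹ * (O.n * XX O y 1 e 1 * O.n⁻¹) * (O.n * g * O.n⁻¹)⁻¹ =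
        O.n * (g * XX O y 1 e 1 * g⁻¹) * O.n⁻¹ by group, hμ, h.toH2.X_n, e4] at this
    simpa using ((h.toHY.pr 7).inj1 this).symm
  obtain ⟨d1, -, d3⟩ := cmp h hU' (κ := fun _ => 1) (hκ 7) (hκ 2) (f0 _ hg') (hκ 1)
  have e6 : ∀ f, κ 2 f = (c f)⁻¹ := fun f => by
    have a1 := e1 (f == δ)
    have a2 := d1 (f == δ)
    rw [(bb f δ).1] at a1 a2
    rw [e5, map_inv₀] at a2
    have : σ (μ 7 (f == δ)) ≠ 0 := fun e => by simp [e] at a1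
    refine eq_inv_of_mul_eq_one_left ?_
    rw [((eq_inv_mul_iff_mul_eq₀ this).1 a2).symm, mul_one]
    exact a1.symm
  refine ⟨g, hU, μ 7, fun e => (e1 e).symm, h2, c0 g hg, hμ 7, fun s a => by rw [hμ, e4], e3,
    fun e f a => ?_⟩
  rw [mul_inv, ← e5, ← e6, ← d3, O.n_inv]
  calc _ = O.n * O.n * g * O.n * B e f a * O.n * g⁻¹ * (O.n * O.n) := by rw [O.nn]; group
    _ = _ := by rw [mul_inv_rev, mul_inv_rev, O.n_inv]; group

end Cfsg.Lib.SRe
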